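import Cfsg.Agent.AbelSolvCent.Maximal
import Cfsg.Agent.CharPLocal.Basic
import Cfsg.Agent.Solvable.Fitting

/-!
# The Bender pair in `W`

If a non-trivial abelian `r`-subgroup `B` of `W z`, normal in the stabilizer, fixes `g • z` and the
`q`-parts (`q ≠ r`) of the Fitting subgroups of `W z` and `W (g • z)` fix the other point each, then
`g • z = z`.
-/

set_option autoImplicit false
set_option linter.style.haveILetI false
set_option linter.unusedSectionVars false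

namespace CfsgLib.AbelSolvCent

open Subgroup CfsgLib.SEmbed

universe u v

variable {G : Type u} [Group G] [Finite G] {Ω : Type v} [MulAction G Ω]

/-- Two subgroups of coprime prime power orders normalizing each other commute. -/
theorem commute_of_mutual {q s : ℕ} [Fact q.Prime] [Fact s.Prime] (hqs : q ≠ s) {U V : Subgroup G}
    (hU : IsPGroup q U) (hV : IsPGroup s V) {x y : G} (hx : x ∈ U) (hy : y ∈ V)
    (hxV : x ∈ normalizer (V : Set G)) (hyU : y ∈ normalizer (U : Set G)) : Commute x y := by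
  have h1 : x * y * x⁻¹ * y⁻¹ ∈ V := mul_mem ((mem_normalizer_iff.1 hxV y).1 hy) (inv_mem hy)
  have h2 : x * y * x⁻¹ * y⁻¹ ∈ U := by
    rw [show x * y * x⁻¹ * y⁻¹ = x * (y * x⁻¹ * y⁻¹) by group]
    exact mul_mem hx ((mem_normalizer_iff.1 hyU _).1 (inv_mem hx))
  have h3 : x * y * x⁻¹ * y⁻¹ = 1 :=
    mem_bot.1 ((hU.disjoint_of_ne q s hqs U V hV).le_bot ⟨h2, h1⟩)
  exact mul_inv_eq_iff_eq_mul.1 (mul_inv_eq_one.1 h3)

/-- If `x` centralizes `Y` and `b` normalizes it, their commutator centralizes it. -/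
theorem commutator_commute {Y : Subgroup G} {x b : G} (hx : ∀ y ∈ Y, Commute x y)
    (hb : b ∈ normalizer (Y : Set G)) {y : G} (hy : y ∈ Y) :
    Commute (x * b * x⁻¹ * b⁻¹) y ∧ Commute (b * x * b⁻¹ * x⁻¹) y := by
  have hy' : b⁻¹ * y * b ∈ Y := (mem_normalizer_iff''.1 hb y).1 hy
  have h1 : x * (b⁻¹ * y * b) = b⁻¹ * y * b * x := (hx _ hy').eq
  have h2 : x * y = y * x := (hx _ hy).eq
  have h : Commute (x * b * x⁻¹ * b⁻¹) y := by
    show x * b * x⁻¹ * b⁻¹ * y = y * (x * b * x⁻¹ * b⁻¹)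
    calc x * b * x⁻¹ * b⁻¹ * y = x * b * (x⁻¹ * ((b⁻¹ * y * b) * x)) * x⁻¹ * b⁻¹ := by group
      _ = x * b * (x⁻¹ * (x * (b⁻¹ * y * b))) * x⁻¹ * b⁻¹ := by rw [h1]
      _ = (x * y) * b * x⁻¹ * b⁻¹ := by group
      _ = (y * x) * b * x⁻¹ * b⁻¹ := by rw [h2]
      _ = _ := by group
  refine ⟨h, ?_⟩
  rw [show b * x * b⁻¹ * x⁻¹ = (x * b * x⁻¹ * b⁻¹)⁻¹ by group]
  exact h.inv_left

/-- The part of a twisting element commuting with `b` disappears. -/
theorem pow_part_eq_one {C : Subgroup G} (hC : ∀ c ∈ C, ∀ d ∈ C, c * d = d * c) {b : G}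
    (hbC : b ∈ normalizer (C : Set G)) {c : G} (hc : c ∈ C) {R m : ℕ} (hb : b ^ R = 1)
    (hcb : (c * b) ^ R = 1) (hm : Commute b (c ^ m)) : (c ^ m) ^ R = 1 := by
  let f : ℕ → G → G := fun k d => (d * b) ^ k * (b ^ k)⁻¹
  have hcon : ∀ k : ℕ, ∀ d ∈ C, b ^ k * d * (b ^ k)⁻¹ ∈ C := fun k d hd =>
    (mem_normalizer_iff.1 (pow_mem hbC k) d).1 hd
  have hsucc : ∀ k d, f (k + 1) d = f k d * (b ^ k * d * (b ^ k)⁻¹) := fun k d => by
    show (d * b) ^ (k + 1) * (b ^ (k + 1))⁻¹ = (d * b) ^ k * (b ^ k)⁻¹ * (b ^ k * d * (b ^ k)⁻¹)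
    rw [pow_succ, pow_succ]
    group
  have hf : ∀ k, ∀ d ∈ C, f k d ∈ C := by
    intro k
    induction k with
    | zero => intro d _; simp [f]
    | succ k ih => intro d hd; rw [hsucc]; exact mul_mem (ih d hd) (hcon k d hd)
  have hmul : ∀ k, ∀ d ∈ C, ∀ e ∈ C, f k (d * e) = f k d * f k e := by
    intro k
    induction k with
    | zero => intro d _ e _; simp [f]
    | succ k ih =>
      intro d hd e he
      rw [hsucc, hsucc, hsucc, ih d hd e he,
        show b ^ k * (d * e) * (b ^ k)⁻¹ = b ^ k * d * (b ^ k)⁻¹ * (b ^ k * e * (b ^ k)⁻¹) by group]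
      generalize hA : f k d = A
      have hx := hC _ (hf k e he) _ (hcon k d hd)
      generalize f k e = B, b ^ k * d * (b ^ k)⁻¹ = X, b ^ k * e * (b ^ k)⁻¹ = Y at hx ⊢
      rw [mul_assoc A B, ← mul_assoc B, hx, mul_assoc X, ← mul_assoc A]
  have hfc : f R c = 1 := by show (c * b) ^ R * (b ^ R)⁻¹ = 1; rw [hcb, hb, inv_one, mul_one]
  have hpow : ∀ n, f R (c ^ n) = 1 := by
    intro n
    induction n with
    | zero => simp [f]
    | succ n ih => rw [pow_succ, hmul R _ (pow_mem hc n) c hc, ih, hfc, one_mul]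
  have h := hpow m
  simp only [f] at h
  rwa [hm.symm.mul_pow, hb, mul_one, inv_one, mul_one] at h

namespace Ctx

variable (c : Ctx G Ω)

/-- The `q`-part of the Fitting subgroup of `W z`. -/
noncomputable def Fp (q : ℕ) (z : Ω) : Subgroup G :=
  (Cfsg.pCore q ↥(c.W z)).map (c.W z).subtype

theorem Fp_le_W (q : ℕ) (z : Ω) : c.Fp q z ≤ c.W z := map_subtype_le _

theorem Fp_le_stab (q : ℕ) (z : Ω) : c.Fp q z ≤ MulAction.stabilizer G z :=
  (c.Fp_le_W q z).trans (c.W_le_stab z)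

theorem isPGroup_Fp (q : ℕ) (z : Ω) : IsPGroup q (c.Fp q z) :=
  (CfsgLib.Solvable.isPGroup_pCore q).map _

theorem stab_le_normalizer_Fp (q : ℕ) (z : Ω) :
    MulAction.stabilizer G z ≤ normalizer (c.Fp q z : Set G) := by
  haveI := CfsgLib.Solvable.pCore_characteristic (G := ↥(c.W z)) q
  exact (c.stab_le_normalizer_W z).trans
    (CfsgLib.Components.normalizer_le_normalizer_map_subtype (c.W z) (Cfsg.pCore q ↥(c.W z)))

theorem le_Fp {q : ℕ} {z : Ω} {X : Subgroup G} (hX : IsPGroup q X) (hXW : X ≤ c.W z)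
    (hN : c.W z ≤ normalizer (X : Set G)) : X ≤ c.Fp q z := by
  haveI : (X.subgroupOf (c.W z)).Normal := (normal_subgroupOf_iff_le_normalizer hXW).2 hN
  intro x hx
  exact ⟨⟨x, hXW hx⟩,
    CfsgLib.Solvable.le_pCore (N := X.subgroupOf (c.W z)) (hX.comap_of_injective _ (c.W z).subtype_injective)
      (mem_subgroupOf.2 hx), rfl⟩

theorem map_conj_Fp_le (q : ℕ) (g : G) (z : Ω) :
    (c.Fp q z).map (MulAut.conj g).toMonoidHom ≤ c.Fp q (g • z) := by
  refine c.le_Fp ((c.isPGroup_Fp q z).map _) ?_ ?_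
  · rw [W, c.conj g z]
    exact map_mono (c.Fp_le_W q z)
  · intro w hw
    have hw' : g⁻¹ * w * g ∈ normalizer (c.Fp q z : Set G) :=
      c.stab_le_normalizer_Fp q z (c.W_le_stab z (c.mem_W_smul.1 hw))
    rw [mem_normalizer_iff]
    intro x
    simp only [Subgroup.mem_map, MulEquiv.coe_toMonoidHom, MulAut.conj_apply]
    constructor
    · rintro ⟨y, hy, rfl⟩
      exact ⟨g⁻¹ * w * g * y * (g⁻¹ * w * g)⁻¹, (mem_normalizer_iff.1 hw' y).1 hy, by group⟩
    · rintro ⟨y, hy, he⟩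
      refine ⟨(g⁻¹ * w * g)⁻¹ * y * (g⁻¹ * w * g), (mem_normalizer_iff''.1 hw' y).1 hy, ?_⟩
      calc g * ((g⁻¹ * w * g)⁻¹ * y * (g⁻¹ * w * g)) * g⁻¹ = w⁻¹ * (g * y * g⁻¹) * w := by group
        _ = x := by rw [he]; group

theorem Fp_smul (q : ℕ) (g : G) (z : Ω) :
    c.Fp q (g • z) = (c.Fp q z).map (MulAut.conj g).toMonoidHom := by
  refine (eq_of_le_of_card_ge (c.map_conj_Fp_le q g z) ?_).symm
  have h := c.map_conj_Fp_le q g⁻¹ (g • z)
  rw [inv_smul_smul] at h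
  have h1 := card_le_of_le h
  rw [card_map_of_injective (MulAut.conj g⁻¹).injective] at h1
  rwa [card_map_of_injective (MulAut.conj g).injective]

theorem Fp_two (z : Ω) : c.Fp 2 z = ⊥ := by
  haveI : Fact (Nat.Prime 2) := ⟨Nat.prime_two⟩
  obtain ⟨n, hn⟩ := IsPGroup.iff_card.1 (c.isPGroup_Fp 2 z)
  rcases n.eq_zero_or_pos with rfl | h0
  · exact card_eq_one.1 (by simpa using hn)
  · exact absurd ((c.odd_W z).of_dvd_nat (card_dvd_of_le (c.Fp_le_W 2 z)))
      (Nat.not_odd_iff_even.2 (hn ▸ Nat.even_pow.2 ⟨even_two, h0.ne'⟩))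

/-- The centraliser in `W z` of the Fitting subgroup of `W z`. -/
def FC (z : Ω) : Subgroup G :=
  c.W z ⊓ ⨅ q : Nat.Primes, centralizer (c.Fp (q : ℕ) z : Set G)

theorem mem_FC {z : Ω} {u : G} :
    u ∈ c.FC z ↔ u ∈ c.W z ∧ ∀ q : ℕ, q.Prime → ∀ y ∈ c.Fp q z, Commute u y := by
  simp only [FC, mem_inf, mem_iInf, mem_centralizer_iff, SetLike.mem_coe]
  refine and_congr_right fun _ => ⟨fun h q hq y hy => (h ⟨q, hq⟩ y hy).symm,
    fun h q y hy => ((h q q.2 y hy).eq).symm⟩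

theorem stab_le_normalizer_FC (z : Ω) :
    MulAction.stabilizer G z ≤ normalizer (c.FC z : Set G) := by
  intro g hg
  have hWg := c.stab_le_normalizer_W z hg
  have hfwd : ∀ h ∈ MulAction.stabilizer G z, ∀ u ∈ c.FC z, h * u * h⁻¹ ∈ c.FC z := by
    intro h hh u hu
    rw [mem_FC] at hu ⊢
    refine ⟨(mem_normalizer_iff.1 (c.stab_le_normalizer_W z hh) u).1 hu.1, fun q hq y hy => ?_⟩
    have h1 := hu.2 q hq _ ((mem_normalizer_iff''.1 (c.stab_le_normalizer_Fp q z hh) y).1 hy)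
    show h * u * h⁻¹ * y = y * (h * u * h⁻¹)
    calc h * u * h⁻¹ * y = h * (u * (h⁻¹ * y * h)) * h⁻¹ := by group
      _ = h * ((h⁻¹ * y * h) * u) * h⁻¹ := by rw [h1.eq]
      _ = _ := by group
  rw [mem_normalizer_iff]
  intro u
  refine ⟨hfwd g hg u, fun hu => ?_⟩
  have := hfwd g⁻¹ (inv_mem hg) _ hu
  rwa [show g⁻¹ * (g * u * g⁻¹) * g⁻¹⁻¹ = u by group] at this

/-- The centraliser of the Fitting subgroup is generated inside it. -/
theorem FC_le_iSup (z : Ω) : c.FC z ≤ ⨆ q : Nat.Primes, c.Fp (q : ℕ) z := by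
  haveI := (c.hyp z).oddPart_solvable
  intro u hu
  rw [mem_FC] at hu
  have h : (⟨u, hu.1⟩ : c.W z) ∈ Cfsg.fittingSubgroup ↥(c.W z) := by
    refine CfsgLib.Solvable.centralizer_fittingSubgroup_le ?_
    rw [CfsgLib.Solvable.fittingSubgroup_eq_iSup]
    have hle : (⨆ q : Nat.Primes, Cfsg.pCore (q : ℕ) ↥(c.W z)) ≤
        centralizer ({(⟨u, hu.1⟩ : c.W z)} : Set (c.W z)) := iSup_le fun q y hy =>
      mem_centralizer_singleton_iff.2 (Subtype.ext (hu.2 q q.2 _ ⟨y, hy, rfl⟩).eq.symm)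
    exact mem_centralizer_iff.2 fun y hy => mem_centralizer_singleton_iff.1 (hle hy)
  rw [CfsgLib.Solvable.fittingSubgroup_eq_iSup] at h
  have h' := mem_map_of_mem (c.W z).subtype h
  rw [Subgroup.map_iSup] at h'
  exact h'

theorem commute_FC {z : Ω} {u v : G} (hu : u ∈ c.FC z)
    (hv : ∀ q : ℕ, q.Prime → ∀ y ∈ c.Fp q z, Commute v y) : Commute v u := by
  have hle : (⨆ q : Nat.Primes, c.Fp (q : ℕ) z) ≤ centralizer ({v} : Set G) := iSup_le fun q y hy =>
    mem_centralizer_singleton_iff.2 (hv q q.2 y hy).eq.symm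
  exact (mem_centralizer_singleton_iff.1 (hle (c.FC_le_iSup z hu))).symm

theorem FC_comm {z : Ω} {u v : G} (hu : u ∈ c.FC z) (hv : v ∈ c.FC z) : u * v = v * u :=
  (c.commute_FC hv (c.mem_FC.1 hu).2).eq

/-- An involution centralizing the Fitting subgroup centralizes `W z`. -/
theorem commute_W {z : Ω} {t : G} (ht : t ∈ invMap (G := G) z z)
    (hF : ∀ q : ℕ, q.Prime → ∀ y ∈ c.Fp q z, Commute t y) {w : G} (hw : w ∈ c.W z) :
    Commute t w := by
  have htt : t * t = 1 := CfsgLib.Small.mul_self_of_orderOf_two ht.1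
  set u := t * w * t⁻¹ * w⁻¹ with hu_def
  have hu : u ∈ c.FC z := c.mem_FC.2
    ⟨mul_mem ((mem_normalizer_iff.1 (c.stab_le_normalizer_W z ht.2) w).1 hw) (inv_mem hw),
      fun q hq y hy => (commutator_commute (hF q hq)
        (c.stab_le_normalizer_Fp q z (c.W_le_stab z hw)) hy).1⟩
  have h1 := (c.commute_FC hu hF).eq
  have h2 : u * u = 1 := by
    have e1 : t * u * t⁻¹ = u := by rw [h1]; group
    have e2 : t * u * t⁻¹ = u⁻¹ := by
      rw [hu_def]
      calc t * (t * w * t⁻¹ * w⁻¹) * t⁻¹ = (t * t) * (w * t⁻¹ * w⁻¹ * t⁻¹) := by group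
        _ = w * t⁻¹ * w⁻¹ * t⁻¹ := by rw [htt, one_mul]
        _ = w * t * w⁻¹ * t⁻¹ := by rw [inv_eq_of_mul_eq_one_right htt]
        _ = _ := by group
    exact mul_eq_one_iff_eq_inv.2 (e1.symm.trans e2)
  have h3 : u = 1 := orderOf_eq_one_iff.1 (Nat.eq_one_of_dvd_coprimes (a := 2)
    (Nat.coprime_two_left.2 (c.odd_W z)) (orderOf_dvd_of_pow_eq_one (by rw [sq, h2]))
    (Subgroup.orderOf_dvd_natCard _ (c.mem_FC.1 hu).1))
  exact mul_inv_eq_iff_eq_mul.1 (mul_inv_eq_one.1 h3)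

/-- If `A z` does not centralize `W z`, the stabilizer of any point meets the centralizer of the
Fitting subgroup there in `FC`. -/
theorem mem_FC_of_centralizes {z : Ω}
    (hnc : ¬ ∀ a ∈ c.A z, ∀ w ∈ c.W z, Commute a w) (z' : Ω) {u : G}
    (hu : u ∈ MulAction.stabilizer G z') (hF : ∀ q : ℕ, q.Prime → ∀ y ∈ c.Fp q z', Commute u y) :
    u ∈ c.FC z' := by
  haveI : Nontrivial Ω := let ⟨y, hy⟩ := c.nontriv z; ⟨⟨y, z, hy⟩⟩
  let C2 : Subgroup G :=
    MulAction.stabilizer G z' ⊓ ⨅ q : Nat.Primes, centralizer (c.Fp (q : ℕ) z' : Set G)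
  have hmem : ∀ {x : G}, x ∈ C2 → ∀ q : ℕ, q.Prime → ∀ y ∈ c.Fp q z', Commute x y :=
    fun {x} hx q hq y hy => ((mem_centralizer_iff.1 (mem_iInf.1 hx.2 ⟨q, hq⟩)) y hy).symm
  have hN : MulAction.stabilizer G z' ≤ normalizer (C2 : Set G) := by
    refine fun g hg => ?_
    have hfwd : ∀ h ∈ MulAction.stabilizer G z', ∀ x ∈ C2, h * x * h⁻¹ ∈ C2 := by
      intro h hh x hx
      refine mem_inf.2 ⟨mul_mem (mul_mem hh hx.1) (inv_mem hh), mem_iInf.2 fun q =>
        mem_centralizer_iff.2 fun y hy => ?_⟩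
      have h1 := hmem hx q q.2 _ ((mem_normalizer_iff''.1 (c.stab_le_normalizer_Fp q z' hh) y).1 hy)
      calc y * (h * x * h⁻¹) = h * ((h⁻¹ * y * h) * x) * h⁻¹ := by group
        _ = h * (x * (h⁻¹ * y * h)) * h⁻¹ := by rw [h1.eq]
        _ = _ := by group
    rw [mem_normalizer_iff]
    intro x
    refine ⟨hfwd g hg x, fun hx => ?_⟩
    have := hfwd g⁻¹ (inv_mem hg) _ hx
    rwa [show g⁻¹ * (g * x * g⁻¹) * g⁻¹⁻¹ = x by group] at this
  have hodd : Odd (Nat.card C2) := by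
    by_contra hev
    obtain ⟨t, htC, hto⟩ := CfsgLib.Small.exists_invol_mem (Nat.not_odd_iff_even.1 hev)
    have htI : t ∈ invMap (G := G) z' z' := ⟨hto, htC.1⟩
    refine hnc fun a ha w hw => ?_
    by_cases ha1 : a = 1
    · rw [ha1]; exact Commute.one_left w
    have haI := c.A_mem ha ha1
    obtain ⟨g, hg⟩ := isConj_iff.1 (SEmbed.isConj_invol c.fix hto haI.1)
    have hgz : g • z' = z := by
      refine c.fix.unique a haI.1 _ _ ?_ haI.2
      rw [← hg, smul_smul, inv_mul_cancel_right, mul_smul, htI.2]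
    have h1 := c.commute_W htI (hmem htC) (w := g⁻¹ * w * g)
      (c.mem_W_smul.1 (by rwa [hgz]))
    show a * w = w * a
    rw [← hg]
    calc g * t * g⁻¹ * w = g * (t * (g⁻¹ * w * g)) * g⁻¹ := by group
      _ = g * ((g⁻¹ * w * g) * t) * g⁻¹ := by rw [h1.eq]
      _ = _ := by group
  have huC : u ∈ C2 := mem_inf.2 ⟨hu, mem_iInf.2 fun q => mem_centralizer_iff.2
    fun y hy => (hF q q.2 y hy).eq.symm⟩
  exact c.mem_FC.2 ⟨c.le_W hodd ((c.A_le_stab z').trans hN) huC, hF⟩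

/-- A twisting element in `FC` of a `p`-element is a `p`-element. -/
theorem eq_of_dvd_twist {p : ℕ} {z : Ω} {b u : G} (hb : b ∈ MulAction.stabilizer G z)
    (hbF : ∀ s : ℕ, s.Prime → s ≠ p → ∀ y ∈ c.Fp s z, Commute b y) (hu : u ∈ c.FC z) {k : ℕ}
    (hbk : b ^ p ^ k = 1) (hub : (u * b) ^ p ^ k = 1) {s : ℕ} (hs : s.Prime)
    (hsd : s ∣ orderOf u) (hp : p.Prime) : s = p := by
  by_contra hsp
  set d := u ^ (orderOf u / s) with hd_def
  have hdo : orderOf d = s := orderOf_pow_orderOf_div (orderOf_pos u).ne' hsd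
  let D : Subgroup G :=
    { carrier := {x | x ∈ c.FC z ∧ x ^ s = 1}
      one_mem' := ⟨one_mem _, one_pow _⟩
      mul_mem' := fun {x y} hx hy => ⟨mul_mem hx.1 hy.1, by
        rw [Commute.mul_pow (c.FC_comm hx.1 hy.1), hx.2, hy.2, one_mul]⟩
      inv_mem' := fun {x} hx => ⟨inv_mem hx.1, by rw [inv_pow, hx.2, inv_one]⟩ }
  have hDF : D ≤ c.Fp s z := by
    refine c.le_Fp (fun x => ⟨1, Subtype.ext ?_⟩) (fun x hx => (c.mem_FC.1 hx.1).1) ?_
    · show (x : G) ^ s ^ 1 = 1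
      rw [pow_one]; exact x.2.2
    · intro w hw
      have hfwd : ∀ v ∈ MulAction.stabilizer G z, ∀ x ∈ D, v * x * v⁻¹ ∈ D := fun v hv x hx =>
        ⟨(mem_normalizer_iff.1 (c.stab_le_normalizer_FC z hv) x).1 hx.1, by
          rw [conj_pow, hx.2, mul_one, mul_inv_cancel]⟩
      rw [mem_normalizer_iff]
      intro x
      refine ⟨hfwd w (c.W_le_stab z hw) x, fun hx => ?_⟩
      have := hfwd w⁻¹ (inv_mem (c.W_le_stab z hw)) _ hx
      rwa [show w⁻¹ * (w * x * w⁻¹) * w⁻¹⁻¹ = x by group] at this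
  have hdD : d ∈ D := ⟨pow_mem hu _, by
    rw [← hdo]; exact pow_orderOf_eq_one d⟩
  have h1 := pow_part_eq_one (fun x hx y hy => c.FC_comm hx hy) (c.stab_le_normalizer_FC z hb) hu
    hbk hub (hbF s hs hsp d (hDF hdD))
  have h2 : s ∣ p ^ k := hdo ▸ orderOf_dvd_of_pow_eq_one h1
  exact hsp ((Nat.prime_dvd_prime_iff_eq hs hp).1 (hs.dvd_of_dvd_pow h2))

/-- **The Bender pair.** -/
theorem false_of_pair [IsSimpleGroup G] {r : ℕ} [hr : Fact r.Prime] {z : Ω} {g : G}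
    (hg : g • z ≠ z) {B : Subgroup G} (hB : B ≠ ⊥) (hBr : IsPGroup r B) (hBW : B ≤ c.W z)
    (hBN : MulAction.stabilizer G z ≤ normalizer (B : Set G))
    (hnc : ¬ ∀ a ∈ c.A z, ∀ w ∈ c.W z, Commute a w)
    (hBg : B ≤ MulAction.stabilizer G (g • z))
    (h1 : ∀ q : ℕ, q.Prime → q ≠ r → c.Fp q z ≤ MulAction.stabilizer G (g • z))
    (h2 : ∀ q : ℕ, q.Prime → q ≠ r → c.Fp q (g • z) ≤ MulAction.stabilizer G z)
    (hex : ∃ q, q.Prime ∧ q ≠ r ∧ c.Fp q z ≠ ⊥) : False := by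
  obtain ⟨q, hq, hqr, hQ⟩ := hex
  have hN : ∀ X : Subgroup G, X ≠ ⊥ → X ≤ c.W z →
      MulAction.stabilizer G z ≤ normalizer (X : Set G) →
      normalizer (X : Set G) = MulAction.stabilizer G z := fun X h1 h2 h3 =>
    c.normalizer_eq_stab h1 h2 h3
  haveI := Fact.mk hq
  set z' := g • z with hz'
  have hBP : B ≤ c.Fp r z := c.le_Fp hBr hBW ((c.W_le_stab z).trans hBN)
  have hNB := hN B hB hBW hBN
  -- `Q` centralizes the other parts at `z'`
  have hQc : ∀ s : ℕ, s.Prime → s ≠ q → ∀ x ∈ c.Fp q z, ∀ y ∈ c.Fp s z', Commute x y := by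
    intro s hs hsq x hx y hy
    haveI := Fact.mk hs
    by_cases hsr : s = r
    · subst hsr
      have hxB : ∀ b ∈ B, Commute x b := fun b hb =>
        commute_of_mutual hqr (c.isPGroup_Fp q z) (c.isPGroup_Fp s z) hx (hBP hb)
          (c.stab_le_normalizer_Fp s z (c.Fp_le_stab q z hx))
          (c.stab_le_normalizer_Fp q z (c.Fp_le_stab s z (hBP hb)))
      have hcop : (orderOf x).Coprime s := by
        obtain ⟨k, hk⟩ := (c.isPGroup_Fp q z) ⟨x, hx⟩
        have hk' : x ^ q ^ k = 1 := congrArg Subtype.val hk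
        exact Nat.Coprime.coprime_dvd_left (orderOf_dvd_of_pow_eq_one hk')
          (((Nat.coprime_primes hq hs).2 hqr).pow_left k)
      have hxU := CfsgLib.CharPLocal.commute_of_axb (c.isPGroup_Fp s z') hBr hcop
        (c.stab_le_normalizer_Fp s z' (h1 q hq hqr hx))
        (mem_centralizer_iff.2 fun b hb => (hxB b hb).eq.symm)
        (hBg.trans (c.stab_le_normalizer_Fp s z')) fun u hu huB => by
          have huz : u ∈ MulAction.stabilizer G z :=
            hNB.le (centralizer_le_normalizer _ huB)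
          exact (commute_of_mutual hqr (c.isPGroup_Fp q z) (c.isPGroup_Fp s z') hx hu
            (c.stab_le_normalizer_Fp s z' (h1 q hq hqr hx))
            (c.stab_le_normalizer_Fp q z huz)).eq.symm
      exact (mem_centralizer_iff.1 hxU y hy).symm
    · exact commute_of_mutual (Ne.symm hsq) (c.isPGroup_Fp q z) (c.isPGroup_Fp s z') hx hy
        (c.stab_le_normalizer_Fp s z' (h1 q hq hqr hx))
        (c.stab_le_normalizer_Fp q z (h2 s hs hsr hy))
  have hBc : ∀ s : ℕ, s.Prime → s ≠ r → ∀ b ∈ B, ∀ y ∈ c.Fp s z', Commute b y := by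
    intro s hs hsr b hb y hy
    haveI := Fact.mk hs
    exact commute_of_mutual (Ne.symm hsr) hBr (c.isPGroup_Fp s z') hb hy
      (c.stab_le_normalizer_Fp s z' (hBg hb)) (hBN (h2 s hs hsr hy))
  -- the `q`-elements centralizing the other parts
  set gens : Set G := {x | x ∈ MulAction.stabilizer G z' ∧
    (∀ s : ℕ, s.Prime → s ≠ q → ∀ y ∈ c.Fp s z', Commute x y) ∧ ∃ k : ℕ, x ^ q ^ k = 1}
    with hgens
  have hgenB : ∀ x ∈ gens, ∀ b ∈ B, Commute x b := by
    rintro x ⟨hxz, hxF, k, hxk⟩ b hb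
    obtain ⟨j, hj⟩ := hBr ⟨b, hb⟩
    have hbj : b ^ r ^ j = 1 := congrArg Subtype.val hj
    set u := x * b * x⁻¹ * b⁻¹ with hu_def
    have hu : u ∈ c.FC z' := by
      refine c.mem_FC_of_centralizes hnc z'
        (mul_mem (mul_mem (mul_mem hxz (hBg hb)) (inv_mem hxz)) (inv_mem (hBg hb))) ?_
      intro s hs y hy
      by_cases hsq : s = q
      · have hsr : s ≠ r := hsq ▸ hqr
        exact (commutator_commute (hBc s hs hsr b hb)
          (c.stab_le_normalizer_Fp s z' hxz) hy).2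
      · exact (commutator_commute (hxF s hs hsq) (c.stab_le_normalizer_Fp s z' (hBg hb)) hy).1
    have hub : (u * b) ^ r ^ j = 1 := by
      rw [show u * b = x * b * x⁻¹ by rw [hu_def]; group, conj_pow, hbj, mul_one, mul_inv_cancel]
    have hux : (u⁻¹ * x) ^ q ^ k = 1 := by
      rw [show u⁻¹ * x = b * x * b⁻¹ by rw [hu_def]; group, conj_pow, hxk, mul_one, mul_inv_cancel]
    have h1 : u = 1 := by
      by_contra hne
      obtain ⟨s, hs, hsd⟩ := Nat.exists_prime_and_dvd fun h => hne (orderOf_eq_one_iff.1 h)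
      have e1 := c.eq_of_dvd_twist (hBg hb) (fun s hs hsr y hy => hBc s hs hsr b hb y hy) hu hbj
        hub hs hsd hr.out
      have e2 := c.eq_of_dvd_twist hxz (fun s hs hsq y hy => hxF s hs hsq y hy) (inv_mem hu) hxk
        hux hs (by rwa [orderOf_inv]) hq
      exact hqr (e2.symm.trans e1)
    exact mul_inv_eq_iff_eq_mul.1 (mul_inv_eq_one.1 h1)
  set K := closure gens with hK
  have hKB : K ≤ centralizer (B : Set G) :=
    (closure_le _).2 fun x hx => mem_centralizer_iff.2 fun b hb => (hgenB x hx b hb).eq.symm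
  have hKz : K ≤ MulAction.stabilizer G z := (hKB.trans (centralizer_le_normalizer _)).trans hNB.le
  have hQK : c.Fp q z ≤ K := fun x hx => subset_closure ⟨h1 q hq hqr hx,
    fun s hs hsq y hy => hQc s hs hsq x hx y hy, by
      obtain ⟨k, hk⟩ := (c.isPGroup_Fp q z) ⟨x, hx⟩
      exact ⟨k, congrArg Subtype.val hk⟩⟩
  have hKN : MulAction.stabilizer G z' ≤ normalizer (K : Set G) := by
    intro h hh
    rw [mem_normalizer_iff_map_conj_eq]
    refine eq_of_le_of_card_ge ?_ (le_of_eq (card_map_of_injective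
      (f := ((MulAut.conj h : G ≃* G) : G →* G)) (MulAut.conj h).injective).symm)
    rw [hK, MonoidHom.map_closure, closure_le]
    rintro _ ⟨x, ⟨hxz, hxF, k, hxk⟩, rfl⟩
    refine subset_closure ⟨mul_mem (mul_mem hh hxz) (inv_mem hh), fun s hs hsq y hy => ?_,
      k, by show (h * x * h⁻¹) ^ q ^ k = 1; rw [conj_pow, hxk, mul_one, mul_inv_cancel]⟩
    have h1 := hxF s hs hsq _ ((mem_normalizer_iff''.1 (c.stab_le_normalizer_Fp s z' hh) y).1 hy)
    show h * x * h⁻¹ * y = y * (h * x * h⁻¹)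
    calc h * x * h⁻¹ * y = h * (x * (h⁻¹ * y * h)) * h⁻¹ := by group
      _ = h * ((h⁻¹ * y * h) * x) * h⁻¹ := by rw [h1.eq]
      _ = _ := by group
  set T := (Cfsg.pCore q K).map K.subtype with hT
  have hTN : MulAction.stabilizer G z' ≤ normalizer (T : Set G) := by
    haveI := CfsgLib.Solvable.pCore_characteristic (G := ↥K) q
    exact hKN.trans (CfsgLib.Components.normalizer_le_normalizer_map_subtype K (Cfsg.pCore q K))
  have hTp : IsPGroup q T := (CfsgLib.Solvable.isPGroup_pCore q).map _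
  have hQT : c.Fp q z ≤ T := by
    haveI : ((c.Fp q z).subgroupOf K).Normal :=
      (normal_subgroupOf_iff_le_normalizer hQK).2 (hKz.trans (c.stab_le_normalizer_Fp q z))
    intro x hx
    exact ⟨⟨x, hQK hx⟩, CfsgLib.Solvable.le_pCore (N := (c.Fp q z).subgroupOf K)
      ((c.isPGroup_Fp q z).comap_of_injective _ K.subtype_injective) (mem_subgroupOf.2 hx), rfl⟩
  have hq2 : q ≠ 2 := fun h => hQ (by rw [h]; exact c.Fp_two z)
  have hTF : T ≤ c.Fp q z' := by
    have hodd : Odd (Nat.card T) := by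
      obtain ⟨n, hn⟩ := IsPGroup.iff_card.1 hTp
      rw [hn]; exact (hq.odd_of_ne_two hq2).pow
    exact c.le_Fp hTp (c.le_W hodd ((c.A_le_stab z').trans hTN))
      ((c.W_le_stab z').trans hTN)
  have heq : c.Fp q z = c.Fp q z' := by
    refine eq_of_le_of_card_ge (hQT.trans hTF) (le_of_eq ?_)
    rw [hz', c.Fp_smul, card_map_of_injective (MulAut.conj g).injective]
  refine hg ((hN _ hQ (c.Fp_le_W q z) (c.stab_le_normalizer_Fp q z)).le ?_)
  rw [mem_normalizer_iff_map_conj_eq]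
  conv_rhs => rw [heq, hz', c.Fp_smul]
  rfl

end Ctx

end CfsgLib.AbelSolvCent
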