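import Cfsg.Agent.AbelSolvCent.CentralPair
import Cfsg.Agent.Solvable.FixedPointFree
import Cfsg.Agent.FgsSix.SolvableLinear.Cases

/-!
# A good prime dividing some `|W z ⊓ W y|`

In the central case, if the good prime `p` divides some `|W z ⊓ W y|` then the Sylow `p`-subgroups
are abelian, the `p`-elements of `W z` fixing `y` lie in `W y`, and all the intersections are
nontrivial: otherwise an element of order `p` would fix three points and be inverted by an
involution interchanging each pair of them.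
-/

set_option autoImplicit false
set_option linter.style.haveILetI false
set_option linter.unusedSectionVars false

universe u v

namespace CfsgLib.AbelSolvCent

open Subgroup CfsgLib.SEmbed CfsgLib.Small

variable {G : Type u} [Group G] [Finite G] {Ω : Type v} [MulAction G Ω] {c : Ctx G Ω}

/-- A `p`-element lies in a subgroup as soon as a power prime to `p` does. -/
theorem mem_of_zpow_mem {p : ℕ} [Fact p.Prime] {H : Subgroup G} {x : G} {a : ℕ}
    (hx : x ^ p ^ a = 1) {k : ℤ} (hk : ¬ (p : ℤ) ∣ k) (h : x ^ k ∈ H) : x ∈ H := by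
  have hcop : IsCoprime ((p : ℤ) ^ a) k :=
    ((Nat.prime_iff_prime_int.1 (Fact.out : p.Prime)).coprime_iff_not_dvd.2 hk).pow_left
  obtain ⟨e, f, hef⟩ := hcop
  rw [← zpow_one x, ← hef, zpow_add, mul_comm e, mul_comm f, zpow_mul, zpow_mul, ← Nat.cast_pow,
    zpow_natCast, hx, one_zpow, one_mul]
  exact zpow_mem h f

namespace Ctx

/-- An odd power of an element interchanging two points is an interchanging involution. -/
theorem exists_odd_pow_swap (c : Ctx G Ω) {a b : Ω} (hab : a ≠ b) {g : G} (hga : g • a = b)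
    (hgb : g • b = a) : ∃ k : ℕ, Odd k ∧ g ^ k ∈ invMap (G := G) a b := by
  obtain ⟨k, m, ⟨i, hi⟩, hkm⟩ := Nat.exists_eq_two_pow_mul_odd (orderOf_pos g).ne'
  have hgg : g * g ∈ pairStab G a b := mem_pairStab.2
    ⟨by rw [mul_smul, hga, hgb], by rw [mul_smul, hgb, hga]⟩
  have hpow : (g ^ m) • a = b := by
    rw [hi, pow_succ', mul_smul, pow_mul, sq, (mem_pairStab.1 (pow_mem hgg i)).1, hga]
  have h1 : (g ^ m) ^ 2 = 1 := by
    refine orderOf_eq_one_iff.1 (Nat.eq_one_of_dvd_coprimes (a := 2 ^ k)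
      ((Nat.coprime_two_left.2 (odd_pairStab c.fix hab)).pow_left k) ?_
      (orderOf_dvd_natCard _ (show (g ^ m) ^ 2 ∈ pairStab G a b from ?_)))
    · refine orderOf_dvd_of_pow_eq_one ?_
      rw [← pow_mul, ← pow_mul, show m * (2 * 2 ^ k) = orderOf g * 2 by rw [hkm]; ring, pow_mul,
        pow_orderOf_eq_one, one_pow]
    · rw [← pow_mul, mul_comm, pow_mul, sq]
      exact pow_mem hgg m
  refine ⟨m, ⟨i, hi⟩, orderOf_eq_prime h1 fun e => hab ?_, hpow⟩
  rw [← hpow, e, one_smul]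

namespace GoodData

variable [IsSimpleGroup G] {n p : ℕ} [Fact p.Prime] (d : c.GoodData n p)
  (hdvd : ∀ z : Ω, ∃ y, z ≠ y ∧ p ∣ Nat.card ↥(c.W z ⊓ c.W y))
include d hdvd

omit d in
theorem exists_orderOf_W (z : Ω) : ∃ w ∈ c.W z, orderOf w = p := by
  obtain ⟨y, -, hy⟩ := hdvd z
  obtain ⟨w, hw⟩ := exists_prime_orderOf_dvd_card' (G := ↥(c.W z ⊓ c.W y)) p hy
  exact ⟨w, w.2.1, by rw [Subgroup.orderOf_coe, hw]⟩

/-- A `p`-subgroup of `W z` lies in an intersection. -/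
theorem exists_le_W {z : Ω} {P : Subgroup G} (hP : IsPGroup p P) (hPW : P ≤ c.W z) :
    ∃ y, z ≠ y ∧ c.W z ⊓ c.W y ≠ ⊥ ∧ P ≤ c.W y := by
  obtain ⟨y0, hy0, hp0⟩ := hdvd z
  have hne : c.W z ⊓ c.W y0 ≠ ⊥ := fun h => by
    rw [h, card_bot] at hp0
    exact (Fact.out : p.Prime).ne_one (Nat.dvd_one.1 hp0)
  set W := c.W z with hW
  set E := (W ⊓ c.W y0).subgroupOf W with hE
  obtain ⟨Q0, -⟩ := (IsPGroup.of_bot : IsPGroup p (⊥ : Subgroup E)).exists_le_sylow
  have hEdvd : ¬ p ∣ E.index := d.central.not_dvd_index hy0 hp0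
  let P0 : Sylow p W := Sylow.ofCard ((Q0 : Subgroup E).map E.subtype) (by
    rw [card_map_of_injective E.subtype_injective, Q0.card_eq_multiplicity, ← E.card_mul_index,
      Nat.factorization_mul Nat.card_pos.ne' E.index_ne_zero_of_finite, Finsupp.add_apply,
      Nat.factorization_eq_zero_of_not_dvd hEdvd, add_zero])
  obtain ⟨Q, hQ⟩ := (hP.of_equiv (subgroupOfEquivOfLe hPW).symm).exists_le_sylow
  obtain ⟨w, hw⟩ := MulAction.exists_smul_eq W P0 Q
  have hwz : (w : G) ∈ MulAction.stabilizer G z := c.W_le_stab z w.2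
  refine ⟨(w : G) • y0, (c.smul_ne hwz hy0.symm).symm, Central.inf_smul_ne_bot hwz hne,
    fun x hx => ?_⟩
  have h1 : (⟨x, hPW hx⟩ : W) ∈ (Q : Subgroup W) := hQ (mem_subgroupOf.2 hx)
  rw [← hw] at h1
  obtain ⟨e, he, hex⟩ := h1
  rw [Sylow.coe_ofCard] at he
  obtain ⟨e', -, rfl⟩ := he
  refine ((Central.conj_mem_inf hwz).2 ?_).2
  rw [show x = (w : G) * ((e' : W) : G) * (w : G)⁻¹ from (congrArg Subtype.val hex).symm]
  rw [show (w : G)⁻¹ * ((w : G) * ((e' : W) : G) * (w : G)⁻¹) * w = ((e' : W) : G) by group]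
  exact mem_subgroupOf.1 e'.2

theorem full_inf {z b : Ω} {R : Subgroup G} (hR : IsFull c p R z b) :
    c.W z ⊓ c.W b ≠ ⊥ ∧ R ⊓ c.W z ≤ c.W b ∧ R ⊓ c.W b ≤ c.W z := by
  have hRz : R ≤ MulAction.stabilizer G z := hR.le_pairStab.trans inf_le_left
  -- `R ⊓ W z ≠ ⊥`
  have hne : R ⊓ c.W z ≠ ⊥ := by
    obtain ⟨P, hP⟩ := exists_sylow hR
    obtain ⟨w, hw, hwo⟩ := exists_orderOf_W (c := c) hdvd z
    have hPz : (P : Subgroup G) ≤ MulAction.stabilizer G z := hP ▸ hRz
    obtain ⟨Q, hQ⟩ := ((IsPGroup.of_card (n := 1) (p := p) (G := zpowers w)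
      (by rw [Nat.card_zpowers, hwo, pow_one])).of_equiv
        (subgroupOfEquivOfLe (zpowers_le.2 (c.W_le_stab z hw))).symm).exists_le_sylow
    obtain ⟨g, hg⟩ := MulAction.exists_smul_eq (MulAction.stabilizer G z) Q (P.subtype hPz)
    intro h
    have h1 : (g : G) * w * (g : G)⁻¹ ∈ R ⊓ c.W z := by
      refine ⟨?_, (mem_normalizer_iff.1 (c.stab_le_normalizer_W z g.2) w).1 hw⟩
      have h2 : g * ⟨w, c.W_le_stab z hw⟩ * g⁻¹ ∈
          ((P.subtype hPz : Sylow p _) : Subgroup (MulAction.stabilizer G z)) := by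
        rw [← hg]
        exact ⟨_, hQ (mem_subgroupOf.2 (mem_zpowers w)), rfl⟩
      rw [Sylow.coe_subtype, hP] at h2
      exact mem_subgroupOf.1 h2
    rw [h, mem_bot] at h1
    rw [conj_eq_one_iff.1 h1, orderOf_one] at hwo
    exact (Fact.out : p.Prime).ne_one hwo.symm
  obtain ⟨w0, hw0, hw0o, hw0c⟩ := exists_central_orderOf hR.isPGroup
    (inf_le_left : R ⊓ c.W z ≤ R) hne (fun g hg => inf_normalizer_le_normalizer_inf
      ⟨le_normalizer hg, c.stab_le_normalizer_W z (hRz hg)⟩)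
  have hw01 : w0 ≠ 1 := fun e =>
    (Fact.out : p.Prime).ne_one (by rw [← hw0o, e, orderOf_one])
  obtain ⟨y, hy, -, hw0y⟩ := d.exists_le_W hdvd
    ((hR.isPGroup.to_le inf_le_left).to_le (zpowers_le.2 hw0)) (zpowers_le.2 hw0.2)
  obtain ⟨-, hcard⟩ := d.central.line_eq hy hw01 hw0.2 (hw0y (mem_zpowers w0))
  set L : Set Ω := {x | w0 ∈ c.W x} with hL
  have hinv : ∀ g ∈ R, ∀ x ∈ L, g • x ∈ L := fun g hg x hx => by
    show w0 ∈ c.W (g • x)
    rw [c.mem_W_smul, mul_assoc, (hw0c g hg).eq, inv_mul_cancel_left]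
    exact hx
  haveI := finite_points c.fix
  letI : MulAction R L := {
    smul := fun g x => ⟨(g : G) • x.1, hinv g g.2 x.1 x.2⟩
    one_smul := fun x => Subtype.ext (one_smul G x.1)
    mul_smul := fun g g' x => Subtype.ext (mul_smul (g : G) (g' : G) x.1) }
  have hmod := hR.isPGroup.card_modEq_card_fixedPoints L
  rw [hcard, d.card z] at hmod
  have hb : w0 ∈ c.W b := by
    by_contra hwb
    have h1 : MulAction.fixedPoints R L = {(⟨z, hw0.2⟩ : L)} := by
      refine Set.eq_singleton_iff_unique_mem.2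
        ⟨fun g => Subtype.ext (hRz g.2), fun x hx => Subtype.ext ?_⟩
      have hxF : x.1 ∈ fixSet (Ω := Ω) R := fun g hg => congrArg Subtype.val (hx ⟨g, hg⟩)
      rw [hR.fixSet_eq] at hxF
      rcases hxF with h | h
      · exact h
      · exact absurd (h ▸ x.2 : b ∈ L) hwb
    rw [h1, Nat.card_coe_set_eq, Set.ncard_singleton] at hmod
    have h2 : p ∣ 2 ^ n := by
      have h3 := (Nat.modEq_iff_dvd' (Nat.le_add_left 1 (2 ^ n))).1 hmod.symm
      simpa using h3
    have h3 := (Nat.prime_dvd_prime_iff_eq (Fact.out : p.Prime) Nat.prime_two).1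
      ((Fact.out : p.Prime).dvd_of_dvd_pow h2)
    have h4 := d.p_odd
    rw [h3] at h4
    exact absurd h4 (by decide)
  have hE : c.W z ⊓ c.W b ≠ ⊥ := fun h => hw01 (mem_bot.1 (h ▸ ⟨hw0.2, hb⟩))
  refine ⟨hE, fun x hx => d.central.inf_stab hE hx.2 (mem_pairStab.1 (hR.le_pairStab hx.1)).2,
    fun x hx => d.central.inf_stab (by rwa [inf_comm]) hx.2
      (mem_pairStab.1 (hR.le_pairStab hx.1)).1⟩

/-- The Sylow `p`-subgroups are abelian. -/
theorem full_comm {z b : Ω} {R : Subgroup G} (hR : IsFull c p R z b) :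
    ∀ x ∈ R, ∀ x' ∈ R, x * x' = x' * x := by
  obtain ⟨hE, hRb, -⟩ := d.full_inf hdvd hR
  have hRz : R ≤ MulAction.stabilizer G z := hR.le_pairStab.trans inf_le_left
  have hzb : z ≠ b := hR.ne.symm
  -- `R ⊓ W z` is cyclic: it acts fixed point freely on an abelian normal subgroup of `W z`
  have hab : ∀ x ∈ R ⊓ c.W z, ∀ x' ∈ R ⊓ c.W z, x * x' = x' * x := by
    haveI := (c.hyp z).oddPart_solvable
    set W := c.W z with hW
    haveI : Group.IsSolvable W := (c.hyp z).oddPart_solvable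
    haveI : Nontrivial W := by
      obtain ⟨w, hw, hwo⟩ := exists_orderOf_W (c := c) hdvd z
      exact ⟨⟨w, hw⟩, 1, fun e => (Fact.out : p.Prime).ne_one (by
        rw [← hwo, show w = 1 from congrArg Subtype.val e, orderOf_one])⟩
    obtain ⟨K, hKn, hK, hKab⟩ := CfsgLib.FgsSix.SolvableLinear.exists_abelian_normal (G := W)
    haveI := hKn
    have hsmul : ∀ (x : W) (e : G), e ∈ W ⊓ c.W b → Commute (x : G) e →
        e ∈ c.W ((x : G) • b) := fun x e he hxe => by
      rw [c.mem_W_smul, mul_assoc, ← hxe.eq, inv_mul_cancel_left]; exact he.2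
    have hcent : ∀ (x : W) (e : G), e ∈ W ⊓ c.W b → e ≠ 1 → Commute (x : G) e → (x : G) ∈ c.W b := by
      intro x e he he1 hxe
      have hxz : (x : G) ∈ MulAction.stabilizer G z := c.W_le_stab z x.2
      have heq := d.central.inf_eq_of_mem hzb (c.smul_ne hxz hzb.symm).symm he1 he.1 he.2
        (hsmul x e he hxe)
      refine d.central.mem_W_of_normalizes hE x.2 (mem_normalizer_iff.2 fun g => ?_)
      have h1 := Central.conj_mem_inf (c := c) (y := b) (x := (x : G) * g * (x : G)⁻¹) hxz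
      rw [← heq, show (x : G)⁻¹ * ((x : G) * g * (x : G)⁻¹) * x = g by group] at h1
      exact h1.symm
    set E := (W ⊓ c.W b).subgroupOf W with hEdef
    have hKE : K ⊓ E = ⊥ := by
      refine (eq_bot_iff_forall _).2 fun e he => ?_
      by_contra he1
      have hKle : K ≤ E := fun x hx => mem_subgroupOf.2 ⟨x.2, hcent x e (mem_subgroupOf.1 he.2)
        (fun h => he1 (Subtype.ext h)) (congrArg Subtype.val (hKab x hx e he.1))⟩
      refine Central.not_W_le (c := c) hzb (fun h => hE (le_bot_iff.1 (h ▸ inf_le_left)))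
        fun w hw => ?_
      have hwz : w ∈ MulAction.stabilizer G z := c.W_le_stab z hw
      have h1 : (e : G) ∈ c.W (w • b) := by
        rw [c.mem_W_smul]
        have h2 := hKle (hKn.conj_mem e he.1 ⟨w⁻¹, inv_mem hw⟩)
        rw [mem_subgroupOf] at h2
        simpa using h2.2
      have he' := mem_subgroupOf.1 he.2
      have heq := d.central.inf_eq_of_mem hzb (c.smul_ne hwz hzb.symm).symm
        (fun h => he1 (Subtype.ext h)) he'.1 he'.2 h1
      refine d.central.mem_W_of_normalizes hE hw (mem_normalizer_iff.2 fun g => ?_)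
      have h3 := Central.conj_mem_inf (c := c) (y := b) (x := w * g * w⁻¹) hwz
      rw [← heq, show w⁻¹ * (w * g * w⁻¹) * w = g by group] at h3
      exact h3.symm
    set H := (R ⊓ W).subgroupOf W with hH
    have hHE : H ≤ E := fun x hx => by
      rw [hH, mem_subgroupOf] at hx
      exact mem_subgroupOf.2 ⟨hx.2, hRb hx⟩
    have hfpf : ∀ h ∈ H, h ≠ 1 → K ⊓ centralizer {h} = ⊥ := fun h hh hh1 => by
      refine (eq_bot_iff_forall _).2 fun x hx => ?_
      have hxh : Commute x h := mem_centralizer_singleton_iff.1 hx.2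
      have hxE : x ∈ K ⊓ E := ⟨hx.1, mem_subgroupOf.2 ⟨x.2,
        hcent x h (mem_subgroupOf.1 (hHE hh)) (fun e => hh1 (Subtype.ext e))
          (congrArg Subtype.val hxh.eq)⟩⟩
      rwa [hKE, mem_bot] at hxE
    have hHp : IsPGroup p (⊤ : Subgroup H) :=
      ((hR.isPGroup.to_le inf_le_left).of_equiv (subgroupOfEquivOfLe inf_le_right).symm).to_subgroup _
    rcases TwoGroupsQ.isCyclic_or_quaternion hHp (Solvable.hasUniqueOrderP_of_fpf hK hfpf hHp) with
      hcyc | ⟨h2, -⟩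
    · letI := hcyc.commGroup
      intro x hx x' hx'
      have h1 := mul_comm (⟨⟨⟨x, hx.2⟩, hx⟩, mem_top _⟩ : (⊤ : Subgroup H))
        ⟨⟨⟨x', hx'.2⟩, hx'⟩, mem_top _⟩
      exact congrArg (fun t : (⊤ : Subgroup H) => (((t : H) : W) : G)) h1
    · exact absurd (h2 ▸ d.p_odd : Odd 2) (by decide)
  obtain ⟨⟨r0, hr0, hgen⟩, -⟩ := d.image_facts hR.isPGroup hRz
  obtain ⟨s, hsN, hs⟩ := hR.isPairSylow.exists_swap c hzb
  have hsc : ∀ x ∈ R ⊓ c.W z, Commute x s := fun x hx =>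
    d.central.swap_commute hzb hx.2 (hRb hx) hs
  have hs1 : s⁻¹ = s := inv_eq_self_of_orderOf_two hs.1
  -- `r0` centralizes `R ⊓ W z`
  have hr0c : ∀ x ∈ R ⊓ c.W z, Commute r0 x := by
    have hr0' : s * r0 * s⁻¹ ∈ R := (mem_normalizer_iff.1 hsN r0).1 hr0
    obtain ⟨m, hm⟩ := hgen _ hr0'
    set w0 := (r0 ^ m)⁻¹ * (s * r0 * s⁻¹) with hw0
    have hw0R : w0 ∈ R ⊓ c.W z := ⟨R.mul_mem (R.inv_mem (zpow_mem hr0 m)) hr0', hm⟩
    have hconj : s * r0 * s⁻¹ = r0 ^ m * w0 := by rw [hw0, mul_inv_cancel_left]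
    obtain ⟨a, ha⟩ := hR.isPGroup ⟨r0, hr0⟩
    have hr0a : r0 ^ p ^ a = 1 := congrArg Subtype.val ha
    by_cases hpm : (p : ℤ) ∣ m - 1
    · -- `s` centralizes `R`: impossible
      exfalso
      have hpm' : ¬ (p : ℤ) ∣ m + 1 := fun h => by
        have h2 : (p : ℤ) ∣ 2 := by
          have h1 := dvd_sub h hpm
          rwa [show m + 1 - (m - 1) = 2 by ring] at h1
        have h3 := (Nat.prime_dvd_prime_iff_eq (Fact.out : p.Prime) Nat.prime_two).1
          (Int.natCast_dvd_natCast.1 (by exact_mod_cast h2))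
        exact absurd (h3 ▸ d.p_odd : Odd 2) (by decide)
      set N := c.W z with hN
      -- modulo `W z`, conjugation by `s` squares to the identity
      haveI hn : ((R ⊓ N).subgroupOf R).Normal := normal_subgroupOf_of_le_normalizer
        fun g hg => inf_normalizer_le_normalizer_inf
          ⟨le_normalizer hg, c.stab_le_normalizer_W z (hRz hg)⟩
      set π := QuotientGroup.mk' ((R ⊓ N).subgroupOf R) with hπ
      have hπ1 : ∀ g : R, π g = 1 ↔ (g : G) ∈ R ⊓ N := fun g =>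
        (QuotientGroup.eq_one_iff g).trans mem_subgroupOf
      have hsq : r0 ^ (m * m - 1) ∈ N := by
        have h1 : r0 = (r0 ^ m * w0) ^ m * w0 := by
          calc r0 = s * (s * r0 * s⁻¹) * s⁻¹ := by
                rw [hs1]; simp [← mul_assoc, mul_self_of_orderOf_two hs.1,
                  mul_assoc r0, mul_self_of_orderOf_two hs.1]
            _ = s * (r0 ^ m * w0) * s⁻¹ := by rw [hconj]
            _ = (s * r0 * s⁻¹) ^ m * (s * w0 * s⁻¹) := by rw [conj_zpow]; group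
            _ = _ := by rw [hconj, ← (hsc w0 hw0R).eq, mul_inv_cancel_right]
        set r : R := ⟨r0, hr0⟩
        set w : R := ⟨w0, hw0R.1⟩
        have h2 : π r = (π r ^ m * π w) ^ m * π w := by
          rw [← map_zpow, ← map_mul, ← map_zpow, ← map_mul]
          exact congrArg π (Subtype.ext (by push_cast; exact h1))
        rw [(hπ1 w).2 hw0R, mul_one, mul_one, ← zpow_mul] at h2
        have h3 : π (r ^ (m * m - 1)) = 1 := by
          rw [map_zpow, zpow_sub_one, ← h2, mul_inv_cancel]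
        have h4 := ((hπ1 _).1 h3).2
        rwa [SubgroupClass.coe_zpow] at h4
      have hm1 : r0 ^ (m - 1) ∈ N := by
        refine mem_of_zpow_mem (a := a) (x := r0 ^ (m - 1)) ?_ hpm' ?_
        · rw [← zpow_natCast, ← zpow_mul, mul_comm, zpow_mul, zpow_natCast, hr0a, one_zpow]
        · rw [← zpow_mul, show (m - 1) * (m + 1) = m * m - 1 by ring]; exact hsq
      set e := r0⁻¹ * (s * r0 * s⁻¹) with he
      have heR : e ∈ R ⊓ N := by
        refine ⟨R.mul_mem (R.inv_mem hr0) hr0', ?_⟩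
        rw [he, hconj, show r0⁻¹ * (r0 ^ m * w0) = r0 ^ (m - 1) * w0 by
          rw [← mul_assoc, ← zpow_neg_one, ← zpow_add, neg_add_eq_sub]]
        exact mul_mem hm1 hw0R.2
      have he1 : e = 1 := by
        have h1 : s * e * s⁻¹ = e⁻¹ := by
          rw [he, hs1]
          simp only [mul_inv_rev, inv_inv, hs1]
          rw [show s * (r0⁻¹ * (s * r0 * s)) * s = s * r0⁻¹ * s * r0 * (s * s) by group,
            mul_self_of_orderOf_two hs.1, mul_one]
          simp [mul_assoc]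
        rw [← (hsc e heR).eq, mul_inv_cancel_right] at h1
        exact orderOf_eq_one_iff.1 (Nat.eq_one_of_dvd_coprimes (a := 2)
          (Nat.coprime_two_left.2 (d.odd_orderOf hR.isPGroup heR.1))
          (orderOf_dvd_of_pow_eq_one (by rw [sq]; exact eq_inv_iff_mul_eq_one.1 h1)) dvd_rfl)
      have hr0s : Commute r0 s :=
        (mul_inv_eq_iff_eq_mul.1 (inv_mul_eq_one.1 he1).symm).symm
      obtain ⟨v, hv⟩ := c.fix.exists_fix s hs.1
      have hvR : v ∈ fixSet (Ω := Ω) R := fun g hg => by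
        obtain ⟨k, hk⟩ := hgen g hg
        refine commute_fix c.fix hs.1 ?_ hv
        rw [show g = r0 ^ k * ((r0 ^ k)⁻¹ * g) by rw [mul_inv_cancel_left]]
        exact (hr0s.zpow_left k).mul_left
          (hsc _ ⟨R.mul_mem (R.inv_mem (zpow_mem hr0 k)) hg, hk⟩)
      rw [hR.fixSet_eq] at hvR
      rcases hvR with h | h
      · exact hzb (by rw [← hs.2, ← h, hv])
      · exact hzb (by rw [← smul_back hs.1 hs.2, ← Set.mem_singleton_iff.1 h, hv])
    · -- `r0 ^ (m - 1)` centralizes `R ⊓ W z`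
      intro x hx
      have hmem : r0 ^ (m - 1) ∈ centralizer ({x} : Set G) := by
        refine mem_centralizer_singleton_iff.2 ?_
        have hx1 : r0 * x * r0⁻¹ ∈ R ⊓ c.W z :=
          ⟨R.mul_mem (R.mul_mem hr0 hx.1) (R.inv_mem hr0),
            (mem_normalizer_iff.1 (c.stab_le_normalizer_W z (hRz hr0)) x).1 hx.2⟩
        have h1 : r0 ^ m * x * (r0 ^ m)⁻¹ = r0 * x * r0⁻¹ := by
          have hw : w0 * x * w0⁻¹ = x := by rw [hab _ hw0R _ hx, mul_inv_cancel_right]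
          calc r0 ^ m * x * (r0 ^ m)⁻¹ = (r0 ^ m * w0) * x * (r0 ^ m * w0)⁻¹ := by
                conv_lhs => rw [← hw]
                group
            _ = s * r0 * (s⁻¹ * x * s) * r0⁻¹ * s⁻¹ := by rw [← hconj]; group
            _ = s * (r0 * x * r0⁻¹) * s⁻¹ := by
                rw [mul_assoc s⁻¹, (hsc x hx).eq, inv_mul_cancel_left]; group
            _ = _ := by rw [← (hsc _ hx1).eq, mul_inv_cancel_right]
        refine mul_inv_eq_iff_eq_mul.1 ?_
        calc r0 ^ (m - 1) * x * (r0 ^ (m - 1))⁻¹ = r0⁻¹ * (r0 ^ m * x * (r0 ^ m)⁻¹) * r0 := by group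
          _ = x := by rw [h1]; group
      exact mem_centralizer_singleton_iff.1 (mem_of_zpow_mem hr0a hpm hmem)
  intro x hx x' hx'
  obtain ⟨k, hk⟩ := hgen x hx
  obtain ⟨k', hk'⟩ := hgen x' hx'
  set a := (r0 ^ k)⁻¹ * x with ha
  set a' := (r0 ^ k')⁻¹ * x' with ha'
  have haR : a ∈ R ⊓ c.W z := ⟨R.mul_mem (R.inv_mem (zpow_mem hr0 k)) hx, hk⟩
  have haR' : a' ∈ R ⊓ c.W z := ⟨R.mul_mem (R.inv_mem (zpow_mem hr0 k')) hx', hk'⟩
  rw [show x = r0 ^ k * a by rw [ha, mul_inv_cancel_left],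
    show x' = r0 ^ k' * a' by rw [ha', mul_inv_cancel_left]]
  exact (((Commute.refl r0).zpow_zpow k k').mul_right ((hr0c a' haR').zpow_left k)).mul_left
    (((hr0c a haR).zpow_left k').symm.mul_right (hab a haR a' haR'))

/-- A `p`-element of `W z` fixing `y` lies in `W y`. -/
theorem mem_W_of_fix {z y : Ω} (hzy : z ≠ y) {P : Subgroup G} (hP : IsPGroup p P) {w : G}
    (hwP : w ∈ P) (hw : w ∈ c.W z) (hwy : w • y = y) : w ∈ c.W y := by
  obtain ⟨R0, hwR0, hR0⟩ := exists_isPairSylow (z := z) (y := y) (hP.to_le (zpowers_le.2 hwP))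
    (zpowers_le.2 (mem_pairStab.2 ⟨c.W_le_stab z hw, hwy⟩))
  obtain ⟨R, b, hR0R, hR⟩ := d.exists_isFull hzy hR0
  obtain ⟨-, -, hRbz⟩ := d.full_inf hdvd hR
  obtain ⟨s, hsN, hs⟩ := hR0.exists_swap c hzy
  have hwR : w ∈ R := hR0R (hwR0 (mem_zpowers w))
  have hw'R : s * w * s⁻¹ ∈ R := hR0R ((mem_normalizer_iff.1 hsN w).1 (hwR0 (mem_zpowers w)))
  obtain ⟨m, hm, hmw⟩ := exists_normalizer_conj hR (d.full_comm hdvd hR) hwR hw'R
  have hm1 : s * w * s⁻¹ ∈ c.W (m • z) := by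
    rw [← hmw, c.mem_W_smul, show m⁻¹ * (m * w * m⁻¹) * m = w by group]
    exact hw
  have hmz : m • z ∈ fixSet (Ω := Ω) R :=
    smul_mem_fixSet hm (hR.fixSet_eq.symm ▸ Or.inl rfl)
  rw [hR.fixSet_eq] at hmz
  have hw'z : s * w * s⁻¹ ∈ c.W z := by
    rcases hmz with h | h
    · rwa [h] at hm1
    · exact hRbz ⟨hw'R, Set.mem_singleton_iff.1 h ▸ hm1⟩
  rw [← hs.2, c.mem_W_smul]
  rwa [inv_eq_self_of_orderOf_two hs.1] at hw'z ⊢

/-- An interchanging involution inverts `j` when the two `W`s meet trivially. -/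
theorem inverts_of_inf_eq_bot {a b : Ω} (hab : a ≠ b) (hE : c.W a ⊓ c.W b = ⊥) {R0 : Subgroup G}
    (hR0 : IsPairSylow p R0 a b) {s : G} (hsN : s ∈ normalizer (R0 : Set G))
    (hs : s ∈ invMap (G := G) a b) {j : G} (hj : j ∈ R0) : s * j * s⁻¹ = j⁻¹ := by
  obtain ⟨R, b', hR0R, hR⟩ := d.exists_isFull hab hR0
  have hjs : s * j * s⁻¹ ∈ R0 := (mem_normalizer_iff.1 hsN j).1 hj
  set a0 := j * (s * j * s⁻¹) with ha0
  have ha0R : a0 ∈ R0 := mul_mem hj hjs
  have hcom : Commute a0 s := by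
    refine (mul_inv_eq_iff_eq_mul.1 (?_ : s * a0 * s⁻¹ = a0)).symm
    have hss : s * s = 1 := mul_self_of_orderOf_two hs.1
    calc s * a0 * s⁻¹ = (s * j * s⁻¹) * ((s * s) * j * (s * s)⁻¹) := by rw [ha0]; group
      _ = (s * j * s⁻¹) * j := by rw [hss]; group
      _ = a0 := d.full_comm hdvd hR _ (hR0R hjs) _ (hR0R hj)
  obtain ⟨v, hv⟩ := c.fix.exists_fix s hs.1
  have hav : v ≠ a := fun e => hab (by rw [← hs.2, ← e, hv])
  have hbv : v ≠ b := fun e => hab (by rw [← smul_back hs.1 hs.2, ← e, hv])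
  have hW := d.mem_W_of_commute_invol hR0.isPGroup ha0R ⟨hs.1, hv⟩ hcom
  obtain ⟨ha, hb⟩ := mem_pairStab.1 (hR0.le ha0R)
  have h1 : a0 ∈ c.W a ⊓ c.W b := ⟨d.mem_W_of_fix hdvd hav hR0.isPGroup ha0R hW ha,
    d.mem_W_of_fix hdvd hbv hR0.isPGroup ha0R hW hb⟩
  rw [hE, mem_bot] at h1
  exact eq_inv_of_mul_eq_one_right h1

/-- A real element of order `p` centralizing no involution is inverted by an involution
interchanging any two of its fixed points. -/
theorem exists_inverter {j : G} (hj : orderOf j = p) {g0 : G} (hg0 : g0 * j * g0⁻¹ = j⁻¹)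
    {a b : Ω} (hab : a ≠ b) (hja : j • a = a) (hjb : j • b = b) :
    ∃ i ∈ invMap (G := G) a b, i * j * i⁻¹ = j⁻¹ := by
  obtain ⟨R0, hjR0, hR0⟩ := exists_isPairSylow (z := a) (y := b)
    (IsPGroup.of_card (n := 1) (p := p) (G := zpowers j) (by rw [Nat.card_zpowers, hj, pow_one]))
    (zpowers_le.2 (mem_pairStab.2 ⟨hja, hjb⟩))
  have hjR : j ∈ R0 := hjR0 (mem_zpowers j)
  obtain ⟨s, hsN, hs⟩ := hR0.exists_swap c hab
  by_cases hE : c.W a ⊓ c.W b = ⊥
  · exact ⟨s, hs, d.inverts_of_inf_eq_bot hdvd hab hE hR0 hsN hs hjR⟩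
  obtain ⟨R, b', hR0R, hR⟩ := d.exists_isFull hab hR0
  -- `R0` contains a Sylow subgroup of `W a ⊓ W b`, so it is `R`
  set E := c.W a ⊓ c.W b with hEdef
  set D := pairStab G a b with hD
  have hED : E ≤ D := le_inf (inf_le_left.trans (c.W_le_stab a)) (inf_le_right.trans (c.W_le_stab b))
  have hDE : ∀ g ∈ D, ∀ e ∈ E, g * e * g⁻¹ ∈ E := fun g hg e he =>
    ⟨(mem_normalizer_iff.1 (c.stab_le_normalizer_W a hg.1) e).1 he.1,
      (mem_normalizer_iff.1 (c.stab_le_normalizer_W b hg.2) e).1 he.2⟩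
  obtain ⟨y, hy, -, hRy⟩ := d.exists_le_W hdvd (hR.isPGroup.to_le (inf_le_left : R ⊓ c.W a ≤ R))
    inf_le_right
  obtain ⟨w, hw, hwE⟩ := d.central.exists_conj hy hab
    (fun h => by
      have h1 : (R ⊓ c.W a) ≤ c.W a ⊓ c.W y := le_inf inf_le_right hRy
      rw [h, le_bot_iff] at h1
      obtain ⟨hE', hb', -⟩ := d.full_inf hdvd hR
      obtain ⟨P, hP⟩ := exists_sylow hR
      obtain ⟨x, hx, hxo⟩ := exists_orderOf_W (c := c) hdvd a
      have hPa : (P : Subgroup G) ≤ MulAction.stabilizer G a :=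
        hP ▸ hR.le_pairStab.trans inf_le_left
      obtain ⟨Q, hQ⟩ := ((IsPGroup.of_card (n := 1) (p := p) (G := zpowers x)
        (by rw [Nat.card_zpowers, hxo, pow_one])).of_equiv
          (subgroupOfEquivOfLe (zpowers_le.2 (c.W_le_stab a hx))).symm).exists_le_sylow
      obtain ⟨g, hg⟩ := MulAction.exists_smul_eq (MulAction.stabilizer G a) Q (P.subtype hPa)
      have h2 : g * ⟨x, c.W_le_stab a hx⟩ * g⁻¹ ∈
          ((P.subtype hPa : Sylow p _) : Subgroup (MulAction.stabilizer G a)) := by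
        rw [← hg]
        exact ⟨_, hQ (mem_subgroupOf.2 (mem_zpowers x)), rfl⟩
      rw [Sylow.coe_subtype, hP] at h2
      have h3 : (g : G) * x * (g : G)⁻¹ ∈ R ⊓ c.W a :=
        ⟨mem_subgroupOf.1 h2, (mem_normalizer_iff.1 (c.stab_le_normalizer_W a g.2) x).1 hx⟩
      rw [h1, mem_bot] at h3
      rw [conj_eq_one_iff.1 h3, orderOf_one] at hxo
      exact (Fact.out : p.Prime).ne_one hxo.symm) hE
  -- a conjugate of `R ⊓ W a` lies in `E`, hence one lies in `R0`
  have hwa : w ∈ MulAction.stabilizer G a := c.W_le_stab a hw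
  have hmapE : (R ⊓ c.W a).map (MulAut.conj w).toMonoidHom ≤ E := by
    rintro _ ⟨x, hx, rfl⟩
    rw [hEdef, hwE]
    refine (Central.conj_mem_inf hwa).2 ?_
    show w⁻¹ * (w * x * w⁻¹) * w ∈ _
    rw [show w⁻¹ * (w * x * w⁻¹) * w = x by group]
    exact ⟨hx.2, hRy hx⟩
  obtain ⟨P, hP⟩ := hR0.exists_sylow
  obtain ⟨Q, hQ⟩ := (((hR.isPGroup.to_le (inf_le_left : R ⊓ c.W a ≤ R)).map
    (MulAut.conj w).toMonoidHom).of_equiv
      (subgroupOfEquivOfLe (hmapE.trans hED)).symm).exists_le_sylow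
  obtain ⟨g, hg⟩ := MulAction.exists_smul_eq D Q P
  have hle : ((R ⊓ c.W a).map (MulAut.conj w).toMonoidHom).map (MulAut.conj (g : G)).toMonoidHom ≤
      R0 ⊓ c.W a := by
    rintro _ ⟨x, hx, rfl⟩
    refine ⟨?_, (hDE g g.2 x (hmapE hx)).1⟩
    have h2 : g * ⟨x, hED (hmapE hx)⟩ * g⁻¹ ∈ (P : Subgroup D) := by
      rw [← hg]; exact ⟨_, hQ (mem_subgroupOf.2 hx), rfl⟩
    rw [hP] at h2
    exact mem_subgroupOf.1 h2
  have hcard : Nat.card ↥(R ⊓ c.W a) ≤ Nat.card ↥(R0 ⊓ c.W a) := by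
    refine le_trans ?_ (card_le_of_le hle)
    rw [card_map_of_injective (MulAut.conj (g : G)).injective,
      card_map_of_injective (MulAut.conj w).injective]
  have heq : R0 = R := eq_of_le_of_card_ge hR0R (by
    have h1 := Nat.le_of_dvd (Nat.mul_pos Nat.card_pos (pow_pos (Fact.out : p.Prime).pos _))
      (d.image_facts hR.isPGroup (hR.le_pairStab.trans inf_le_left)).2
    have h2 := Nat.le_of_dvd Nat.card_pos (d.card_dvd_of_pairSylow hab hR0)
    exact h1.trans ((Nat.mul_le_mul_right _ hcard).trans h2))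
  have hb' : b = b' := by
    have h : b ∈ fixSet (Ω := Ω) R := fun r hr => (mem_pairStab.1 (hR0.le (heq ▸ hr))).2
    rw [hR.fixSet_eq] at h
    exact h.resolve_left hab.symm
  subst hb'
  obtain ⟨m, hm, hmj⟩ := exists_normalizer_conj hR (d.full_comm hdvd hR) (x := j) (g := g0)
    (hR0R hjR) (by rw [hg0]; exact inv_mem (hR0R hjR))
  rw [hg0] at hmj
  have hfix : ∀ x, x = a ∨ x = b → m • x = a ∨ m • x = b := fun x hx => by
    have h := smul_mem_fixSet hm (show x ∈ fixSet (Ω := Ω) R by rw [hR.fixSet_eq]; exact hx)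
    rw [hR.fixSet_eq] at h
    exact h
  have hm2 : Commute (m * m) j := by
    refine mul_inv_eq_iff_eq_mul.1 ?_
    calc m * m * j * (m * m)⁻¹ = m * (m * j * m⁻¹) * m⁻¹ := by group
      _ = m * j⁻¹ * m⁻¹ := by rw [hmj]
      _ = (m * j * m⁻¹)⁻¹ := by group
      _ = j := by rw [hmj, inv_inv]
  have hma : m • a = b := by
    refine (hfix a (Or.inl rfl)).resolve_left fun hma => ?_
    have hmb : m • b = b := (hfix b (Or.inr rfl)).resolve_left fun e =>
      hab (smul_left_cancel m (hma.trans e.symm))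
    obtain ⟨k, hk⟩ := (odd_pairStab c.fix hab).of_dvd_nat
      (orderOf_dvd_natCard _ (mem_pairStab.2 ⟨hma, hmb⟩ : m ∈ pairStab G a b))
    have h3 : (m * m) ^ k * m = 1 := by
      rw [← sq, ← pow_mul, ← pow_succ, ← hk, pow_orderOf_eq_one]
    have hmj' : Commute m j := by
      rw [eq_inv_of_mul_eq_one_right h3]
      exact (hm2.pow_left k).inv_left
    rw [hmj'.eq, mul_inv_cancel_right] at hmj
    have h2 : j ^ 2 = 1 := by rw [sq]; exact eq_inv_iff_mul_eq_one.1 hmj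
    have h4 := orderOf_dvd_of_pow_eq_one h2
    rw [hj] at h4
    exact absurd ((Nat.prime_dvd_prime_iff_eq (Fact.out : p.Prime) Nat.prime_two).1 h4 ▸ d.p_odd :
      Odd 2) (by decide)
  have hmb : m • b = a := (hfix b (Or.inr rfl)).resolve_right fun e =>
    hab (smul_left_cancel m (hma.trans e.symm))
  obtain ⟨k, ⟨l, hl⟩, hi⟩ := c.exists_odd_pow_swap hab hma hmb
  refine ⟨_, hi, ?_⟩
  rw [hl, pow_succ', pow_mul, sq]
  calc m * (m * m) ^ l * j * (m * (m * m) ^ l)⁻¹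
      = m * ((m * m) ^ l * j * ((m * m) ^ l)⁻¹) * m⁻¹ := by group
    _ = j⁻¹ := by rw [(hm2.pow_left l).eq, mul_inv_cancel_right, hmj]

/-- All the intersections are nontrivial. -/
theorem inf_ne_bot {z y : Ω} (hzy : z ≠ y) : c.W z ⊓ c.W y ≠ ⊥ := by
  intro hE
  obtain ⟨R0, -, hR0⟩ := exists_isPairSylow (p := p) (z := z) (y := y)
    (IsPGroup.of_bot : IsPGroup p (⊥ : Subgroup G)) bot_le
  obtain ⟨r, hr, hrW⟩ := d.exists_not_mem_W hzy hR0
  obtain ⟨R, b, hR0R, hR⟩ := d.exists_isFull hzy hR0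
  obtain ⟨hEb, -, -⟩ := d.full_inf hdvd hR
  have hyb : y ≠ b := fun e => hEb (e ▸ hE)
  haveI : Nontrivial R0 :=
    ⟨⟨r, hr⟩, 1, fun e => hrW ((show r = 1 from congrArg Subtype.val e) ▸ one_mem _)⟩
  obtain ⟨j', hj'⟩ : ∃ j : R0, orderOf j = p := by
    obtain ⟨k, hk0, hk⟩ := hR0.isPGroup.nontrivial_iff_card.1 inferInstance
    exact exists_prime_orderOf_dvd_card' p (hk ▸ dvd_pow_self p hk0.ne')
  set j : G := (j' : G) with hjdef
  have hjR0 : j ∈ R0 := j'.2
  have hj : orderOf j = p := (Subgroup.orderOf_coe j').trans hj'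
  have hj1 : j ≠ 1 := fun e => (Fact.out : p.Prime).ne_one (by rw [← hj, e, orderOf_one])
  obtain ⟨hjz, hjy⟩ := mem_pairStab.1 (hR0.le hjR0)
  have hjW : j ∉ c.W z := fun h => hj1 (mem_bot.1 (hE ▸
    (⟨h, d.mem_W_of_fix hdvd hzy hR0.isPGroup hjR0 h hjy⟩ : j ∈ c.W z ⊓ c.W y)))
  have hnc : ∀ t : G, orderOf t = 2 → ¬ Commute j t := by
    intro t ht hjt
    obtain ⟨x, hx⟩ := c.fix.exists_fix t ht
    have h1 := d.mem_W_of_commute_invol hR0.isPGroup hjR0 ⟨ht, hx⟩ hjt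
    by_cases hxz : x = z
    · exact hjW (hxz ▸ h1)
    · exact hjW (d.mem_W_of_fix hdvd hxz hR0.isPGroup hjR0 h1 hjz)
  obtain ⟨s, hsN, hs⟩ := hR0.exists_swap c hzy
  have hsj := d.inverts_of_inf_eq_bot hdvd hzy hE hR0 hsN hs hjR0
  have hjb : j • b = b := (mem_pairStab.1 (hR.le_pairStab (hR0R hjR0))).2
  obtain ⟨u, hu, huj⟩ := d.exists_inverter hdvd hj hsj hyb hjy hjb
  obtain ⟨v, hv, hvj⟩ := d.exists_inverter hdvd hj hsj hR.ne.symm hjz hjb
  set g := v * u * s with hg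
  have hgz : g • z = z := by rw [hg, mul_smul, mul_smul, hs.2, hu.2, smul_back hv.1 hv.2]
  have hgj : g * j * g⁻¹ = j⁻¹ := by
    calc g * j * g⁻¹ = v * (u * (s * j * s⁻¹) * u⁻¹) * v⁻¹ := by rw [hg]; group
      _ = v * (u * j * u⁻¹)⁻¹ * v⁻¹ := by rw [hsj]; group
      _ = _ := by rw [huj, inv_inv, hvj]
  have hg2 : Commute (g * g) j := by
    refine mul_inv_eq_iff_eq_mul.1 ?_
    calc g * g * j * (g * g)⁻¹ = g * (g * j * g⁻¹) * g⁻¹ := by group
      _ = g * j⁻¹ * g⁻¹ := by rw [hgj]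
      _ = (g * j * g⁻¹)⁻¹ := by group
      _ = j := by rw [hgj, inv_inv]
  obtain ⟨k, m, ⟨l, hl⟩, hkm⟩ := Nat.exists_eq_two_pow_mul_odd (orderOf_pos g).ne'
  set i := g ^ m with hi
  have hij : i * j * i⁻¹ = j⁻¹ := by
    rw [hi, hl, pow_succ', pow_mul, sq]
    calc g * (g * g) ^ l * j * (g * (g * g) ^ l)⁻¹
        = g * ((g * g) ^ l * j * ((g * g) ^ l)⁻¹) * g⁻¹ := by group
      _ = _ := by rw [(hg2.pow_left l).eq, mul_inv_cancel_right, hgj]
  have hj2 : j ^ 2 ≠ 1 := fun e => by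
    have h4 := orderOf_dvd_of_pow_eq_one e
    rw [hj] at h4
    exact absurd ((Nat.prime_dvd_prime_iff_eq (Fact.out : p.Prime) Nat.prime_two).1 h4 ▸ d.p_odd :
      Odd 2) (by decide)
  have hio : orderOf i = 2 ^ k := by
    rw [hi, orderOf_pow, Nat.gcd_eq_right ⟨2 ^ k, by rw [hkm]; ring⟩, hkm,
      Nat.mul_div_cancel _ (by omega)]
  have hk1 : k = 1 := by
    rcases k with - | - | k
    · exfalso
      rw [pow_zero, orderOf_eq_one_iff] at hio
      rw [hio] at hij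
      simp only [one_mul, inv_one, mul_one] at hij
      exact hj2 (by rw [sq]; exact eq_inv_iff_mul_eq_one.1 hij)
    · rfl
    · exfalso
      have hio2 : orderOf (i ^ 2 ^ (k + 1)) = 2 := by
        rw [orderOf_pow, hio, Nat.gcd_eq_right (pow_dvd_pow 2 (by omega)),
          Nat.pow_div (by omega) (by norm_num), show k + 1 + 1 - (k + 1) = 1 by omega, pow_one]
      refine hnc _ hio2 ?_
      rw [pow_succ', pow_mul, sq i, hi, hl, ← pow_add, ← two_mul, pow_mul, sq g]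
      exact ((hg2.pow_left _).pow_left _).symm
  rw [hk1, pow_one] at hio
  have hiz : i • z = z := (pow_mem (show g ∈ MulAction.stabilizer G z from hgz) m :
    i ∈ MulAction.stabilizer G z)
  have hjc : i * j * i⁻¹ * j⁻¹ ∈ c.A z := by
    have hia := d.central.mem_A ⟨hio, hiz⟩
    rw [show i * j * i⁻¹ * j⁻¹ = i * (j * i⁻¹ * j⁻¹) by group]
    exact mul_mem hia (d.central.conj_mem_A hjz (inv_mem hia))
  rw [hij, ← mul_inv_rev, ← sq] at hjc
  have h1 : j ^ 2 ∈ c.A z := inv_mem_iff.1 hjc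
  have h2 := (c.hyp z).orderOf_mem h1 hj2
  have h3 : orderOf (j ^ 2) ∣ p := hj ▸ orderOf_pow_dvd 2
  rw [h2] at h3
  exact absurd ((Nat.prime_dvd_prime_iff_eq Nat.prime_two (Fact.out : p.Prime)).1 h3 ▸ d.p_odd :
    Odd 2) (by decide)

end GoodData
end Ctx
end CfsgLib.AbelSolvCent
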