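import Cfsg.Agent.AbelSolvCent.Semilinear
import Cfsg.Agent.SEmbed.Elementary
import Cfsg.Agent.SEmbed.Cosets

/-!
# A normal subgroup of a point stabilizer semiregular on the other points

`SemiregSetting`: in a group with unique fixed points of involutions each point `z` carries a normal
subgroup `Q z` of its stabilizer, semiregular on the other points, containing the involutions at `z`
and the kernel of an action of the stabilizer on a group `V` of order `2ⁿ`, transitive on `V ∖ 1`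
through the elements fixing a second point, in which an element commuting with an involution at `z`
fixes a nontrivial vector.

For `j` of order `p` (`GoodPrime`) fixing `z ≠ y`: `j` fixes no third point, so `Q z` is regular on
the other points (`exists_smul_eq`).
-/

set_option autoImplicit false
set_option linter.style.haveILetI false
set_option linter.unusedSectionVars false

namespace CfsgLib.AbelSolvCent

open Subgroup CfsgLib.SEmbed

variable {G : Type*} [Group G] {Ω : Type*} [MulAction G Ω] [Finite G]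

/-- The setting. -/
structure SemiregSetting (G : Type*) [Group G] (Ω : Type*) [MulAction G Ω] (V : Type*) [Group V]
    (n : ℕ) where
  fix : UniqueFix G Ω
  three_le : 3 ≤ n
  exists_ne : ∀ z : Ω, ∃ y, y ≠ z
  Q : Ω → Subgroup G
  le_stab : ∀ z, Q z ≤ MulAction.stabilizer G z
  normal : ∀ z, MulAction.stabilizer G z ≤ normalizer (Q z : Set G)
  odd_index : ∀ z, Odd ((Q z).subgroupOf (MulAction.stabilizer G z)).index
  semireg : ∀ z, ∀ q ∈ Q z, q ≠ 1 → ∀ y, q • y = y → y = z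
  invol_mem : ∀ z, ∀ t ∈ invMap (G := G) z z, t ∈ Q z
  exp_two : ∀ v : V, v * v = 1
  card_V : Nat.card V = 2 ^ n
  act : (z : Ω) → MulAction.stabilizer G z →* MulAut V
  act_ker : ∀ (z : Ω) (g : MulAction.stabilizer G z), act z g = 1 ↔ (g : G) ∈ Q z
  transitive : ∀ (z y : Ω), y ≠ z → ∀ v w : V, v ≠ 1 → w ≠ 1 →
    ∃ g : MulAction.stabilizer G z, (g : G) • y = y ∧ act z g v = w
  fixed : ∀ (z : Ω) (g : MulAction.stabilizer G z), ∀ t ∈ invMap (G := G) z z, Commute t (g : G) →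
    ∃ v : V, v ≠ 1 ∧ act z g v = v

namespace SemiregSetting

variable {V : Type*} [Group V] {n : ℕ} (c : SemiregSetting G Ω V n) {p : ℕ} (hp : GoodPrime n p)
include c

theorem odd_range (z : Ω) : Odd (Nat.card (c.act z).range) := by
  rw [← Subgroup.index_ker]
  refine (c.odd_index z).of_dvd_nat (dvd_of_eq ?_)
  congr 1
  ext g
  rw [MonoidHom.mem_ker, c.act_ker, mem_subgroupOf]

include hp in
theorem rangeFacts (z : Ω) : Facts (c.act z).range.subtype n p := by
  haveI : Finite V := Nat.finite_of_card_ne_zero (by rw [c.card_V]; positivity)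
  refine facts c.three_le hp (c.odd_range z) c.exp_two c.card_V _
    (Subgroup.subtype_injective _) fun v w hv hw => ?_
  obtain ⟨y, hy⟩ := c.exists_ne z
  obtain ⟨g, -, hg⟩ := c.transitive z y hy v w hv hw
  exact ⟨⟨_, g, rfl⟩, hg⟩

theorem eq_one_of_mem_Q {z y : Ω} (hy : y ≠ z) {g : G} (hg : g ∈ pairStab G z y)
    (hQ : g ∈ c.Q z) : g = 1 := by
  by_contra h
  exact hy (c.semireg z g hQ h y (mem_pairStab.1 hg).2)

/-- The image of an element fixing two points. -/
noncomputable def img {z y : Ω} (g : pairStab G z y) : (c.act z).range :=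
  ⟨c.act z ⟨g, g.2.1⟩, ⟨g, g.2.1⟩, rfl⟩

/-- `img` as a homomorphism. -/
noncomputable def imgHom (z y : Ω) : pairStab G z y →* (c.act z).range :=
  MonoidHom.mk' c.img fun g h => Subtype.ext (map_mul (c.act z)
    (⟨g.1, g.2.1⟩ : MulAction.stabilizer G z) ⟨h.1, h.2.1⟩)

theorem imgHom_injective {z y : Ω} (hy : y ≠ z) : Function.Injective (c.imgHom z y) := by
  rw [injective_iff_map_eq_one]
  intro g hg
  exact Subtype.ext (c.eq_one_of_mem_Q hy g.2 ((c.act_ker z _).1 (congrArg Subtype.val hg)))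

theorem orderOf_img {z y : Ω} (hy : y ≠ z) (g : pairStab G z y) :
    orderOf (c.imgHom z y g) = orderOf (g : G) := by
  rw [orderOf_injective _ (c.imgHom_injective hy), Subgroup.orderOf_coe]

include hp

/-- No involution at `z` commutes with `k ≠ 1` centralizing `j`. -/
theorem cent_fpf {z y : Ω} (hy : y ≠ z) {j k : G} (hj : j ∈ pairStab G z y) (hjo : orderOf j = p)
    (hk : k ∈ pairStab G z y) (hkj : Commute k j) (hk1 : k ≠ 1) {t : G}
    (ht : t ∈ invMap (G := G) z z) (htk : Commute t k) : False := by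
  obtain ⟨v, hv, hvk⟩ := c.fixed z ⟨k, hk.1⟩ t ht htk
  exact hv ((c.rangeFacts hp z).cent_fpf (c.imgHom z y ⟨j, hj⟩) (c.imgHom z y ⟨k, hk⟩)
    (by rw [c.orderOf_img hy, hjo])
    ((show Commute (⟨k, hk⟩ : pairStab G z y) ⟨j, hj⟩ from Subtype.ext hkj.eq).map _)
    (fun e => hk1 (congrArg Subtype.val (c.imgHom_injective hy (e.trans (map_one _).symm))))
    v hvk)

theorem ne_one {j : G} (hjo : orderOf j = p) : j ≠ 1 := fun e => by
  rw [e, orderOf_one] at hjo
  exact hp.prime.ne_one hjo.symm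

theorem odd_p : p ≠ 2 := by
  intro e
  have h := hp.dvd
  have h3 := c.three_le
  rw [e, show n = n - 1 + 1 by omega, pow_succ'] at h
  have := Nat.one_le_two_pow (n := n - 1)
  omega

/-- No involution centralizes `j`. -/
theorem not_commute {z y : Ω} (hy : y ≠ z) {j : G} (hj : j ∈ pairStab G z y) (hjo : orderOf j = p)
    {v : G} (hv : orderOf v = 2) : ¬ Commute j v := by
  intro hc
  obtain ⟨w, hw⟩ := c.fix.exists_fix v hv
  have hjw : j • w = w := commute_fix c.fix hv hc hw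
  obtain ⟨hjz, hjy⟩ := mem_pairStab.1 hj
  obtain ⟨w', hw', hjw'⟩ : ∃ w', w' ≠ w ∧ j • w' = w' := by
    by_cases h : z = w
    · exact ⟨y, h ▸ hy, hjy⟩
    · exact ⟨z, h, hjz⟩
  exact c.cent_fpf hp hw' (mem_pairStab.2 ⟨hjw, hjw'⟩) hjo (mem_pairStab.2 ⟨hjw, hjw'⟩)
    (Commute.refl j) (c.ne_one hp hjo) ⟨hv, hw⟩ hc.symm

theorem mem_zpowers_of_order {z y : Ω} (hy : y ≠ z) {j j' : G} (hj : j ∈ pairStab G z y)
    (hj' : j' ∈ pairStab G z y) (hjo : orderOf j = p) (hjo' : orderOf j' = p) :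
    j' ∈ zpowers j := by
  obtain ⟨k, hk⟩ := (c.rangeFacts hp z).unique (c.imgHom z y ⟨j, hj⟩) (c.imgHom z y ⟨j', hj'⟩)
    (by rw [c.orderOf_img hy, hjo]) (by rw [c.orderOf_img hy, hjo'])
  refine ⟨k, ?_⟩
  have := c.imgHom_injective hy ((map_zpow _ _ k).trans hk)
  exact congrArg Subtype.val this

/-- Every swapper of two fixed points of `j` inverts it. -/
theorem swap_inv {z y : Ω} (hy : y ≠ z) {j : G} (hj : j ∈ pairStab G z y) (hjo : orderOf j = p)
    {i : G} (hi : i ∈ invMap (G := G) z y) : i * j * i⁻¹ = j⁻¹ := by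
  haveI : Fact p.Prime := ⟨hp.prime⟩
  obtain ⟨hjz, hjy⟩ := mem_pairStab.1 hj
  have hiy := smul_back hi.1 hi.2
  have hii : i⁻¹ = i := CfsgLib.Small.inv_eq_self_of_orderOf_two hi.1
  have hcD : i * j * i⁻¹ ∈ pairStab G z y := mem_pairStab.2 ⟨by
      rw [hii, mul_smul, mul_smul, hi.2, hjy, hiy], by
      rw [hii, mul_smul, mul_smul, hiy, hjz, hi.2]⟩
  obtain ⟨m, hm⟩ := c.mem_zpowers_of_order hp hy hj hcD hjo
    ((CfsgLib.Small.orderOf_conj_eq i j).trans hjo)
  have h2 : j ^ (m * m) = j := by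
    calc j ^ (m * m) = (i * j * i⁻¹) ^ m := by rw [← hm, zpow_mul]
      _ = i * j ^ m * i⁻¹ := conj_zpow
      _ = j := by
        rw [show j ^ m = i * j * i⁻¹ from hm, hii]
        have := CfsgLib.Small.mul_self_of_orderOf_two hi.1
        rw [mul_assoc i j i, ← mul_assoc i i, this, one_mul, mul_assoc, this, mul_one]
  have h3 : (p : ℤ) ∣ (m - 1) * (m + 1) := by
    rw [← hjo, orderOf_dvd_iff_zpow_eq_one, show (m - 1) * (m + 1) = m * m - 1 by ring,
      zpow_sub_one, h2, mul_inv_cancel]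
  rcases (Nat.prime_iff_prime_int.1 hp.prime).dvd_or_dvd h3 with h | h
  · exfalso
    rw [← hjo, orderOf_dvd_iff_zpow_eq_one, zpow_sub_one, mul_inv_eq_one] at h
    refine c.not_commute hp hy hj hjo hi.1 ?_
    rw [show j ^ m = i * j * i⁻¹ from hm, mul_inv_eq_iff_eq_mul] at h
    exact h.symm
  · rw [← hjo, orderOf_dvd_iff_zpow_eq_one, zpow_add_one] at h
    rw [← show j ^ m = i * j * i⁻¹ from hm]
    exact eq_inv_of_mul_eq_one_left h

omit hp in
/-- An inverted element with two fixed points has square one if the inverter fixes one of them. -/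
theorem sq_eq_one_of_inverting {w w' : Ω} (hw' : w' ≠ w) {k : G} (hk : k ∈ pairStab G w w')
    {i : G} (hi : i ∈ invMap (G := G) w w) (hinv : i * k * i⁻¹ = k⁻¹) : k * k = 1 := by
  refine c.eq_one_of_mem_Q hw' (mul_mem hk hk) ?_
  have hiQ := c.invol_mem w i hi
  have h1 : k * i * k⁻¹ ∈ c.Q w := (mem_normalizer_iff.1 (c.normal w hk.1) i).1 hiQ
  have h2 : i * k⁻¹ * i⁻¹ = k := by
    rw [show i * k⁻¹ * i⁻¹ = (i * k * i⁻¹)⁻¹ by group, hinv, inv_inv]
  rw [show k * k = k * i * k⁻¹ * i⁻¹ by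
    calc k * k = k * (i * k⁻¹ * i⁻¹) := by rw [h2]
      _ = _ := by group]
  exact mul_mem h1 (inv_mem hiQ)

omit hp in
/-- An element inverted by all swappers of its fixed points has at most two. -/
theorem false_of_three {k : G} (hk2 : k * k ≠ 1) (hc : ∀ v : G, orderOf v = 2 → ¬ Commute k v)
    (hinv : ∀ a b : Ω, b ≠ a → k • a = a → k • b = b → ∀ i ∈ invMap (G := G) a b,
      i * k * i⁻¹ = k⁻¹)
    {x y w : Ω} (hxy : y ≠ x) (hxw : w ≠ x) (hyw : w ≠ y) (hx : k • x = x) (hy : k • y = y)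
    (hw : k • w = w) : False := by
  obtain ⟨sx, hsx, hsxx⟩ := c.fix.exists_inv x
  obtain ⟨sy, hsy, hsyy⟩ := c.fix.exists_inv y
  obtain ⟨sw, hsw, hsww⟩ := c.fix.exists_inv w
  obtain ⟨u, hu, -⟩ := exists_interchange c.fix hsx hsy hsxx hsyy hxy.symm
  obtain ⟨v, hv, -⟩ := exists_interchange c.fix hsy hsw hsyy hsww hyw.symm
  obtain ⟨v', hv', -⟩ := exists_interchange c.fix hsx hsw hsxx hsww hxw.symm
  set C := centralizer ({k} : Set G) with hCdef
  have hprod : ∀ a b : G, a * k * a⁻¹ = k⁻¹ → b * k * b⁻¹ = k⁻¹ → a * b ∈ C := by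
    intro a b ha hb
    refine mem_centralizer_singleton_iff.2 (mul_inv_eq_iff_eq_mul.1 ?_)
    calc a * b * k * (a * b)⁻¹ = a * (b * k * b⁻¹) * a⁻¹ := by group
      _ = (a * k * a⁻¹)⁻¹ := by rw [hb]; group
      _ = k := by rw [ha, inv_inv]
  have hui := hinv x y hxy hx hy u hu
  have hvi := hinv y w hyw hy hw v hv
  have hvi' := hinv x w hxw hx hw v' hv'
  have h1 : (v * u) • x = w := by rw [mul_smul, hu.2, hv.2]
  have h2 : (v' * v) • y = x := by rw [mul_smul, hv.2, smul_back hv'.1 hv'.2]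
  have hyO : y ∈ MulAction.orbit C x :=
    ⟨⟨(v' * v)⁻¹, inv_mem (hprod _ _ hvi' hvi)⟩, inv_smul_eq_iff.2 h2.symm⟩
  have hCu : ∀ g ∈ C, u * g * u⁻¹ ∈ C := by
    intro g hg
    have hgk := mem_centralizer_singleton_iff.1 hg
    refine mem_centralizer_singleton_iff.2 (mul_inv_eq_iff_eq_mul.1 ?_)
    have hu' : u⁻¹ * k * u = k⁻¹ := by
      have h3 := hui
      rw [CfsgLib.Small.inv_eq_self_of_orderOf_two hu.1] at h3 ⊢
      exact h3
    calc u * g * u⁻¹ * k * (u * g * u⁻¹)⁻¹ = u * (g * (u⁻¹ * k * u) * g⁻¹) * u⁻¹ := by group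
      _ = u * k⁻¹ * u⁻¹ := by
        rw [hu', (Commute.inv_right (show Commute g k from hgk)).eq, mul_inv_cancel_right]
      _ = (u * k * u⁻¹)⁻¹ := by group
      _ = k := by rw [hui, inv_inv]
  have hoddC : Odd (Nat.card C) := by
    by_contra hev
    obtain ⟨t, ht, hto⟩ := CfsgLib.Small.exists_invol_mem (Nat.not_odd_iff_even.1 hev)
    exact hc t hto (mem_centralizer_singleton_iff.1 ht).symm
  have hmap : ∀ o ∈ MulAction.orbit C x, u • o ∈ MulAction.orbit C x := by
    rintro _ ⟨g, rfl⟩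
    show u • ((g : G) • x) ∈ _
    rw [show u • ((g : G) • x) = (u * (g : G) * u⁻¹) • (u • x) by
      rw [smul_smul, smul_smul, inv_mul_cancel_right], hu.2]
    obtain ⟨g', hg'⟩ := hyO
    exact ⟨⟨u * (g : G) * u⁻¹, hCu g g.2⟩ * g', by
      show ((u * (g : G) * u⁻¹) * (g' : G)) • x = _
      rw [mul_smul]
      exact congrArg ((u * (g : G) * u⁻¹) • ·) hg'⟩
  classical
  haveI : Fact (Nat.Prime 2) := ⟨Nat.prime_two⟩
  haveI := finite_points c.fix
  letI : MulAction (zpowers u) (MulAction.orbit C x) := {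
    smul := fun g o => ⟨(g : G) • o.1, by
      obtain ⟨m, hm, hm'⟩ := Finset.mem_image.1 (mem_zpowers_iff_mem_range_orderOf.1 g.2)
      rw [← hm']
      rw [Finset.mem_range, hu.1] at hm
      interval_cases m
      · rw [pow_zero, one_smul]; exact o.2
      · rw [pow_one]; exact hmap _ o.2⟩
    one_smul := fun o => Subtype.ext (one_smul G o.1)
    mul_smul := fun g g' o => Subtype.ext (mul_smul (g : G) (g' : G) o.1) }
  have hp2 : IsPGroup 2 (zpowers u) :=
    IsPGroup.of_card (n := 1) (by rw [Nat.card_zpowers, hu.1, pow_one])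
  have hoddO : Odd (Nat.card (MulAction.orbit C x)) := by
    rw [Nat.card_congr (MulAction.orbitEquivQuotientStabilizer C x), ← Subgroup.index_eq_card]
    exact hoddC.of_dvd_nat (index_dvd_card _)
  obtain ⟨o, ho⟩ := hp2.nonempty_fixed_point_of_prime_not_dvd_card (MulAction.orbit C x)
    hoddO.not_two_dvd_nat
  have hou : u • o.1 = o.1 := congrArg Subtype.val (ho ⟨u, mem_zpowers u⟩)
  have hko : k • o.1 = o.1 := by
    obtain ⟨g, hg⟩ := o.2
    rw [← hg]
    show k • ((g : G) • x) = (g : G) • x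
    rw [smul_smul, ← mem_centralizer_singleton_iff.1 g.2, mul_smul, hx]
  obtain ⟨o', ho', hko'⟩ : ∃ o', o' ≠ o.1 ∧ k • o' = o' := by
    by_cases h : x = o.1
    · exact ⟨y, h ▸ hxy, hy⟩
    · exact ⟨x, h, hx⟩
  exact hk2 (c.sq_eq_one_of_inverting ho' (mem_pairStab.2 ⟨hko, hko'⟩) ⟨hu.1, hou⟩ hui)

theorem eq_or_eq_of_fixed {z y : Ω} (hy : y ≠ z) {j : G} (hj : j ∈ pairStab G z y)
    (hjo : orderOf j = p) {w : Ω} (hw : j • w = w) : w = z ∨ w = y := by
  by_contra hne
  push Not at hne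
  obtain ⟨hjz, hjy⟩ := mem_pairStab.1 hj
  refine c.false_of_three (k := j) ?_ (fun v hv => c.not_commute hp hy hj hjo hv)
    (fun a b hab ha hb i hi => c.swap_inv hp hab (mem_pairStab.2 ⟨ha, hb⟩) hjo hi)
    hy hne.1 hne.2 hjz hjy hw
  rw [← sq]
  intro e
  have h := orderOf_dvd_of_pow_eq_one e
  rw [hjo] at h
  exact c.odd_p hp ((Nat.prime_dvd_prime_iff_eq hp.prime Nat.prime_two).1 h)

/-- No nontrivial element of `Q z` centralizes `j`. -/
theorem eq_one_of_commute {z y : Ω} (hy : y ≠ z) {j : G} (hj : j ∈ pairStab G z y)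
    (hjo : orderOf j = p) {q : G} (hq : q ∈ c.Q z) (hqj : Commute q j) : q = 1 := by
  obtain ⟨hjz, hjy⟩ := mem_pairStab.1 hj
  rcases c.eq_or_eq_of_fixed hp hy hj hjo (w := q • y)
    (by rw [smul_smul, ← hqj.eq, mul_smul, hjy]) with h | h
  · exact absurd (smul_left_cancel q (h.trans (c.le_stab z hq).symm)) hy
  · exact c.eq_one_of_mem_Q hy (mem_pairStab.2 ⟨c.le_stab z hq, h⟩) hq

theorem not_dvd_card_Q {z y : Ω} (hy : y ≠ z) {j : G} (hj : j ∈ pairStab G z y)
    (hjo : orderOf j = p) : ¬ p ∣ Nat.card (c.Q z) := by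
  haveI : Fact p.Prime := ⟨hp.prime⟩
  intro hd
  have hn : ∀ g ∈ zpowers j, ∀ q ∈ c.Q z, g * q * g⁻¹ ∈ c.Q z := fun g hg q hq =>
    (mem_normalizer_iff.1 (c.normal z ((zpowers_le.2 hj.1) hg)) q).1 hq
  letI : MulAction (zpowers j) (c.Q z) := {
    smul := fun g q => ⟨(g : G) * q * (g : G)⁻¹, hn g g.2 q q.2⟩
    one_smul := fun q => Subtype.ext (by show (1 : G) * q * (1 : G)⁻¹ = q; group)
    mul_smul := fun g g' q => Subtype.ext (by
      show ((g : G) * g') * q * ((g : G) * g')⁻¹ = (g : G) * ((g' : G) * q * (g' : G)⁻¹) * (g : G)⁻¹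
      group) }
  have hP : IsPGroup p (zpowers j) :=
    IsPGroup.of_card (n := 1) (by rw [Nat.card_zpowers, hjo, pow_one])
  obtain ⟨q, hq, hq1⟩ := hP.exists_fixed_point_of_prime_dvd_card_of_fixed_point (c.Q z) hd
    (a := 1) (fun g => Subtype.ext (by show (g : G) * 1 * (g : G)⁻¹ = 1; group))
  refine hq1 (Subtype.ext (c.eq_one_of_commute hp hy hj hjo q.2 ?_).symm)
  have h : j * (q : G) * j⁻¹ = q := congrArg Subtype.val (hq ⟨j, mem_zpowers j⟩)
  exact (mul_inv_eq_iff_eq_mul.1 h).symm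

omit hp in
theorem two_pow_sub_one_dvd {z y : Ω} (hy : y ≠ z) :
    2 ^ n - 1 ∣ Nat.card (pairStab G z y) := by
  classical
  have h3 := c.three_le
  haveI : Finite V := Nat.finite_of_card_ne_zero (by rw [c.card_V]; positivity)
  haveI : Nontrivial V := by
    rw [← Finite.one_lt_card_iff_nontrivial, c.card_V]
    exact Nat.one_lt_two_pow (by omega)
  obtain ⟨v, hv⟩ := _root_.exists_ne (1 : V)
  set X : Subgroup (MulAut V) := ((c.act z).comp
    (inclusion (inf_le_left : pairStab G z y ≤ MulAction.stabilizer G z))).range with hX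
  have horb : MulAction.orbit X v = {w | w ≠ 1} := by
    ext w
    constructor
    · rintro ⟨g, rfl⟩ h
      exact hv ((g : MulAut V).injective (h.trans (map_one _).symm))
    · intro hw
      obtain ⟨g, hgy, hg⟩ := c.transitive z y hy v w hv hw
      exact ⟨⟨c.act z g, ⟨g, g.2, hgy⟩, rfl⟩, hg⟩
  have h1 : Nat.card (MulAction.orbit X v) ∣ Nat.card X := by
    rw [Nat.card_congr (MulAction.orbitEquivQuotientStabilizer X v), ← Subgroup.index_eq_card]
    exact index_dvd_card _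
  haveI := Fintype.ofFinite V
  rw [horb, Nat.card_eq_fintype_card] at h1
  have h2 : Fintype.card {w : V | w ≠ 1} = 2 ^ n - 1 := by
    simp only [Set.coe_setOf, Fintype.card_subtype_compl, Fintype.card_subtype_eq]
    rw [← Nat.card_eq_fintype_card, c.card_V]
  rw [h2] at h1
  exact h1.trans (Subgroup.card_range_dvd _)

theorem exists_orderOf {z y : Ω} (hy : y ≠ z) : ∃ j ∈ pairStab G z y, orderOf j = p := by
  haveI : Fact p.Prime := ⟨hp.prime⟩
  obtain ⟨j, hj⟩ := exists_prime_orderOf_dvd_card' (G := pairStab G z y) p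
    (hp.dvd.trans (c.two_pow_sub_one_dvd hy))
  exact ⟨j, j.2, by rw [Subgroup.orderOf_coe, hj]⟩

/-- `Q z` is transitive on the other points. -/
theorem exists_smul_eq {z y y' : Ω} (hy : y ≠ z) (hy' : y' ≠ z) : ∃ q ∈ c.Q z, q • y = y' := by
  haveI : Fact p.Prime := ⟨hp.prime⟩
  obtain ⟨j, hj, hjo⟩ := c.exists_orderOf hp hy
  obtain ⟨j', hj', hjo'⟩ := c.exists_orderOf hp hy'
  set U := zpowers j with hU
  have hUN : U ≤ normalizer (c.Q z : Set G) := (zpowers_le.2 hj.1).trans (c.normal z)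
  set T := U ⊔ c.Q z with hT
  have hmemT : ∀ g, g ∈ T → ∃ u ∈ U, ∃ q ∈ c.Q z, u * q = g := fun g hg => by
    rw [hT, ← SetLike.mem_coe, Subgroup.coe_mul_of_left_le_normalizer_right _ _ hUN] at hg
    exact hg
  -- `j'` lies in `T`
  have hj'T : j' ∈ T := by
    obtain ⟨k, hk⟩ := (c.rangeFacts hp z).unique (c.imgHom z y ⟨j, hj⟩) (c.imgHom z y' ⟨j', hj'⟩)
      (by rw [c.orderOf_img hy, hjo]) (by rw [c.orderOf_img hy', hjo'])
    have hk' : c.act z ⟨j, hj.1⟩ ^ k = c.act z ⟨j', hj'.1⟩ := congrArg Subtype.val hk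
    have hQ : (j ^ k)⁻¹ * j' ∈ c.Q z := by
      refine (c.act_ker z ((⟨j, hj.1⟩ ^ k)⁻¹ * ⟨j', hj'.1⟩)).1 ?_
      rw [map_mul, map_inv, map_zpow, hk', inv_mul_cancel]
    have := mul_mem ((le_sup_left : U ≤ T) (zpow_mem (mem_zpowers j) k))
      ((le_sup_right : c.Q z ≤ T) hQ)
    simpa using this
  have hcardT : Nat.card T = p * Nat.card (c.Q z) := by
    rw [← hjo, ← Nat.card_zpowers, ← Nat.card_prod]
    refine (Nat.card_eq_of_bijective (fun x : U × c.Q z => (⟨(x.1 : G) * x.2,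
      mul_mem ((le_sup_left : U ≤ T) x.1.2) ((le_sup_right : c.Q z ≤ T) x.2.2)⟩ : T))
      ⟨fun a b hab => ?_, fun g => ?_⟩).symm
    · have h : (a.1 : G) * a.2 = b.1 * b.2 := congrArg Subtype.val hab
      have h1 : (b.1 : G)⁻¹ * a.1 = b.2 * (a.2 : G)⁻¹ := by
        rw [eq_mul_inv_iff_mul_eq, mul_assoc, h, inv_mul_cancel_left]
      have h2 : (b.1 : G)⁻¹ * a.1 = 1 := c.eq_one_of_mem_Q hy
        ((zpowers_le.2 hj) (U.mul_mem (U.inv_mem b.1.2) a.1.2))
        (h1 ▸ mul_mem b.2.2 (inv_mem a.2.2))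
      have h3 : (b.1 : G) = a.1 := inv_mul_eq_one.1 h2
      rw [h3] at h
      exact Prod.ext (Subtype.ext h3.symm) (Subtype.ext (mul_left_cancel h))
    · obtain ⟨u, hu, q, hq, he⟩ := hmemT g g.2
      exact ⟨(⟨u, hu⟩, ⟨q, hq⟩), Subtype.ext he⟩
  have hfac : (Nat.card T).factorization p = 1 := by
    rw [hcardT, Nat.factorization_mul hp.prime.ne_zero Nat.card_pos.ne', Finsupp.add_apply,
      hp.prime.factorization_self,
      Nat.factorization_eq_zero_of_not_dvd (c.not_dvd_card_Q hp hy hj hjo), add_zero]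
  have hsyl : ∀ i : G, i ∈ T → orderOf i = p → ∃ P : Sylow p T, (P : Subgroup T).map T.subtype =
      zpowers i := by
    intro i hi hio
    have hle : zpowers i ≤ T := zpowers_le.2 hi
    refine ⟨Sylow.ofCard ((zpowers i).subgroupOf T) ?_, ?_⟩
    · rw [hfac, pow_one, Nat.card_congr (subgroupOfEquivOfLe hle).toEquiv, Nat.card_zpowers, hio]
    · rw [Sylow.coe_ofCard, subgroupOf_map_subtype, inf_eq_left.2 hle]
  obtain ⟨P, hP⟩ := hsyl j ((le_sup_left : U ≤ T) (mem_zpowers j)) hjo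
  obtain ⟨P', hP'⟩ := hsyl j' hj'T hjo'
  obtain ⟨t, ht⟩ := MulAction.exists_smul_eq T P P'
  have hconj : (t : G) * j * (t : G)⁻¹ ∈ zpowers j' := by
    obtain ⟨a, ha, hae⟩ := (hP.symm ▸ mem_zpowers j : j ∈ (P : Subgroup T).map T.subtype)
    rw [← hP', ← ht]
    refine ⟨t * a * t⁻¹, ⟨a, ha, rfl⟩, ?_⟩
    rw [← hae]; rfl
  obtain ⟨u, hu, q, hq, htq⟩ := hmemT t t.2
  obtain ⟨hjz, hjy⟩ := mem_pairStab.1 hj
  -- move `t` to `Q z`
  have huy : u • y = y := (mem_pairStab.1 ((zpowers_le.2 hj) hu)).2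
  have huq : u * q * u⁻¹ ∈ c.Q z := (mem_normalizer_iff.1 (hUN hu) q).1 hq
  refine ⟨u * q * u⁻¹, huq, ?_⟩
  have hty : j' • ((t : G) • y) = (t : G) • y := by
    have h1 : j' ∈ zpowers ((t : G) * j * (t : G)⁻¹) := by
      have hne : orderOf ((t : G) * j * (t : G)⁻¹) = p := (CfsgLib.Small.orderOf_conj_eq _ j).trans hjo
      have heq : zpowers ((t : G) * j * (t : G)⁻¹) = zpowers j' :=
        eq_of_le_of_card_ge (zpowers_le.2 hconj) (by rw [Nat.card_zpowers, Nat.card_zpowers, hne, hjo'])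
      rw [heq]; exact mem_zpowers _
    obtain ⟨k, rfl⟩ := h1
    have hfix : (t : G) * j * (t : G)⁻¹ ∈ MulAction.stabilizer G ((t : G) • y) := by
      show ((t : G) * j * (t : G)⁻¹) • (t : G) • y = (t : G) • y
      rw [smul_smul, inv_mul_cancel_right, mul_smul, hjy]
    exact zpow_mem hfix k
  have htu : (t : G) • y = (u * q * u⁻¹) • y := by
    rw [← htq, mul_smul (u * q) u⁻¹, inv_smul_eq_iff.2 huy.symm]
  rw [← htu]
  rcases c.eq_or_eq_of_fixed hp hy' hj' hjo' hty with h | h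
  · rw [htu] at h
    exact absurd (smul_left_cancel _ (h.trans (c.le_stab z huq).symm)) hy
  · exact h

end SemiregSetting

end CfsgLib.AbelSolvCent
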