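import Cfsg.Agent.AbelSolvCent.Signalizer
import Cfsg.Agent.AbelSolvCent.SemiregCore
import Cfsg.Agent.SEmbed.RankOneBridge
import Cfsg.Agent.SuzukiTheorem.Classification

/-!
# The case that `W` is semiregular

In a simple group with `Hyp S` let `M = W N(S)` be proper.  If `W` is semiregular on the cosets other
than `M`, then so is `W S` and it is transitive on them (`Hyp.regular_of_semiregular`), so by Suzuki's
rank one theorem `W S` is a 2-group, hence `W = 1`, and `G ≅ PSL₂(2ⁿ)` (`Hyp.psl2_of_semiregular`).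
-/

set_option autoImplicit false
set_option linter.style.haveILetI false
set_option linter.unusedSectionVars false

namespace CfsgLib.AbelSolvCent

open Subgroup CfsgLib.SEmbed

variable {G : Type*} [Group G] [Finite G]

/-- The conjugate of `H` at the coset `z`. -/
noncomputable def atPoint {M : Subgroup G} (H : Subgroup G) (z : G ⧸ M) : Subgroup G :=
  H.comap (MulAut.conj z.out⁻¹).toMonoidHom

theorem mem_atPoint {M H : Subgroup G} {z : G ⧸ M} {x : G} :
    x ∈ atPoint H z ↔ z.out⁻¹ * x * z.out ∈ H := by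
  show z.out⁻¹ * x * z.out⁻¹⁻¹ ∈ H ↔ _
  rw [inv_inv]

theorem stabilizer_eq_atPoint {M : Subgroup G} (z : G ⧸ M) :
    MulAction.stabilizer G z = atPoint M z := by
  ext x
  rw [mem_atPoint, MulAction.mem_stabilizer_iff]
  conv_lhs => rw [← QuotientGroup.out_eq' z]
  exact smul_mk_eq_iff M x z.out

theorem atPoint_mono {M H K : Subgroup G} (h : H ≤ K) (z : G ⧸ M) : atPoint H z ≤ atPoint K z :=
  comap_mono h

theorem card_atPoint {M : Subgroup G} (H : Subgroup G) (z : G ⧸ M) :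
    Nat.card (atPoint H z) = Nat.card H :=
  Nat.card_congr
    { toFun := fun x => ⟨z.out⁻¹ * (x : G) * z.out, mem_atPoint.1 x.2⟩
      invFun := fun x => ⟨z.out * (x : G) * z.out⁻¹, mem_atPoint.2 (by
        rw [show z.out⁻¹ * (z.out * (x : G) * z.out⁻¹) * z.out = (x : G) by group]; exact x.2)⟩
      left_inv := fun x => Subtype.ext (by group)
      right_inv := fun x => Subtype.ext (by group) }

theorem atPoint_le_normalizer {M H : Subgroup G} (h : M ≤ normalizer (H : Set G)) (z : G ⧸ M) :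
    MulAction.stabilizer G z ≤ normalizer (atPoint H z : Set G) := fun g hg => by
  rw [stabilizer_eq_atPoint, mem_atPoint] at hg
  refine mem_normalizer_iff.2 fun x => ?_
  rw [mem_atPoint, mem_atPoint, mem_normalizer_iff.1 (h hg) (z.out⁻¹ * x * z.out)]
  exact iff_of_eq (congrArg (· ∈ H) (by group))

variable {S : Sylow 2 G}

theorem Hyp.normal_oddPart (h : Hyp S) : ((oddPart S).subgroupOf (mid S)).Normal :=
  normal_subgroupOf_of_le_normalizer h.mid_le_normalizer

/-- `M / W`. -/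
abbrev MidQuot (S : Sylow 2 G) : Type _ := mid S ⧸ (oddPart S).subgroupOf (mid S)

section Bar

variable [hN : ((oddPart S).subgroupOf (mid S)).Normal]

/-- The map to `M / W`. -/
abbrev toBar (S : Sylow 2 G) [((oddPart S).subgroupOf (mid S)).Normal] : mid S →* MidQuot S :=
  QuotientGroup.mk' _

/-- The image of `A` in `M / W`. -/
abbrev omegaBar (S : Sylow 2 G) [((oddPart S).subgroupOf (mid S)).Normal] : Subgroup (MidQuot S) :=
  ((omegaS S).subgroupOf (mid S)).map (toBar S)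

theorem toBar_eq_one {g : mid S} : toBar S g = 1 ↔ (g : G) ∈ oddPart S :=
  (QuotientGroup.eq_one_iff _).trans mem_subgroupOf

theorem toBar_eq_iff {g g' : mid S} : toBar S g = toBar S g' ↔ (g : G)⁻¹ * g' ∈ oddPart S :=
  QuotientGroup.eq.trans mem_subgroupOf

theorem Hyp.eq_one_of_mem (h : Hyp S) {x : G} (hS : x ∈ (S : Subgroup G)) (hW : x ∈ oddPart S) :
    x = 1 := by
  haveI : Fact (Nat.Prime 2) := ⟨Nat.prime_two⟩
  obtain ⟨k, hk⟩ := IsPGroup.iff_card.1 S.isPGroup'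
  exact orderOf_eq_one_iff.1 (Nat.eq_one_of_dvd_coprimes
    ((Nat.coprime_two_left.2 h.odd_oddPart).pow_left k) (hk ▸ orderOf_dvd_natCard _ hS)
    (orderOf_dvd_natCard _ hW))

theorem Hyp.toBar_injOn (h : Hyp S) {a b : mid S} (ha : (a : G) ∈ omegaS S)
    (hb : (b : G) ∈ omegaS S) (he : toBar S a = toBar S b) : a = b :=
  Subtype.ext (inv_mul_eq_one.1 (h.eq_one_of_mem
    (mul_mem (inv_mem (omegaS_le S ha)) (omegaS_le S hb)) (toBar_eq_iff.1 he)))

theorem Hyp.exists_decomp_mid (h : Hyp S) (g : mid S) :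
    ∃ w ∈ oddPart S, ∃ x : mid S, (x : G) ∈ normalizer ((S : Subgroup G) : Set G) ∧
      (g : G) = w * x ∧ toBar S g = toBar S x := by
  have hg' : (g : G) ∈ ((oddPart S ⊔ normalizer ((S : Subgroup G) : Set G) : Subgroup G) : Set G) :=
    g.2
  rw [Subgroup.coe_mul_of_right_le_normalizer_left _ _ h.normalizer_le] at hg'
  obtain ⟨w, hw, x, hx, hgx⟩ := hg'
  refine ⟨w, hw, ⟨x, mem_sup_right hx⟩, hx, hgx.symm, toBar_eq_iff.2 ?_⟩
  show (g : G)⁻¹ * x ∈ oddPart S
  rw [← hgx]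
  simpa [mul_assoc] using (mem_normalizer_iff.1 (h.normalizer_le (inv_mem hx)) _).1 (inv_mem hw)

theorem Hyp.omegaBar_normal (h : Hyp S) : (omegaBar S).Normal := by
  refine ⟨?_⟩
  rintro _ ⟨a, ha, rfl⟩ q
  obtain ⟨g, rfl⟩ := QuotientGroup.mk'_surjective _ q
  obtain ⟨w, -, x, hx, -, hgx⟩ := h.exists_decomp_mid g
  refine ⟨x * a * x⁻¹, mem_subgroupOf.2 (h.omegaS_conj hx (mem_subgroupOf.1 ha)), ?_⟩
  rw [map_mul, map_mul, map_inv, hgx]

theorem Hyp.card_omegaBar (h : Hyp S) : Nat.card (omegaBar S) = Nat.card (omegaS S) := by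
  rw [← Nat.card_congr (subgroupOfEquivOfLe (omegaS_le_mid S)).toEquiv]
  refine (Nat.card_eq_of_bijective (fun a : (omegaS S).subgroupOf (mid S) =>
    (⟨toBar S a.1, mem_map_of_mem _ a.2⟩ : omegaBar S)) ⟨fun a b e => Subtype.ext
      (h.toBar_injOn (mem_subgroupOf.1 a.2) (mem_subgroupOf.1 b.2) (congrArg Subtype.val e)),
      fun v => ?_⟩).symm
  obtain ⟨a, ha, hav⟩ := v.2
  exact ⟨⟨a, ha⟩, Subtype.ext hav⟩

theorem Hyp.omegaBar_exp (h : Hyp S) (v : omegaBar S) : v * v = 1 := by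
  obtain ⟨a, ha, hav⟩ := v.2
  refine Subtype.ext ?_
  show (v : MidQuot S) * v = 1
  rw [← hav, ← map_mul, show a * a = 1 from Subtype.ext (h.mem_omegaS.1 (mem_subgroupOf.1 ha)).2,
    map_one]

/-- Only `W S` acts trivially on the image of `A`. -/
theorem Hyp.mem_of_cent_omegaBar (h : Hyp S) {g : mid S}
    (hc : ∀ v ∈ omegaBar S, toBar S g * v * (toBar S g)⁻¹ = v) :
    (g : G) ∈ oddPart S ⊔ (S : Subgroup G) := by
  haveI : Fact (Nat.Prime 2) := ⟨Nat.prime_two⟩
  obtain ⟨w, hw, ⟨x, hxM⟩, hx, hgx, hbar⟩ := h.exists_decomp_mid g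
  rw [hgx]
  refine mul_mem (mem_sup_left hw) ?_
  change x ∈ normalizer ((S : Subgroup G) : Set G) at hx
  show x ∈ oddPart S ⊔ (S : Subgroup G)
  have hxA : ∀ a ∈ omegaS S, Commute a x := fun a ha => by
    have h1 := hc (toBar S ⟨a, omegaS_le_mid S ha⟩) (mem_map_of_mem _ (mem_subgroupOf.2 ha))
    rw [hbar, ← map_inv, ← map_mul, ← map_mul] at h1
    have h2 : x * a * x⁻¹ = a :=
      congrArg Subtype.val (h.toBar_injOn (h.omegaS_conj hx ha) ha h1)
    exact (mul_inv_eq_iff_eq_mul.1 h2).symm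
  obtain ⟨k, m, hm, hkm⟩ := Nat.exists_eq_two_pow_mul_odd (orderOf_pos x).ne'
  have h2 : x ^ m ∈ (S : Subgroup G) := by
    have hp : IsPGroup 2 (zpowers (x ^ m)) := IsPGroup.of_card (n := k) (by
      rw [Nat.card_zpowers, orderOf_pow, Nat.gcd_eq_right ⟨2 ^ k, by rw [hkm]; ring⟩, hkm,
        Nat.mul_div_cancel _ hm.pos])
    have hle : zpowers (x ^ m) ≤ normalizer ((S : Subgroup G) : Set G) :=
      zpowers_le.2 (pow_mem hx _)
    have hpS := IsPGroup.to_sup_of_normal_right' hp S.isPGroup' hle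
    exact (S.is_maximal' hpS le_sup_right).le (mem_sup_left (mem_zpowers _))
  have hodd : orderOf (x ^ 2 ^ k) = m := by
    rw [orderOf_pow, Nat.gcd_eq_right ⟨m, hkm⟩, hkm, Nat.mul_div_cancel_left _ (by positivity)]
  have hW : x ^ 2 ^ k ∈ oddPart S := by
    refine h.le_oddPart (X := zpowers (x ^ 2 ^ k)) (by rwa [Nat.card_zpowers, hodd])
      (fun a ha => centralizer_le_normalizer _ (mem_centralizer_iff.2 ?_)) (mem_zpowers _)
    rintro _ ⟨i, rfl⟩
    exact (((hxA a ha).pow_right _).zpow_right i).eq.symm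
  have hb := Nat.gcd_eq_gcd_ab (2 ^ k) m
  rw [Nat.Coprime.gcd_eq_one ((Nat.coprime_two_left.2 hm).pow_left k)] at hb
  rw [← zpow_one x, show (1 : ℤ) = _ from hb, zpow_add, zpow_mul, zpow_mul, zpow_natCast,
    zpow_natCast]
  exact mul_mem (zpow_mem (mem_sup_left hW) _) (zpow_mem (mem_sup_right h2) _)

theorem Hyp.toBar_mem_omegaBar (h : Hyp S) {t : mid S} (ho : orderOf (t : G) = 2) :
    toBar S t ∈ omegaBar S ∧ toBar S t ≠ 1 := by
  constructor
  · obtain ⟨m, hm, hmA⟩ := h.exists_conj_omegaS t.2 ho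
    haveI := h.omegaBar_normal
    have h1 : toBar S (⟨m, hm⟩ * t * ⟨m, hm⟩⁻¹) ∈ omegaBar S :=
      mem_map_of_mem _ (mem_subgroupOf.2 hmA)
    have h2 := Normal.conj_mem' (inferInstance : (omegaBar S).Normal) _ h1 (toBar S ⟨m, hm⟩)
    simpa [mul_assoc] using h2
  · intro e
    have h1 := Nat.eq_one_of_dvd_coprimes (Nat.coprime_two_left.2 h.odd_oddPart) dvd_rfl
      (ho ▸ orderOf_dvd_natCard _ (toBar_eq_one.1 e))
    omega

end Bar

/-- An element of odd order of `W S` lies in `W`. -/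
theorem Hyp.mem_oddPart_of_odd (h : Hyp S) {q : G} (hq : q ∈ oddPart S ⊔ (S : Subgroup G))
    (hodd : Odd (orderOf q)) : q ∈ oddPart S := by
  haveI : Fact (Nat.Prime 2) := ⟨Nat.prime_two⟩
  set K := oddPart S ⊔ (S : Subgroup G)
  haveI hN : ((oddPart S).subgroupOf K).Normal :=
    normal_subgroupOf_of_le_normalizer (sup_le le_normalizer h.sylow_le_normalizer)
  have hidx : ((oddPart S).subgroupOf K).index ∣ Nat.card (S : Subgroup G) := by
    rw [Subgroup.index_eq_card]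
    refine card_dvd_of_surjective ((QuotientGroup.mk' ((oddPart S).subgroupOf K)).comp
      (inclusion (le_sup_right : (S : Subgroup G) ≤ K))) fun x => ?_
    obtain ⟨⟨x, hx⟩, rfl⟩ := QuotientGroup.mk'_surjective _ x
    have hx' : x ∈ ((oddPart S ⊔ (S : Subgroup G) : Subgroup G) : Set G) := hx
    rw [Subgroup.coe_mul_of_right_le_normalizer_left _ _ h.sylow_le_normalizer] at hx'
    obtain ⟨w, hw, v, hv, rfl⟩ := hx'
    refine ⟨⟨v, hv⟩, QuotientGroup.eq.2 (mem_subgroupOf.2 ?_)⟩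
    show v⁻¹ * (w * v) ∈ oddPart S
    rw [← mul_assoc]
    simpa using (mem_normalizer_iff.1 (h.sylow_le_normalizer (inv_mem hv)) w).1 hw
  obtain ⟨k, hk⟩ := IsPGroup.iff_card.1 S.isPGroup'
  obtain ⟨i, -, hi⟩ := (Nat.dvd_prime_pow Nat.prime_two).1 (hk ▸ hidx)
  have h1 : q ^ 2 ^ i ∈ oddPart S := by
    have h0 := Subgroup.pow_index_mem ((oddPart S).subgroupOf K) ⟨q, hq⟩
    rwa [hi, mem_subgroupOf] at h0
  obtain ⟨j, hj⟩ := exists_pow_eq_self_of_coprime
    ((Nat.coprime_two_left.2 hodd).pow_left i : (2 ^ i).Coprime (orderOf q))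
  rw [← hj]
  exact pow_mem h1 _

/-- `W S` is regular on the cosets other than `M`. -/
theorem Hyp.regular_of_semiregular [IsSimpleGroup G] (h : Hyp S) (hM : mid S ≠ ⊤)
    (hsemi : ∀ w ∈ oddPart S, w ≠ 1 → ∀ g : G, g⁻¹ * w * g ∈ mid S → g ∈ mid S) :
    (∀ g₁ g₂ : G, g₁ ∉ mid S → g₂ ∉ mid S →
      ∃ u ∈ oddPart S ⊔ (S : Subgroup G), g₂⁻¹ * (u * g₁) ∈ mid S) ∧
    ∀ g : G, g ∉ mid S → ∀ u ∈ oddPart S ⊔ (S : Subgroup G), g⁻¹ * (u * g) ∈ mid S → u = 1 := by
  haveI : Fact (Nat.Prime 2) := ⟨Nat.prime_two⟩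
  haveI := h.normal_oddPart
  haveI := h.omegaBar_normal
  have hse := h.stronglyEmbedded hM
  have hfix := uniqueFix hse
  haveI := nontrivial_cosets hse
  obtain ⟨n, hn⟩ := IsPGroup.iff_card.1 (S.isPGroup'.to_le (omegaS_le S))
  have hn3 : 3 ≤ n := (Nat.pow_le_pow_iff_right (a := 2) one_lt_two).1 (hn ▸ h.rank3)
  have hWS : oddPart S ⊔ (S : Subgroup G) ≤ mid S := sup_le le_sup_left (sylow_le_mid S)
  have hsr : ∀ q ∈ oddPart S ⊔ (S : Subgroup G), q ≠ 1 → ∀ g : G, g⁻¹ * q * g ∈ mid S →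
      g ∈ mid S := by
    intro q hq hq1 g hg
    rcases Nat.even_or_odd (orderOf q) with he | ho
    · obtain ⟨d, hd⟩ := he
      have hd0 : d ≠ 0 := fun e => (orderOf_pos q).ne' (by rw [hd, e])
      have hi : orderOf (q ^ d) = 2 := by
        rw [orderOf_pow, Nat.gcd_eq_right ⟨2, by rw [hd]; ring⟩, hd, ← two_mul,
          Nat.mul_div_cancel _ (Nat.pos_of_ne_zero hd0)]
      have hgi : g⁻¹ * q ^ d * g ∈ mid S := by
        have h1 : (g⁻¹ * q * g⁻¹⁻¹) ^ d ∈ mid S := pow_mem (by rwa [inv_inv]) d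
        rwa [conj_pow, inv_inv] at h1
      have h2 := hfix.unique (q ^ d) hi ((1 : G) : G ⧸ mid S) (g : G ⧸ mid S)
        ((smul_one_eq_iff _ _).2 (pow_mem (hWS hq) d)) ((smul_mk_eq_iff _ _ _).2 hgi)
      simpa using QuotientGroup.eq.1 h2
    · exact hsemi q (h.mem_oddPart_of_odd hq ho) hq1 g hg
  have hidx : Odd ((oddPart S ⊔ (S : Subgroup G)).relIndex (mid S)) := by
    refine Odd.of_dvd_nat ?_ (relIndex_dvd_of_le_left (mid S) (le_sup_right :
      (S : Subgroup G) ≤ oddPart S ⊔ (S : Subgroup G)))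
    rw [← Nat.not_even_iff_odd, even_iff_two_dvd]
    exact (S.subtype (sylow_le_mid S)).not_dvd_index
  refine ⟨?_, fun g hg u hu hug => by_contra fun hu1 =>
    hg (hsr u hu hu1 g (by rwa [mul_assoc]))⟩
  let ψ : mid S →* MulAut (omegaBar S) := MulAut.conjNormal.comp (toBar S)
  have hψ : ∀ (g : mid S) (v : omegaBar S),
      ((ψ g v : omegaBar S) : MidQuot S) = toBar S g * v * (toBar S g)⁻¹ :=
    fun g v => MulAut.conjNormal_apply _ _
  have hmem : ∀ (z : G ⧸ mid S) (g : G), g ∈ MulAction.stabilizer G z →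
      z.out⁻¹ * g * z.out ∈ mid S := fun z g hg =>
    mem_atPoint.1 ((stabilizer_eq_atPoint z).le hg)
  let down : ∀ z : G ⧸ mid S, MulAction.stabilizer G z →* mid S := fun z =>
    { toFun := fun g => ⟨z.out⁻¹ * (g : G) * z.out, hmem z g g.2⟩
      map_one' := Subtype.ext (by simp)
      map_mul' := fun g g' => Subtype.ext (by
        show z.out⁻¹ * ((g : G) * g') * z.out = (z.out⁻¹ * g * z.out) * (z.out⁻¹ * g' * z.out)
        group) }
  have hconj : ∀ (z : G ⧸ mid S) (x : G), orderOf (z.out⁻¹ * x * z.out) = orderOf x := fun z x => by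
    rw [show z.out⁻¹ * x * z.out = z.out⁻¹ * x * z.out⁻¹⁻¹ by rw [inv_inv],
      CfsgLib.Small.orderOf_conj_eq]
  obtain ⟨c, hcQ⟩ : ∃ c : SemiregSetting G (G ⧸ mid S) (omegaBar S) n,
      c.Q = atPoint (oddPart S ⊔ (S : Subgroup G)) := by
    refine ⟨{
      fix := hfix
      three_le := hn3
      exists_ne := fun z => _root_.exists_ne z
      Q := atPoint (oddPart S ⊔ (S : Subgroup G))
      le_stab := fun z => stabilizer_eq_atPoint z ▸ atPoint_mono hWS z
      normal := atPoint_le_normalizer h.mid_le_normalizer_sup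
      odd_index := fun z => ?_
      semireg := fun z q hq hq1 y hy => ?_
      invol_mem := fun z t ht => ?_
      exp_two := h.omegaBar_exp
      card_V := h.card_omegaBar.trans hn
      act := fun z => ψ.comp (down z)
      act_ker := fun z g => ?_
      transitive := fun z y hy v w hv hw => ?_
      fixed := fun z g t ht htg => ?_ }, rfl⟩
    · rw [stabilizer_eq_atPoint]
      show Odd (relIndex _ _)
      rwa [atPoint, atPoint, relIndex_comap, map_comap_eq_self_of_surjective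
        (MulAut.conj z.out⁻¹).surjective]
    · obtain ⟨g, rfl⟩ := QuotientGroup.mk_surjective y
      set z0 := z.out with hz0
      have hq1' : z0⁻¹ * q * z0 ≠ 1 := fun e => hq1 (by
        simpa [mul_assoc] using congrArg (fun x => z0 * x * z0⁻¹) e)
      have h1 := hsr _ (mem_atPoint.1 hq) hq1' (z0⁻¹ * g) (by
        rw [show (z0⁻¹ * g)⁻¹ * (z0⁻¹ * q * z0) * (z0⁻¹ * g) = g⁻¹ * q * g by group]
        exact (smul_mk_eq_iff _ _ _).1 hy)
      rw [← QuotientGroup.out_eq' z]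
      exact (QuotientGroup.eq.2 h1).symm
    · refine mem_atPoint.2 ?_
      obtain ⟨m, hm, hmA⟩ := h.exists_conj_omegaS (hmem z t ht.2) ((hconj z t).trans ht.1)
      exact (mem_normalizer_iff.1 (h.mid_le_normalizer_sup hm) _).2
        (mem_sup_right (omegaS_le S hmA))
    · rw [mem_atPoint]
      refine ⟨fun hg => h.mem_of_cent_omegaBar (g := down z g) fun v hv => ?_, fun hg => ?_⟩
      · have h1 := congrArg (fun f : MulAut (omegaBar S) => ((f ⟨v, hv⟩ : omegaBar S) : MidQuot S)) hg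
        exact (hψ _ ⟨v, hv⟩).symm.trans h1
      · refine MulEquiv.ext fun v => Subtype.ext ?_
        refine (hψ _ v).trans ?_
        obtain ⟨a, ha, hav⟩ := v.2
        show _ = (v : MidQuot S)
        rw [← hav]
        have hg' : z.out⁻¹ * (g : G) * z.out ∈
            ((oddPart S ⊔ (S : Subgroup G) : Subgroup G) : Set G) := hg
        rw [Subgroup.coe_mul_of_right_le_normalizer_left _ _ h.sylow_le_normalizer] at hg'
        obtain ⟨w, hw, s', hs, hws⟩ := hg'
        have h1 : toBar S (down z g) = toBar S ⟨s', sylow_le_mid S hs⟩ := by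
          refine toBar_eq_iff.2 ?_
          show (z.out⁻¹ * (g : G) * z.out)⁻¹ * s' ∈ oddPart S
          rw [← hws]
          simpa [mul_assoc] using
            (mem_normalizer_iff.1 (h.sylow_le_normalizer (inv_mem hs)) _).1 (inv_mem hw)
        rw [h1, ← map_inv, ← map_mul, ← map_mul]
        refine congrArg (toBar S) (Subtype.ext ?_)
        show s' * (a : G) * s'⁻¹ = a
        rw [h.comm hs (omegaS_le S (mem_subgroupOf.1 ha)), mul_inv_cancel_right]
    · obtain ⟨a, ha, hav⟩ := v.2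
      obtain ⟨b, hb, hbw⟩ := w.2
      have key : ∀ (x : mid S) (u : omegaBar S), toBar S x = u → (x : G) ∈ omegaS S → u ≠ 1 →
          z.out * (x : G) * z.out⁻¹ ∈ invMap (G := G) z z := by
        intro x u hxu hx hu
        refine ⟨?_, (stabilizer_eq_atPoint z).ge (mem_atPoint.2 ?_)⟩
        · rw [← hconj z, show z.out⁻¹ * (z.out * (x : G) * z.out⁻¹) * z.out = x by group]
          exact h.orderOf_mem hx fun e => hu (Subtype.ext (by
            rw [← hxu, show x = 1 from Subtype.ext e, map_one]; rfl))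
        · rw [show z.out⁻¹ * (z.out * (x : G) * z.out⁻¹) * z.out = x by group]
          exact x.2
      obtain ⟨d, hd, hde⟩ := exists_conj_fix hfix hy.symm
        (key a v hav (mem_subgroupOf.1 ha) hv) (key b w hbw (mem_subgroupOf.1 hb) hw)
      refine ⟨⟨d, (mem_pairStab.1 hd).1⟩, (mem_pairStab.1 hd).2, Subtype.ext ?_⟩
      refine (hψ _ v).trans ?_
      rw [← hav, ← hbw]
      show toBar S _ * toBar S a * (toBar S _)⁻¹ = toBar S b
      rw [← map_inv, ← map_mul, ← map_mul]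
      refine congrArg (toBar S) (Subtype.ext ?_)
      show z.out⁻¹ * d * z.out * (a : G) * (z.out⁻¹ * d * z.out)⁻¹ = b
      calc z.out⁻¹ * d * z.out * (a : G) * (z.out⁻¹ * d * z.out)⁻¹
          = z.out⁻¹ * (d * (z.out * (a : G) * z.out⁻¹) * d⁻¹) * z.out := by group
        _ = b := by rw [hde]; group
    · obtain ⟨hv, hv1⟩ := h.toBar_mem_omegaBar (t := ⟨z.out⁻¹ * t * z.out, hmem z t ht.2⟩)
        ((hconj z t).trans ht.1)
      refine ⟨⟨_, hv⟩, fun e => hv1 (congrArg Subtype.val e), Subtype.ext ?_⟩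
      refine (hψ _ _).trans ?_
      show toBar S (down z g) * toBar S ⟨z.out⁻¹ * t * z.out, _⟩ * (toBar S (down z g))⁻¹ = _
      rw [← map_inv, ← map_mul, ← map_mul]
      refine congrArg (toBar S) (Subtype.ext ?_)
      show z.out⁻¹ * (g : G) * z.out * (z.out⁻¹ * t * z.out) * (z.out⁻¹ * (g : G) * z.out)⁻¹ = _
      calc z.out⁻¹ * (g : G) * z.out * (z.out⁻¹ * t * z.out) * (z.out⁻¹ * (g : G) * z.out)⁻¹
          = z.out⁻¹ * ((g : G) * t * (g : G)⁻¹) * z.out := by group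
        _ = z.out⁻¹ * t * z.out := by rw [← htg.eq, mul_inv_cancel_right]
  obtain ⟨p, hp⟩ := exists_goodPrime hn3
  intro g₁ g₂ h₁ h₂
  set z : G ⧸ mid S := ((1 : G) : G ⧸ mid S)
  have hne : ∀ g : G, g ∉ mid S → (g : G ⧸ mid S) ≠ z := fun g hg e =>
    hg (by simpa using inv_mem (QuotientGroup.eq.1 e))
  obtain ⟨u, hu, hug⟩ := c.exists_smul_eq hp (hne g₁ h₁) (hne g₂ h₂)
  have hzout : z.out ∈ mid S := by
    simpa using QuotientGroup.eq.1 (QuotientGroup.out_eq' z).symm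
  refine ⟨u, ?_, ?_⟩
  · rw [hcQ, mem_atPoint] at hu
    have h1 := (mem_normalizer_iff.1 (h.mid_le_normalizer_sup hzout) _).1 hu
    rwa [show z.out * (z.out⁻¹ * u * z.out) * z.out⁻¹ = u by group] at h1
  · exact QuotientGroup.eq.1 hug.symm

/-- The classification when `W` is semiregular. -/
theorem Hyp.psl2_of_semiregular {G : Type*} [Group G] [Finite G] {S : Sylow 2 G} [IsSimpleGroup G]
    (h : Hyp S) (hM : mid S ≠ ⊤)
    (hsemi : ∀ w ∈ oddPart S, w ≠ 1 → ∀ g : G, g⁻¹ * w * g ∈ mid S → g ∈ mid S) :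
    oddPart S = ⊥ ∧ ∃ (F : Type) (_ : Field F) (_ : Fintype F) (n : ℕ),
      2 ≤ n ∧ Fintype.card F = 2 ^ n ∧
        Nonempty (G ≃* Matrix.ProjectiveSpecialLinearGroup (Fin 2) F) := by
  haveI : Fact (Nat.Prime 2) := ⟨Nat.prime_two⟩
  have hse := h.stronglyEmbedded hM
  set Q := oddPart S ⊔ (S : Subgroup G) with hQ
  obtain ⟨htrans, hreg⟩ := h.regular_of_semiregular hM hsemi
  haveI := faithfulSMul_cosets hse.1
  obtain ⟨t, hS⟩ := exists_rankOne_setup (mid S) hse Q (sup_le le_sup_left (sylow_le_mid S))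
    (normal_subgroupOf_of_le_normalizer h.mid_le_normalizer_sup) htrans hreg
  have h2 := exists_commuting_invols hse
  have hQ2 : IsPGroup 2 Q := CfsgLib.SuzukiThm.two_group_Q hS h2
  have hQS : Q = (S : Subgroup G) := S.is_maximal' hQ2 le_sup_right
  have hW : oddPart S = ⊥ := by
    obtain ⟨k, hk⟩ := IsPGroup.iff_card.1 (hQ2.to_le (le_sup_left : oddPart S ≤ Q))
    refine eq_bot_of_card_eq _ ?_
    rcases k with - | k
    · rw [hk, pow_zero]
    · exact absurd (hk ▸ h.odd_oddPart)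
        (Nat.not_odd_iff_even.2 (even_two.pow_of_ne_zero (by omega)))
  refine ⟨hW, ?_⟩
  obtain ⟨P⟩ := CfsgLib.SuzukiThm.exists_frame hS h2
  haveI := Fintype.ofFinite Q
  have hab : ∀ x ∈ Q, ∀ y ∈ Q, x * y = y * x := fun x hx y hy =>
    h.comm (hQS.le hx) (hQS.le hy)
  have hcard : Nat.card Q = P.q := CfsgLib.SuzukiThm.card_eq_q_of_abelian' P hQ2 hab
    (fun hr => CfsgLib.SuzukiThm.line_dvd P hr)
    fun Φ base h c hc => CfsgLib.SuzukiThm.regular_mass_bound P h hc
  have hQE : P.E = Q := eq_of_le_of_card_ge P.E_le hcard.le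
  have hrr : P.r * P.r = 1 := P.E_sq (hQE.symm ▸ P.hr)
  have hrs : P.r = P.s := by
    rcases P.r_eq_or_sq (by
      rw [show P.r ^ 4 = (P.r * P.r) * (P.r * P.r) by simp [pow_succ, mul_assoc], hrr, one_mul])
      with h | h
    · exact h.1
    · exact absurd (hrr.symm.trans h.1).symm P.s_ne_one
  obtain ⟨L, hLn, hodd, F, iF, iT, ⟨m, hm, hF⟩, ⟨e⟩⟩ := CfsgLib.SuzukiThm.psl_case P hrs hcard
  have hLtop : L = ⊤ := hLn.eq_bot_or_eq_top.resolve_left fun hb => by
    rw [hb, Subgroup.index_bot] at hodd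
    exact Nat.not_even_iff_odd.2 hodd (hse.2.1.trans_dvd (card_subgroup_dvd_card _))
  exact ⟨F, iF, iT, m, hm, hF,
    ⟨((topEquiv.symm.trans (MulEquiv.subgroupCongr hLtop.symm) : G ≃* L).trans e)⟩⟩

/-- The case `W = 1`. -/
theorem Hyp.psl2_of_oddPart_eq_bot [IsSimpleGroup G] (h : Hyp S) (hM : mid S ≠ ⊤)
    (hW : oddPart S = ⊥) : ∃ (F : Type) (_ : Field F) (_ : Fintype F) (n : ℕ),
      2 ≤ n ∧ Fintype.card F = 2 ^ n ∧
        Nonempty (G ≃* Matrix.ProjectiveSpecialLinearGroup (Fin 2) F) :=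
  (h.psl2_of_semiregular hM fun w hw hw1 => absurd (mem_bot.1 (hW ▸ hw)) hw1).2

end CfsgLib.AbelSolvCent
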