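import Cfsg.Agent.AbelSolvCent.CentralDiv
import Cfsg.Agent.AbelSolvCent.Semiregular
import Cfsg.Agent.Characters.FrobeniusKernel

/-!
# `W` is semiregular when `A` centralizes it

Otherwise all `W z ⊓ W y` are nontrivial, so `W z` is a Frobenius group with these complements,
`S = A`, and the product of the Frobenius kernel with `A` is regular on the other points; by Suzuki's
rank one theorem it is a 2-group, so the kernel is trivial.
-/

set_option autoImplicit false
set_option linter.style.haveILetI false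
set_option linter.unusedSectionVars false

universe u v

namespace CfsgLib.AbelSolvCent

open Subgroup CfsgLib.SEmbed CfsgLib.Small

variable {G : Type u} [Group G] [Finite G] {Ω : Type v} [MulAction G Ω] {c : Ctx G Ω}

namespace Ctx.Central

variable [IsSimpleGroup G] (hc : c.Central)
include hc

omit hc in
theorem inf_smul_eq_map (g : G) (x x' : Ω) :
    c.W (g • x) ⊓ c.W (g • x') = (c.W x ⊓ c.W x').map (MulAut.conj g).toMonoidHom := by
  show oddPart (c.syl (g • x)) ⊓ oddPart (c.syl (g • x')) = _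
  rw [c.conj, c.conj, Subgroup.map_inf _ _ _ (MulAut.conj g).injective]

theorem card_A_eq (z x : Ω) : Nat.card (c.A z) = Nat.card (c.A x) := by
  rw [← hc.card_invMap_self_eq z, ← hc.card_invMap_self_eq x, card_invMap_self c.fix z x]

/-- All intersections are nontrivial as soon as one is. -/
theorem inf_ne_bot_of_exists {x x' : Ω} (hxx' : x ≠ x') (hE : c.W x ⊓ c.W x' ≠ ⊥) {z y : Ω}
    (hzy : z ≠ y) : c.W z ⊓ c.W y ≠ ⊥ := by
  haveI : Fact (Nat.Prime 2) := ⟨Nat.prime_two⟩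
  obtain ⟨n, hn⟩ := IsPGroup.iff_card.1 ((c.syl z).isPGroup'.to_le (omegaS_le (c.syl z)))
  have hn3 : 3 ≤ n := (Nat.pow_le_pow_iff_right (a := 2) one_lt_two).1 (hn ▸ (c.hyp z).rank3)
  obtain ⟨p, hp⟩ := exists_goodPrime hn3
  haveI : Fact p.Prime := ⟨hp.prime⟩
  have d : c.GoodData n p := ⟨hc, hn3, hp, fun w => (hc.card_A_eq w z).trans hn⟩
  by_cases hdvd : ∃ a a', a ≠ a' ∧ p ∣ Nat.card ↥(c.W a ⊓ c.W a')
  · obtain ⟨a, a', ha, hpa⟩ := hdvd
    refine d.inf_ne_bot (fun w => ?_) hzy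
    obtain ⟨g, rfl⟩ := c.fix.transitive a w
    refine ⟨g • a', fun e => ha (smul_left_cancel g e), ?_⟩
    rw [inf_smul_eq_map, card_map_of_injective (MulAut.conj g).injective]
    exact hpa
  push Not at hdvd
  have hgood : ∀ a a' : Ω, a ≠ a' → ∀ w ∈ c.W a ⊓ c.W a', orderOf w ≠ p := fun a a' ha w hw e =>
    hdvd a a' ha (e ▸ orderOf_dvd_natCard _ hw)
  -- the Sylow subgroups of the two-point stabilizers are full
  have hfull : ∀ a, z ≠ a → ∃ R, IsFull c p R z a := by
    intro a ha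
    obtain ⟨R0, -, hR0⟩ := exists_isPairSylow (p := p) (z := z) (y := a)
      (IsPGroup.of_bot : IsPGroup p (⊥ : Subgroup G)) bot_le
    obtain ⟨R, b, hR0R, hR⟩ := d.exists_isFull ha hR0
    have hbot : R ⊓ c.W z = ⊥ := by
      by_contra hne
      obtain ⟨w, hw, hwo, -⟩ := exists_central_orderOf hR.isPGroup (inf_le_left : R ⊓ c.W z ≤ R) hne
        (fun g hg => inf_normalizer_le_normalizer_inf
          ⟨le_normalizer hg, c.stab_le_normalizer_W z (hR.le_pairStab hg).1⟩)
      exact hc.good_free hgood hR.ne hw.2 hwo (mem_pairStab.1 (hR.le_pairStab hw.1)).2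
    have h1 := (d.image_facts hR.isPGroup (hR.le_pairStab.trans inf_le_left)).2
    rw [hbot, card_bot, one_mul] at h1
    have h2 := Nat.le_of_dvd Nat.card_pos
      ((dvd_mul_left _ _).trans (d.card_dvd_of_pairSylow ha hR0))
    have heq : R0 = R :=
      eq_of_le_of_card_ge hR0R ((Nat.le_of_dvd (pow_pos hp.prime.pos _) h1).trans h2)
    refine ⟨R, hR.isPGroup, ha.symm, ?_, hR.max⟩
    have h : a ∈ fixSet (Ω := Ω) R := fun r hr => (mem_pairStab.1 (hR0.le (heq ▸ hr))).2
    rw [hR.fixSet_eq] at h ⊢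
    rw [h.resolve_left ha.symm]
  obtain ⟨g, rfl⟩ := c.fix.transitive x z
  have hy1 : g • x ≠ g • x' := fun e => hxx' (smul_left_cancel g e)
  have hE1 : c.W (g • x) ⊓ c.W (g • x') ≠ ⊥ := by
    rw [inf_smul_eq_map]
    exact fun e => hE ((Subgroup.map_eq_bot_iff_of_injective _ (MulAut.conj g).injective).1 e)
  obtain ⟨R, hR⟩ := hfull y hzy
  obtain ⟨R', hR'⟩ := hfull _ hy1
  obtain ⟨P, hP⟩ := GoodData.exists_sylow hR
  obtain ⟨P', hP'⟩ := GoodData.exists_sylow hR'
  set z := g • x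
  have hPz : (P : Subgroup G) ≤ MulAction.stabilizer G z := hP ▸ hR.le_pairStab.trans inf_le_left
  have hP'z : (P' : Subgroup G) ≤ MulAction.stabilizer G z :=
    hP' ▸ hR'.le_pairStab.trans inf_le_left
  obtain ⟨m, hm⟩ := MulAction.exists_smul_eq (MulAction.stabilizer G z) (P'.subtype hP'z)
    (P.subtype hPz)
  have hmy : (m : G) • (g • x') = y := by
    have h : (m : G) • (g • x') ∈ fixSet (Ω := Ω) R := by
      intro r hr
      rw [← hP] at hr
      have h1 : (⟨r, hPz hr⟩ : MulAction.stabilizer G z) ∈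
          ((P.subtype hPz : Sylow p _) : Subgroup (MulAction.stabilizer G z)) := by
        rw [Sylow.coe_subtype]; exact mem_subgroupOf.2 hr
      rw [← hm] at h1
      obtain ⟨r', hr', hrr'⟩ := h1
      rw [Sylow.coe_subtype] at hr'
      have h2 : (r' : G) • g • x' = g • x' :=
        (mem_pairStab.1 (hR'.le_pairStab (hP' ▸ mem_subgroupOf.1 hr'))).2
      rw [show r = (m : G) * r' * (m : G)⁻¹ from (congrArg Subtype.val hrr').symm, mul_smul,
        mul_smul, inv_smul_smul, h2]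
    rw [hR.fixSet_eq] at h
    exact h.resolve_left (c.smul_ne m.2 hy1.symm)
  rw [← hmy]
  exact inf_smul_ne_bot m.2 hE1

omit hc in
theorem eq_one_of_two_group (hfix : UniqueFix G Ω) {T : Subgroup G} (hT : IsPGroup 2 T) {z y : Ω} (hzy : z ≠ y) {t : G}
    (ht : t ∈ T) (htz : t • z = z) (hty : t • y = y) : t = 1 := by
  obtain ⟨k, hk⟩ := IsPGroup.iff_orderOf.1 hT ⟨t, ht⟩
  exact orderOf_eq_one_iff.1 (Nat.eq_one_of_dvd_coprimes
    ((Nat.coprime_two_left.2 (odd_pairStab hfix hzy)).pow_left k)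
    (dvd_of_eq ((Subgroup.orderOf_mk t ht).symm.trans hk))
    (orderOf_dvd_natCard _ (mem_pairStab.2 ⟨htz, hty⟩ : t ∈ pairStab G z y)))

/-- A 2-subgroup of the stabilizer preserving a line has order at most `q`, and is transitive on
it if equal. -/
theorem line_action {z y : Ω} (hzy : z ≠ y) {e : G} (he1 : e ≠ 1) (hz : e ∈ c.W z)
    (hy : e ∈ c.W y) {T : Subgroup G} (hT : IsPGroup 2 T) (hTz : T ≤ MulAction.stabilizer G z)
    (hTL : ∀ t ∈ T, e ∈ c.W (t • y)) :
    Nat.card T ≤ Nat.card (c.A z) ∧ (Nat.card T = Nat.card (c.A z) →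
      ∀ y', z ≠ y' → e ∈ c.W y' → ∃ t ∈ T, t • y = y') := by
  haveI := finite_points c.fix
  obtain ⟨-, hcard⟩ := hc.line_eq hzy he1 hz hy
  set L : Set Ω := {x | e ∈ c.W x} with hL
  let f : Option T → L := fun o => o.elim ⟨z, hz⟩ fun t => ⟨(t : G) • y, hTL t t.2⟩
  have hf : Function.Injective f := by
    rintro (_ | s) (_ | t) he
    · rfl
    · exact absurd (congrArg Subtype.val he).symm (c.smul_ne (hTz t.2) hzy.symm)
    · exact absurd (congrArg Subtype.val he) (c.smul_ne (hTz s.2) hzy.symm)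
    · have he' : (s : G) • y = (t : G) • y := congrArg Subtype.val he
      have h1 := eq_one_of_two_group c.fix hT hzy (T.mul_mem (T.inv_mem s.2) t.2)
        (MulAction.mem_stabilizer_iff.1 (hTz (T.mul_mem (T.inv_mem s.2) t.2)))
        (by rw [mul_smul, ← he', inv_smul_smul])
      exact congrArg some (Subtype.ext (inv_mul_eq_one.1 h1))
  have hle := Nat.card_le_card_of_injective f hf
  rw [Finite.card_option, hcard] at hle
  refine ⟨by omega, fun heq y' hy' hey' => ?_⟩
  obtain ⟨o, ho⟩ := ((Nat.bijective_iff_injective_and_card f).2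
    ⟨hf, by rw [Finite.card_option, hcard, heq]⟩).2 ⟨y', hey'⟩
  rcases o with _ | t
  · exact absurd (congrArg Subtype.val ho) hy'
  · exact ⟨t, t.2, congrArg Subtype.val ho⟩

/-- Not all the intersections are nontrivial. -/
theorem not_forall_inf_ne_bot (z : Ω) (hall : ∀ y, z ≠ y → c.W z ⊓ c.W y ≠ ⊥) : False := by
  classical
  haveI : Fact (Nat.Prime 2) := ⟨Nat.prime_two⟩
  haveI := finite_points c.fix
  obtain ⟨y0, hy0⟩ := c.nontriv z
  have hzy0 : z ≠ y0 := hy0.symm
  have hE0 := hall y0 hzy0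
  set W := c.W z with hW
  set E := W ⊓ c.W y0 with hE
  set EW := E.subgroupOf W with hEW
  have hWz : ∀ w ∈ W, w ∈ MulAction.stabilizer G z := fun w hw => c.W_le_stab z hw
  have hnorm : ∀ w ∈ W, W ⊓ c.W (w • y0) = E → w ∈ E := by
    intro w hw heq
    refine ⟨hw, hc.mem_W_of_normalizes hE0 hw (mem_normalizer_iff.2 fun g => ?_)⟩
    have h := conj_mem_inf (c := c) (y := y0) (x := w * g * w⁻¹) (hWz w hw)
    rw [heq, show w⁻¹ * (w * g * w⁻¹) * w = g by group] at h
    exact h.symm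
  -- the lines through `z` are permuted by the Sylow subgroup at `z`
  set S : Subgroup G := (c.syl z : Subgroup G) with hSdef
  have hSz : S ≤ MulAction.stabilizer G z := by rw [c.stab]; exact sylow_le_mid _
  have hAS : c.A z ≤ S := omegaS_le _
  have hSA : S = c.A z := by
    let L0 : Set (Subgroup G) := {X | ∃ y, z ≠ y ∧ X = W ⊓ c.W y}
    let f : W ⧸ EW → L0 := fun q => ⟨W ⊓ c.W ((q.out : G) • y0),
      (q.out : G) • y0, (c.smul_ne (hWz _ q.out.2) hy0).symm, rfl⟩
    have hf : Function.Bijective f := by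
      refine ⟨fun q q' h => ?_, fun X => ?_⟩
      · have h' : W ⊓ c.W ((q.out : G) • y0) = W ⊓ c.W ((q'.out : G) • y0) :=
          congrArg Subtype.val h
        rw [← QuotientGroup.out_eq' q, ← QuotientGroup.out_eq' q']
        refine QuotientGroup.eq.2 (mem_subgroupOf.2 (hnorm _ (q.out⁻¹ * q'.out).2 ?_))
        refine Subgroup.ext fun e => ?_
        have h1 := conj_mem_inf (c := c) (y := y0) (x := (q.out : G) * e * (q.out : G)⁻¹)
          (hWz _ q.out.2)
        rw [h', conj_mem_inf (hWz _ q'.out.2), show (q.out : G)⁻¹ *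
          ((q.out : G) * e * (q.out : G)⁻¹) * q.out = e by group] at h1
        refine Iff.trans ?_ h1
        rw [conj_mem_inf (hWz _ (q.out⁻¹ * q'.out).2), Subgroup.coe_mul, Subgroup.coe_inv]
        exact iff_of_eq (congrArg (· ∈ W ⊓ c.W y0) (by group))
      · obtain ⟨_, y, hy, rfl⟩ := X
        obtain ⟨w, hw, hwE⟩ := hc.exists_conj hzy0 hy hE0 (hall y hy)
        refine ⟨((⟨w, hw⟩ : W) : W ⧸ EW), Subtype.ext ?_⟩
        show W ⊓ c.W _ = W ⊓ c.W y
        rw [hwE]
        obtain ⟨e, he⟩ := QuotientGroup.mk_out_eq_mul EW ⟨w, hw⟩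
        rw [he, Subgroup.coe_mul, mul_smul,
          MulAction.mem_stabilizer_iff.1 (c.W_le_stab y0 (mem_subgroupOf.1 e.2).2)]
    have hodd : Odd (Nat.card L0) := by
      rw [← Nat.card_eq_of_bijective f hf, ← Subgroup.index_eq_card]
      exact (c.odd_W z).of_dvd_nat (index_dvd_card _)
    have hmap : ∀ s ∈ S, ∀ X ∈ L0, X.map (MulAut.conj s).toMonoidHom ∈ L0 := by
      rintro s hs _ ⟨y, hy, rfl⟩
      refine ⟨s • y, (c.smul_ne (hSz hs) hy.symm).symm, ?_⟩
      have h := inf_smul_eq_map (c := c) s z y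
      rw [MulAction.mem_stabilizer_iff.1 (hSz hs)] at h
      exact h.symm
    letI : MulAction S L0 := {
      smul := fun s X => ⟨X.1.map (MulAut.conj (s : G)).toMonoidHom, hmap s s.2 X.1 X.2⟩
      one_smul := fun X => Subtype.ext (by
        show X.1.map (MulAut.conj (1 : G)).toMonoidHom = X.1
        rw [map_one]; exact Subgroup.map_id _)
      mul_smul := fun s t X => Subtype.ext (by
        show X.1.map (MulAut.conj ((s : G) * t)).toMonoidHom =
          (X.1.map (MulAut.conj (t : G)).toMonoidHom).map (MulAut.conj (s : G)).toMonoidHom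
        rw [map_map, map_mul]; rfl) }
    obtain ⟨⟨_, y, hy, rfl⟩, hfix⟩ := (c.syl z).isPGroup'.nonempty_fixed_point_of_prime_not_dvd_card
      L0 hodd.not_two_dvd_nat
    obtain ⟨e, he, he1⟩ := (W ⊓ c.W y).bot_or_exists_ne_one.resolve_left (hall y hy)
    have hSL : ∀ t ∈ S, e ∈ c.W (t • y) := fun t ht => by
      have h : (W ⊓ c.W y).map (MulAut.conj t).toMonoidHom = W ⊓ c.W y :=
        congrArg Subtype.val (hfix ⟨t, ht⟩)
      have h1 := inf_smul_eq_map (c := c) t z y
      rw [MulAction.mem_stabilizer_iff.1 (hSz ht)] at h1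
      exact ((h.symm.trans h1.symm).le he).2
    exact (eq_of_le_of_card_ge hAS
      (hc.line_action hy he1 he.1 he.2 (c.syl z).isPGroup' hSz hSL).1).symm
  -- the kernel
  obtain ⟨N, hNn, hNc, hNmem⟩ := CfsgLib.Characters.exists_frobenius_kernel EW (fun g hg x hx hgx =>
    by_contra fun hx1 => hg (mem_subgroupOf.2 (by
      have hxE := mem_subgroupOf.1 hx
      have hgx' := mem_subgroupOf.1 hgx
      have h1 : (x : G) ∈ W ⊓ c.W ((g : G)⁻¹ • y0) := by
        rw [conj_mem_inf (hWz _ (W.inv_mem g.2)), inv_inv]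
        exact hgx'
      have heq := hc.inf_eq_of_mem hzy0 (c.smul_ne (hWz _ (W.inv_mem g.2)) hy0).symm
        (fun h => hx1 (Subtype.ext h)) hxE.1 hxE.2 h1.2
      exact inv_mem_iff.1 (hnorm _ (W.inv_mem g.2) heq.symm))))
  set K := N.map W.subtype with hK
  have hKW : K ≤ W := map_subtype_le _
  have hKmem : ∀ x, x ∈ K ↔ x ∈ W ∧ ∀ y, z ≠ y → x ∈ c.W y → x = 1 := by
    intro x
    constructor
    · rintro ⟨⟨x, hx⟩, hxN, rfl⟩
      refine ⟨hx, fun y hy hxy => ?_⟩
      obtain ⟨w, hw, hwE⟩ := hc.exists_conj hzy0 hy hE0 (hall y hy)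
      have h1 : x ∈ W ⊓ c.W (w • y0) := hwE ▸ ⟨hx, hxy⟩
      exact congrArg Subtype.val ((hNmem ⟨x, hx⟩).1 hxN ⟨w, hw⟩
        (mem_subgroupOf.2 ((conj_mem_inf (hWz w hw)).1 h1)))
    · rintro ⟨hx, h⟩
      refine ⟨⟨x, hx⟩, (hNmem _).2 fun g hg => Subtype.ext ?_, rfl⟩
      exact h _ (c.smul_ne (hWz g g.2) hy0).symm
        ((conj_mem_inf (hWz g g.2)).2 (mem_subgroupOf.1 hg)).2
  have hKn : MulAction.stabilizer G z ≤ normalizer (K : Set G) := by
    have key : ∀ g ∈ MulAction.stabilizer G z, ∀ x ∈ K, g * x * g⁻¹ ∈ K := by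
      intro g hg x hx
      rw [hKmem] at hx ⊢
      refine ⟨(mem_normalizer_iff.1 (c.stab_le_normalizer_W z hg) x).1 hx.1, fun y hy hxy => ?_⟩
      have h1 : x ∈ c.W (g⁻¹ • y) := by rw [c.mem_W_smul, inv_inv]; exact hxy
      rw [hx.2 _ (c.smul_ne (inv_mem hg) hy.symm).symm h1, mul_one, mul_inv_cancel]
    exact fun g hg => mem_normalizer_iff.2 fun x => ⟨key g hg x, fun h => by
      simpa [mul_assoc] using key _ (inv_mem hg) _ h⟩
  set Q := K ⊔ c.A z with hQ
  have hQdec : ∀ u ∈ Q, ∃ k ∈ K, ∃ a ∈ c.A z, k * a = u := fun u hu => by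
    rw [hQ, ← SetLike.mem_coe, Subgroup.coe_mul_of_right_le_normalizer_left K (c.A z)
      ((c.A_le_stab z).trans hKn)] at hu
    exact hu
  have hQz : Q ≤ MulAction.stabilizer G z := sup_le (hKW.trans (c.W_le_stab z)) (c.A_le_stab z)
  have hQn : MulAction.stabilizer G z ≤ normalizer (Q : Set G) := fun g hg => by
    rw [hQ, mem_normalizer_iff_map_conj_eq, Subgroup.map_sup,
      mem_normalizer_iff_map_conj_eq.1 (hKn hg),
      mem_normalizer_iff_map_conj_eq.1 (hc.stab_le_normalizer_A z hg)]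
  have htrans : ∀ y, z ≠ y → ∃ u ∈ Q, u • y0 = y := by
    intro y hy
    obtain ⟨w, hw, hwE⟩ := hc.exists_conj hzy0 hy hE0 (hall y hy)
    have hdec : (⟨w, hw⟩ : W) ∈ ((N ⊔ EW : Subgroup W) : Set W) := by
      rw [hNc.sup_eq_top]; exact mem_top _
    rw [Subgroup.normal_mul N EW] at hdec
    obtain ⟨k, hk, e, he, hke⟩ := hdec
    have hke' : w = (k : G) * e := (congrArg Subtype.val hke).symm
    have hkK : (k : G) ∈ K := mem_map_of_mem _ hk
    rw [hke', mul_smul,
      MulAction.mem_stabilizer_iff.1 (c.W_le_stab y0 (mem_subgroupOf.1 he).2)] at hwE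
    have hky : z ≠ (k : G) • y0 := (c.smul_ne (hWz _ k.2) hy0).symm
    obtain ⟨f, hf, hf1⟩ := (W ⊓ c.W y).bot_or_exists_ne_one.resolve_left (hall y hy)
    have hfk : f ∈ W ⊓ c.W ((k : G) • y0) := hwE ▸ hf
    obtain ⟨a, ha, hay⟩ := (hc.line_action hky hf1 hfk.1 hfk.2
      ((c.syl z).isPGroup'.to_le hAS) (c.A_le_stab z)
      (fun a ha => by
        rw [c.mem_W_smul, mul_assoc, ← (hc.commute ha hf.1).eq, inv_mul_cancel_left]
        exact hfk.2)).2 rfl y hy hf.2
    exact ⟨a * (k : G), mul_mem (mem_sup_right ha) (mem_sup_left hkK), by rw [mul_smul, hay]⟩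
  have hreg : ∀ y, z ≠ y → ∀ u ∈ Q, u • y = y → u = 1 := by
    intro y hy u hu huy
    obtain ⟨k, hk, a, ha, rfl⟩ := hQdec u hu
    have hkW := hKW hk
    have h2 : (k * a) * (k * a) = k * k := by
      rw [← sq, ← sq, ((hc.commute ha hkW).symm).mul_pow, (c.hyp z).elab.2 a ha, mul_one]
    have hkk : (k * k) • y = y := by rw [← h2, mul_smul, huy, huy]
    have h3 : k * k = 1 := ((hKmem _).1 (mul_mem hk hk)).2 y hy
      (hc.inf_stab (hall y hy) (mul_mem hkW hkW) hkk)
    have hk1 : k = 1 := orderOf_eq_one_iff.1 (Nat.eq_one_of_dvd_coprimes (a := 2)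
      (Nat.coprime_two_left.2 (c.odd_W z)) (orderOf_dvd_of_pow_eq_one (by rw [sq, h3]))
      (orderOf_dvd_natCard _ hkW))
    rw [hk1, one_mul] at huy ⊢
    exact eq_one_of_two_group c.fix ((c.syl z).isPGroup'.to_le hAS) hy ha
      (MulAction.mem_stabilizer_iff.1 (c.A_le_stab z ha)) huy
  have hM : mid (c.syl z) ≠ ⊤ := c.stab z ▸ c.stab_ne_top z
  have hse := (c.hyp z).stronglyEmbedded hM
  have hmove : ∀ g : G, g ∉ mid (c.syl z) → z ≠ g • z := fun g hg e =>
    hg ((c.stab z).le (show g • z = z from e.symm))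
  haveI := faithfulSMul_cosets hM (H := mid (c.syl z))
  obtain ⟨t, hset⟩ := exists_rankOne_setup (mid (c.syl z)) hse Q (hQz.trans (c.stab z).le)
    (normal_subgroupOf_of_le_normalizer ((c.stab z).ge.trans hQn))
    (fun g₁ g₂ h₁ h₂ => by
      obtain ⟨u₁, hu₁, he₁⟩ := htrans _ (hmove g₁ h₁)
      obtain ⟨u₂, hu₂, he₂⟩ := htrans _ (hmove g₂ h₂)
      refine ⟨u₂ * u₁⁻¹, mul_mem hu₂ (inv_mem hu₁), (c.stab z).le ?_⟩
      show (g₂⁻¹ * (u₂ * u₁⁻¹ * g₁)) • z = z
      rw [mul_smul, mul_smul, mul_smul, ← he₁, inv_smul_smul, he₂, inv_smul_smul])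
    (fun g hg u hu hug => by
      refine hreg _ (hmove g hg) u hu ?_
      have h : (g⁻¹ * (u * g)) • z = z := (c.stab z).ge hug
      rwa [mul_smul, mul_smul, inv_smul_eq_iff] at h)
  have hQ2 : IsPGroup 2 Q := CfsgLib.SuzukiThm.two_group_Q hset (exists_commuting_invols hse)
  have hK1 : K = ⊥ := by
    obtain ⟨k, hk⟩ := IsPGroup.iff_card.1 (hQ2.to_le (le_sup_left : K ≤ Q))
    refine eq_bot_of_card_eq _ (Nat.eq_one_of_dvd_coprimes
      ((Nat.coprime_two_left.2 (c.odd_W z)).pow_left k) (dvd_of_eq hk) (card_dvd_of_le hKW))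
  have hN : N = ⊥ := (map_eq_bot_iff_of_injective N W.subtype_injective).1 hK1
  rw [hN, isComplement'_bot_left] at hNc
  exact not_W_le (c := c) hzy0 (fun h => hE0 (le_bot_iff.1 (h ▸ inf_le_left))) fun w hw =>
    (mem_subgroupOf.1 (show (⟨w, hw⟩ : W) ∈ EW from hNc.symm ▸ mem_top _)).2

/-- **`W` is semiregular when `A` centralizes it.** -/
theorem semiregular : ∀ z, ∀ w ∈ c.W z, w ≠ 1 → ∀ y, w • y = y → y = z := by
  intro z w hw hw1 y hwy
  by_contra hyz
  by_cases hex : ∃ x x', x ≠ x' ∧ c.W x ⊓ c.W x' ≠ ⊥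
  · obtain ⟨x, x', hxx', hE⟩ := hex
    exact hc.not_forall_inf_ne_bot z fun y' hy' => hc.inf_ne_bot_of_exists hxx' hE hy'
  push Not at hex
  have hne : orderOf w ≠ 1 := fun h => hw1 (orderOf_eq_one_iff.1 h)
  haveI : Fact (orderOf w).minFac.Prime := ⟨Nat.minFac_prime hne⟩
  refine hc.good_free (r := (orderOf w).minFac) (fun x x' hxx' v hv hvo => ?_) hyz
    (pow_mem hw (orderOf w / (orderOf w).minFac)) ?_ ?_
  · rw [hex x x' hxx', mem_bot] at hv
    rw [hv, orderOf_one] at hvo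
    exact (Fact.out : (orderOf w).minFac.Prime).ne_one hvo.symm
  · exact orderOf_pow_orderOf_div (orderOf_pos w).ne' (Nat.minFac_dvd _)
  · exact MulAction.mem_stabilizer_iff.1
      (pow_mem (show w ∈ MulAction.stabilizer G y from hwy) _)

end Ctx.Central
end CfsgLib.AbelSolvCent
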