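import Cfsg.Agent.AbelSolvCent.CentralLines
import Cfsg.Agent.SEmbed.Swap

/-!
# Primes prime to all the intersections `W z ⊓ W y`

In the central case: if no element of order `r` lies in two of the `W z`, then no element of order
`r` of `W z` fixes a second point.
-/

set_option autoImplicit false
set_option linter.style.haveILetI false
set_option linter.unusedSectionVars false

universe u v

namespace CfsgLib.AbelSolvCent

open Subgroup CfsgLib.SEmbed CfsgLib.Small

variable {G : Type u} [Group G] [Finite G] {Ω : Type v} [MulAction G Ω] {c : Ctx G Ω}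

/-- A nontrivial subgroup of a finite `r`-group normalized by it meets the centre. -/
theorem exists_central_orderOf {r : ℕ} [Fact r.Prime] {R X : Subgroup G} (hR : IsPGroup r R)
    (hXR : X ≤ R) (hX : X ≠ ⊥) (hn : R ≤ normalizer (X : Set G)) :
    ∃ x ∈ X, orderOf x = r ∧ ∀ g ∈ R, Commute x g := by
  letI : MulAction R X := {
    smul := fun g x => ⟨(g : G) * x * (g : G)⁻¹, (mem_normalizer_iff.1 (hn g.2) x).1 x.2⟩
    one_smul := fun x => Subtype.ext (by show (1 : G) * x * (1 : G)⁻¹ = x; group)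
    mul_smul := fun g g' x => Subtype.ext (by
      show ((g : G) * g') * x * ((g : G) * g')⁻¹ = (g : G) * ((g' : G) * x * (g' : G)⁻¹) * (g : G)⁻¹
      group) }
  haveI : Nontrivial X := nontrivial_iff_ne_bot X |>.2 hX
  obtain ⟨k, hk0, hk⟩ := (hR.to_le hXR).nontrivial_iff_card.1 inferInstance
  obtain ⟨x, hx, hx1⟩ := hR.exists_fixed_point_of_prime_dvd_card_of_fixed_point X
    (hk ▸ dvd_pow_self r hk0.ne') (a := 1)
    (fun g => Subtype.ext (by show (g : G) * 1 * (g : G)⁻¹ = 1; group))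
  have hxc : ∀ g ∈ R, Commute (x : G) g := fun g hg => by
    have h : g * (x : G) * g⁻¹ = x := congrArg Subtype.val (hx ⟨g, hg⟩)
    exact (mul_inv_eq_iff_eq_mul.1 h).symm
  obtain ⟨i, hi⟩ := IsPGroup.iff_orderOf.1 (hR.to_le hXR) x
  have hi' : orderOf (x : G) = r ^ i := (Subgroup.orderOf_coe x).trans hi
  have hi0 : i ≠ 0 := fun e => hx1 (Subtype.ext (orderOf_eq_one_iff.1 (by
    rw [hi', e, pow_zero])).symm)
  refine ⟨(x : G) ^ r ^ (i - 1), pow_mem x.2 _, ?_, fun g hg => (hxc g hg).pow_left _⟩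
  have hr := (Fact.out : r.Prime)
  rw [orderOf_pow, hi', Nat.gcd_eq_right (pow_dvd_pow r (by omega)),
    Nat.pow_div (by omega) hr.pos, show i - (i - 1) = 1 by omega, pow_one]

namespace Ctx.Central

variable [IsSimpleGroup G] (hc : c.Central)
include hc

theorem card_invMap_self_eq (z : Ω) :
    Nat.card (invMap (G := G) z z) + 1 = Nat.card (c.A z) := by
  rw [show invMap (G := G) z z = {a : G | a ∈ c.A z ∧ a ≠ 1} from Set.ext fun i =>
    ⟨fun h => ⟨hc.mem_A h, ne_one_of_orderOf_two h.1⟩, fun h => c.A_mem h.1 h.2⟩]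
  classical
  haveI := Fintype.ofFinite (c.A z)
  rw [Set.coe_setOf, Nat.card_congr (Equiv.subtypeSubtypeEquivSubtypeInter (fun a => a ∈ c.A z) fun a => a ≠ 1).symm,
    Nat.card_congr (Equiv.subtypeEquivRight (q := fun a : c.A z => a ≠ 1) fun a =>
      not_congr OneMemClass.coe_eq_one),
    Nat.card_eq_fintype_card, Nat.card_eq_fintype_card, Fintype.card_subtype_compl,
    Fintype.card_subtype_eq]
  have := Fintype.card_pos (α := c.A z)
  omega

/-- A `p`-group in the stabilizer normalized by an involution of it is centralized by it. -/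
theorem commute_of_normalizes {z : Ω} {R : Subgroup G} (hR : Odd (Nat.card R))
    (hRz : R ≤ MulAction.stabilizer G z) {i : G} (hi : i ∈ invMap (G := G) z z)
    (hiR : i ∈ normalizer (R : Set G)) {g : G} (hg : g ∈ R) : Commute i g := by
  have h1 : i * g * i⁻¹ * g⁻¹ ∈ R :=
    mul_mem ((mem_normalizer_iff.1 hiR g).1 hg) (inv_mem hg)
  have h2 : i * g * i⁻¹ * g⁻¹ ∈ c.A z := by
    have h3 := hc.conj_mem_A (hRz hg) (inv_mem (hc.mem_A hi))
    rw [show i * g * i⁻¹ * g⁻¹ = i * (g * i⁻¹ * g⁻¹) by group]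
    exact mul_mem (hc.mem_A hi) h3
  by_contra hne
  have h3 : orderOf (i * g * i⁻¹ * g⁻¹) = 2 := (c.hyp z).orderOf_mem h2 fun e =>
    hne (mul_inv_eq_iff_eq_mul.1 (mul_inv_eq_one.1 e))
  exact Nat.not_even_iff_odd.2 hR (even_iff_two_dvd.2 (h3 ▸ orderOf_dvd_natCard _ h1))

/-- A prime in no intersection: the elements of that order of `W z` fix only `z`. -/
theorem good_free {r : ℕ} [Fact r.Prime]
    (hgood : ∀ x x' : Ω, x ≠ x' → ∀ w ∈ c.W x ⊓ c.W x', orderOf w ≠ r)
    {z y : Ω} (hy : y ≠ z) {w : G} (hw : w ∈ c.W z) (ho : orderOf w = r) (hwy : w • y = y) :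
    False := by
  have hr := (Fact.out : r.Prime)
  have hodd : Odd r := ho ▸ (c.odd_W z).of_dvd_nat (orderOf_dvd_natCard _ hw)
  have hr2 : r ≠ 2 := fun e => by rw [e] at hodd; exact absurd hodd (by decide)
  have hwz : w • z = z := c.W_le_stab z hw
  -- an element of order `r` of `W x` commutes with no involution at another point
  have hno : ∀ {x x' : Ω}, x ≠ x' → ∀ {v t : G}, v ∈ c.W x → orderOf v = r →
      t ∈ invMap (G := G) x' x' → ¬ Commute v t := fun hxx v t hv hvo ht hvt =>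
    hgood _ _ hxx v ⟨hv, hc.mem_W_of_commute hxx hv ht hvt⟩ hvo
  obtain ⟨R, hwR, hR⟩ := exists_isMaxPair (p := r) (P := zpowers w) (a := z)
    (IsPGroup.of_card (n := 1) (by rw [Nat.card_zpowers, ho, pow_one])) hy
    (zpowers_le.2 (mem_pairStab.2 ⟨hwz, hwy⟩))
  have hwR' : w ∈ R := hwR (mem_zpowers w)
  have hRz : R ≤ MulAction.stabilizer G z := fun g hg => hR.mem_fixSet g hg
  have hRodd : Odd (Nat.card R) := by
    obtain ⟨e, he⟩ := IsPGroup.iff_card.1 hR.isPGroup
    rw [he]; exact hodd.pow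
  by_cases hout : Inside R z
  · obtain ⟨i, hiN, hi⟩ := hout
    obtain ⟨y', hy', hy'R⟩ := hR.exists_second
    have hy'F : y' ∈ fixSet (Ω := Ω) R := fun g hg => (mem_pairStab.1 (hy'R hg)).2
    obtain ⟨s, hsN, hs⟩ := hR.exists_swap c.fix hy'F hy'
    refine hno hy'.symm hw ho (interchange_conj_mem hi hs) ?_
    have h1 : s⁻¹ * w * s ∈ R := (mem_normalizer_iff''.1 hsN w).1 hwR'
    show w * (s * i * s⁻¹) = s * i * s⁻¹ * w
    calc w * (s * i * s⁻¹) = s * ((s⁻¹ * w * s) * i) * s⁻¹ := by group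
      _ = s * (i * (s⁻¹ * w * s)) * s⁻¹ := by
        rw [(hc.commute_of_normalizes hRodd hRz hi hiN h1).eq]
      _ = _ := by group
  obtain ⟨b, hb, hfixR, -⟩ := hR.outside c.fix hr2 hout
  have hbF : b ∈ fixSet (Ω := Ω) R := by rw [hfixR]; exact Or.inr rfl
  obtain ⟨s, hsN, hs⟩ := hR.exists_swap c.fix hbF hb
  obtain ⟨w0, hw0, hw0o, hw0c⟩ := exists_central_orderOf hR.isPGroup
    (inf_le_left : R ⊓ c.W z ≤ R)
    (fun h => hr.ne_one (by
      rw [← ho, (mem_bot.1 (h ▸ ⟨hwR', hw⟩ : w ∈ (⊥ : Subgroup G))), orderOf_one]))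
    (fun g hg => inf_normalizer_le_normalizer_inf
      ⟨le_normalizer hg, c.stab_le_normalizer_W z (hRz hg)⟩)
  set w1 := s * w0 * s⁻¹ with hw1
  have hw1R : w1 ∈ R := (mem_normalizer_iff.1 hsN w0).1 hw0.1
  have hw1W : w1 ∈ c.W b := by
    rw [← hs.2, c.mem_W_smul, show s⁻¹ * w1 * s = w0 by rw [hw1]; group]
    exact hw0.2
  have hw1o : orderOf w1 = r := (orderOf_conj_eq s w0).trans hw0o
  set d := w0 * w1 with hd
  have hd1 : d ≠ 1 := fun e => hgood z b hb.symm w1
    ⟨show w1 ∈ c.W z by rw [eq_inv_of_mul_eq_one_right e]; exact inv_mem hw0.2, hw1W⟩ hw1o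
  have hdo : orderOf d = r := by
    refine orderOf_eq_prime ?_ hd1
    rw [hd, (hw0c w1 hw1R).mul_pow]
    nth_rewrite 1 [← hw0o]
    rw [pow_orderOf_eq_one, one_mul, ← hw1o, pow_orderOf_eq_one]
  have hRd : R ≤ centralizer ({d} : Set G) := fun g hg => mem_centralizer_singleton_iff.2 (by
    refine ((hw0c g hg).symm.mul_right ?_).eq
    have h1 : s⁻¹ * g * s ∈ R := (mem_normalizer_iff''.1 hsN g).1 hg
    show g * w1 = w1 * g
    calc g * w1 = s * ((s⁻¹ * g * s) * w0) * s⁻¹ := by rw [hw1]; group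
      _ = s * (w0 * (s⁻¹ * g * s)) * s⁻¹ := by rw [(hw0c _ h1).eq]
      _ = w1 * g := by rw [hw1]; group)
  have hds : Commute d s := by
    have hss : s * s = 1 := mul_self_of_orderOf_two hs.1
    show w0 * w1 * s = s * (w0 * w1)
    rw [hd] at *
    calc w0 * w1 * s = w1 * w0 * s := by rw [(hw0c w1 hw1R).eq]
      _ = s * w0 * s⁻¹ * w0 * s := by rw [hw1]
      _ = s * (w0 * (s * w0 * s⁻¹)) := by
        rw [inv_eq_self_of_orderOf_two hs.1]; simp [mul_assoc]
      _ = _ := by rw [hw1]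
  obtain ⟨v, hv⟩ := c.fix.exists_fix s hs.1
  have hvz : v ≠ z := fun e => hb (by rw [← hs.2, ← e, hv])
  have hvb : v ≠ b := fun e => hb (by rw [← smul_back hs.1 hs.2, ← e, hv])
  have hdv : d • v = v := commute_fix c.fix hs.1 hds hv
  have hRv : ¬ ∀ g ∈ R, g • v = v := fun h => by
    have h1 : v ∈ fixSet (Ω := Ω) R := h
    rw [hfixR] at h1
    rcases h1 with h1 | h1
    exacts [hvz h1, hvb h1]
  by_cases hdW : d ∈ c.W v
  · refine hRv fun g hg => ?_
    by_contra hne
    refine hgood v (g • v) (Ne.symm hne) d ⟨hdW, show d ∈ c.W (g • v) from ?_⟩ hdo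
    rw [c.mem_W_smul, mul_assoc, ← mem_centralizer_singleton_iff.1 (hRd hg), inv_mul_cancel_left]
    exact hdW
  -- `C(d)` has an orbit of size prime to `r` at `v`
  set Y := centralizer ({d} : Set G) with hY
  set T := c.A v ⊓ Y with hT
  have hrq : r ∣ Nat.card (invMap (G := G) z z) := hR.dvd_card c.fix hout
  rw [card_invMap_self c.fix z v] at hrq
  have hq := hc.card_invMap_self_eq v
  have hdA : ∀ a ∈ c.A v, ∀ g ∈ zpowers d, g * a * g⁻¹ ∈ c.A v := fun a ha g hg =>
    hc.conj_mem_A ((zpowers_le.2 (show d ∈ MulAction.stabilizer G v from hdv)) hg) ha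
  letI : MulAction (zpowers d) (c.A v) := {
    smul := fun g a => ⟨(g : G) * a * (g : G)⁻¹, hdA a a.2 g g.2⟩
    one_smul := fun a => Subtype.ext (by show (1 : G) * a * (1 : G)⁻¹ = a; group)
    mul_smul := fun g g' a => Subtype.ext (by
      show ((g : G) * g') * a * ((g : G) * g')⁻¹ = (g : G) * ((g' : G) * a * (g' : G)⁻¹) * (g : G)⁻¹
      group) }
  have hfixT : Nat.card (MulAction.fixedPoints (zpowers d) (c.A v)) = Nat.card T := by
    refine Nat.card_congr
      { toFun := fun a => ⟨a.1.1, a.1.2, mem_centralizer_singleton_iff.2 ?_⟩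
        invFun := fun a => ⟨⟨a.1, a.2.1⟩, fun g => Subtype.ext ?_⟩
        left_inv := fun a => rfl
        right_inv := fun a => rfl }
    · have h : d * (a.1.1 : G) * d⁻¹ = a.1.1 := congrArg Subtype.val (a.2 ⟨d, mem_zpowers d⟩)
      exact (mul_inv_eq_iff_eq_mul.1 h).symm
    · show (g : G) * a.1 * (g : G)⁻¹ = a.1
      obtain ⟨k, hk⟩ := g.2
      have hcom : Commute a.1 (g : G) := by
        rw [← hk]
        exact (show Commute a.1 d from mem_centralizer_singleton_iff.1 a.2.2).zpow_right k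
      rw [← hcom.eq, mul_inv_cancel_right]
  have hmod := (IsPGroup.of_card (n := 1) (G := zpowers d) (p := r)
    (by rw [Nat.card_zpowers, hdo, pow_one])).card_modEq_card_fixedPoints (c.A v)
  obtain ⟨k, hk⟩ := hrq
  rw [hfixT, ← hq, hk, Nat.ModEq, Nat.mul_add_mod] at hmod
  have hT2 : 2 ≤ Nat.card T := by
    have hsT : s ∈ T := ⟨hc.mem_A ⟨hs.1, hv⟩, mem_centralizer_singleton_iff.2 hds.symm.eq⟩
    rw [← hs.1]
    exact Nat.le_of_dvd Nat.card_pos (orderOf_dvd_natCard _ hsT)
  have hr3 : 3 ≤ r := by have := hr.two_le; omega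
  have hT1 : Nat.card T % r = 1 := by
    rw [← hmod, Nat.mod_eq_of_lt (by omega)]
  have hT4 : 4 ≤ Nat.card T := by
    have h1 := Nat.div_add_mod (Nat.card T) r
    rcases Nat.eq_zero_or_pos (Nat.card T / r) with h | h
    · rw [h, mul_zero] at h1; omega
    · have := Nat.mul_le_mul_left r h; omega
  have horb := hc.card_orbit (c.centralizer_ne_top hd1 v) (fun h => hRv fun g hg => h (hRd hg)) hT4
  haveI := finite_points c.fix
  letI : MulAction R (MulAction.orbit Y v) :=
    MulAction.compHom _ (Subgroup.inclusion hRd)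
  obtain ⟨⟨x, hx⟩, hxR⟩ := hR.isPGroup.nonempty_fixed_point_of_prime_not_dvd_card
    (MulAction.orbit Y v) (by
      rw [horb, Nat.dvd_iff_mod_eq_zero, Nat.add_mod, hT1,
        Nat.mod_eq_of_lt (show 1 < r by omega), Nat.mod_eq_of_lt (show 1 + 1 < r by omega)]
      omega)
  have hxF : x ∈ fixSet (Ω := Ω) R := fun g hg => congrArg Subtype.val (hxR ⟨g, hg⟩)
  obtain ⟨⟨g, hg⟩, hgx⟩ := hx
  have hgx' : g • v = x := hgx
  -- an involution at `x` commuting with `d`
  set a := g * s * g⁻¹ with ha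
  have haI : a ∈ invMap (G := G) x x := by
    refine ⟨(orderOf_conj_eq g s).trans hs.1, ?_⟩
    rw [← hgx', ha, mul_smul, mul_smul, inv_smul_smul, hv]
  have had : Commute a d := by
    have hgd : Commute g d := mem_centralizer_singleton_iff.1 hg
    exact (hgd.mul_left hds.symm).mul_left hgd.inv_left
  rw [hfixR] at hxF
  rcases hxF with hxz | hxb
  · rw [hxz] at haI
    refine hno hb hw1W hw1o haI ?_
    rw [show w1 = w0⁻¹ * d by rw [hd, inv_mul_cancel_left]]
    exact ((hc.commute (hc.mem_A haI) hw0.2).symm.inv_left).mul_left had.symm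
  · rw [Set.mem_singleton_iff.1 hxb] at haI
    refine hno hb.symm hw0.2 hw0o haI ?_
    rw [show w0 = d * w1⁻¹ by rw [hd, mul_inv_cancel_right]]
    exact had.symm.mul_left (hc.commute (hc.mem_A haI) hw1W).symm.inv_left

end Ctx.Central
end CfsgLib.AbelSolvCent
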