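import Cfsg.Agent.AbelSolvCent.Maximal
import Cfsg.Agent.SEmbed.Elementary

/-!
# The lines `W z ⊓ W y` when `A` centralizes `W`

In the central case (`Ctx.Central`) a nontrivial intersection `E = W z ⊓ W y` is self-normalizing in
`W z` and meets the other such intersections trivially; all of them are conjugate under `W z`.
-/

set_option autoImplicit false
set_option linter.style.haveILetI false
set_option linter.unusedSectionVars false

universe u v

namespace CfsgLib.AbelSolvCent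

open Subgroup CfsgLib.SEmbed CfsgLib.Small

variable {G : Type u} [Group G] [Finite G] {Ω : Type v} [MulAction G Ω] {c : Ctx G Ω}

namespace Ctx

theorem card_A_ge (c : Ctx G Ω) (z : Ω) : 8 ≤ Nat.card (c.A z) := (c.hyp z).rank3

theorem exists_A_ne_one (c : Ctx G Ω) (z : Ω) : ∃ a ∈ c.A z, a ≠ 1 := by
  by_contra h
  push Not at h
  have h1 := c.card_A_ge z
  rw [(eq_bot_iff_forall _).2 h, card_bot] at h1
  omega

theorem card_W_smul (c : Ctx G Ω) (g : G) (z : Ω) :
    Nat.card (c.W (g • z)) = Nat.card (c.W z) := by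
  show Nat.card (oddPart (c.syl (g • z))) = _
  rw [c.conj, card_map_of_injective (MulAut.conj g).injective]

theorem smul_ne (c : Ctx G Ω) {g : G} {z y : Ω} (hg : g ∈ MulAction.stabilizer G z) (hy : y ≠ z) :
    g • y ≠ z := fun e => hy (smul_left_cancel g (e.trans (MulAction.mem_stabilizer_iff.1 hg).symm))

variable [IsSimpleGroup G]

theorem stab_ne_top (c : Ctx G Ω) (z : Ω) : MulAction.stabilizer G z ≠ ⊤ := fun e => by
  obtain ⟨y, hy⟩ := c.nontriv z
  obtain ⟨g, hg⟩ := c.fix.transitive z y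
  exact hy (hg ▸ (e.symm ▸ mem_top g : g ∈ MulAction.stabilizer G z))

theorem A_ne_top (c : Ctx G Ω) (z : Ω) : c.A z ≠ ⊤ := fun e =>
  c.stab_ne_top z (top_le_iff.1 (e ▸ c.A_le_stab z))

theorem centralizer_ne_top (c : Ctx G Ω) {e : G} (he : e ≠ 1) (z : Ω) :
    centralizer ({e} : Set G) ≠ ⊤ := by
  intro h
  rcases (inferInstance : (Subgroup.center G).Normal).eq_bot_or_eq_top with hb | ht
  · refine he (mem_bot.1 (hb ▸ mem_center_iff.2 fun g => ?_))
    exact mem_centralizer_singleton_iff.1 (h.symm ▸ mem_top g : g ∈ centralizer ({e} : Set G))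
  · have hn : (c.A z).Normal := ⟨fun a ha g => by
      have hg : g ∈ Subgroup.center G := ht.symm ▸ mem_top g
      rwa [← (mem_center_iff.1 hg a), mul_inv_cancel_right]⟩
    rcases hn.eq_bot_or_eq_top with h1 | h1
    · have := c.card_A_ge z
      rw [h1, card_bot] at this
      omega
    · exact c.A_ne_top z h1

theorem normalizer_ne_top (c : Ctx G Ω) {X : Subgroup G} (hX : X ≠ ⊥) {z : Ω}
    (hXz : X ≤ MulAction.stabilizer G z) : normalizer (X : Set G) ≠ ⊤ := fun h => by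
  rcases (normalizer_eq_top_iff.1 h).eq_bot_or_eq_top with h1 | h1
  · exact hX h1
  · exact c.stab_ne_top z (top_le_iff.1 (h1 ▸ hXz))

namespace Central

variable (hc : c.Central)
include hc

theorem commute {z : Ω} {a w : G} (ha : a ∈ c.A z) (hw : w ∈ c.W z) : Commute a w :=
  hc z a ha w hw

theorem conj_mem_A {z : Ω} {g a : G} (hg : g ∈ MulAction.stabilizer G z) (ha : a ∈ c.A z) :
    g * a * g⁻¹ ∈ c.A z := by
  rcases eq_or_ne a 1 with rfl | h1
  · simp
  · exact hc.mem_A (conj_mem_invMap hg (c.A_mem ha h1))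

theorem stab_le_normalizer_A (z : Ω) :
    MulAction.stabilizer G z ≤ normalizer (c.A z : Set G) := fun g hg =>
  mem_normalizer_iff.2 fun a => ⟨hc.conj_mem_A hg, fun h => by
    simpa [mul_assoc] using hc.conj_mem_A (inv_mem hg) h⟩

theorem smul_mem_A {z : Ω} {g a : G} (ha : a ∈ c.A z) : g * a * g⁻¹ ∈ c.A (g • z) := by
  rcases eq_or_ne a 1 with rfl | h1
  · simp
  · refine hc.mem_A ⟨(orderOf_conj_eq g a).trans (c.A_mem ha h1).1, ?_⟩
    rw [mul_smul, mul_smul, inv_smul_smul, MulAction.mem_stabilizer_iff.1 (c.A_le_stab z ha)]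

/-- An element of odd order centralizing `A z` lies in `W z`. -/
theorem mem_W_of_forall {z : Ω} {x : G} (hx : Odd (orderOf x))
    (h : ∀ a ∈ c.A z, Commute a x) : x ∈ c.W z := by
  refine c.le_W (X := zpowers x) (by rwa [Nat.card_zpowers]) (fun a ha => ?_) (mem_zpowers x)
  refine centralizer_le_normalizer _ (mem_centralizer_iff.2 ?_)
  rintro _ ⟨k, rfl⟩
  exact ((h a ha).zpow_right k).eq.symm

theorem fixedInv_eq {z : Ω} {w : G} (hw : w ∈ c.W z) :
    fixedInv w z z = invMap (G := G) z z := by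
  ext i
  exact ⟨fun h => h.1, fun h => ⟨h, (hc.commute (hc.mem_A h) hw).symm⟩⟩

/-- An element of `W z` fixing `y` and commuting with an involution at `y`, or with an
interchanging involution, lies in `W y` and commutes with all the interchanging involutions. -/
theorem mem_W_of_cases {z y : Ω} (hzy : z ≠ y) {w : G} (hw : w ∈ c.W z) (hwy : w • y = y)
    (h : (fixedInv w y y).Nonempty ∨ (fixedInv w z y).Nonempty) :
    w ∈ c.W y ∧ ∀ i ∈ invMap (G := G) z y, Commute w i := by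
  have hd : w ∈ pairStab G z y :=
    mem_pairStab.2 ⟨MulAction.mem_stabilizer_iff.1 (c.W_le_stab z hw), hwy⟩
  have hX : 0 < Nat.card (fixedInv w z z) := by
    rw [hc.fixedInv_eq hw]
    obtain ⟨i, hi⟩ := c.fix.exists_inv z
    haveI : Nonempty (invMap (G := G) z z) := ⟨⟨i, hi⟩⟩
    exact Nat.card_pos
  have hpos : 0 < Nat.card (fixedInv w y y) ∨ 0 < Nat.card (fixedInv w z y) := by
    rcases h with ⟨i, hi⟩ | ⟨i, hi⟩
    · haveI : Nonempty (fixedInv w y y) := ⟨⟨i, hi⟩⟩; exact Or.inl Nat.card_pos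
    · haveI : Nonempty (fixedInv w z y) := ⟨⟨i, hi⟩⟩; exact Or.inr Nat.card_pos
  obtain ⟨hXY, hYZ⟩ : Nat.card (fixedInv w z z) = Nat.card (fixedInv w y y) ∧
      Nat.card (fixedInv w y y) = Nat.card (fixedInv w z y) := by
    rcases fixed_card_cases c.fix hzy hd with h1 | h1 | h1 | h1
    · omega
    · omega
    · omega
    · exact h1
  rw [hc.fixedInv_eq hw] at hXY
  have key : ∀ (x : Ω), Nat.card (invMap (G := G) x x) = Nat.card (invMap (G := G) z z) →
      ∀ {s : Set G}, s ⊆ invMap (G := G) x x → Nat.card s = Nat.card (invMap (G := G) z z) →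
      s = invMap (G := G) x x := fun x hx s hs hcard =>
    Set.eq_of_subset_of_ncard_le hs (by
      rw [← Nat.card_coe_set_eq, ← Nat.card_coe_set_eq, hcard, hx]) (Set.toFinite _)
  have hy : fixedInv w y y = invMap (G := G) y y :=
    key y (card_invMap_self c.fix y z) (fun i hi => hi.1) hXY.symm
  refine ⟨hc.mem_W_of_forall ((c.odd_W z).of_dvd_nat (orderOf_dvd_natCard _ hw)) fun a ha => ?_,
    fun i hi => ?_⟩
  · rcases eq_or_ne a 1 with rfl | h1
    · exact Commute.one_left w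
    · exact ((hy.symm ▸ c.A_mem ha h1 : a ∈ fixedInv w y y).2).symm
  · have hz : fixedInv w z y = invMap (G := G) z y :=
      Set.eq_of_subset_of_ncard_le (fun i hi => hi.1) (by
        rw [← Nat.card_coe_set_eq, ← Nat.card_coe_set_eq, card_invMap_eq c.fix hzy, ← hYZ, ← hXY])
        (Set.toFinite _)
    exact (hz.symm ▸ hi : i ∈ fixedInv w z y).2

theorem mem_W_of_commute {z y : Ω} (hzy : z ≠ y) {w t : G} (hw : w ∈ c.W z)
    (ht : t ∈ invMap (G := G) y y) (hwt : Commute w t) : w ∈ c.W y :=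
  (hc.mem_W_of_cases hzy hw (commute_fix c.fix ht.1 hwt ht.2) (Or.inl ⟨t, ht, hwt⟩)).1

theorem swap_commute {z y : Ω} (hzy : z ≠ y) {w i : G} (hw : w ∈ c.W z) (hwy : w ∈ c.W y)
    (hi : i ∈ invMap (G := G) z y) : Commute w i := by
  obtain ⟨a, ha, ha1⟩ := c.exists_A_ne_one y
  exact (hc.mem_W_of_cases hzy hw (MulAction.mem_stabilizer_iff.1 (c.W_le_stab y hwy))
    (Or.inl ⟨a, c.A_mem ha ha1, (hc.commute ha hwy).symm⟩)).2 i hi

omit hc in
theorem mem_orbit_of_A_le {Y : Subgroup G} {z y : Ω} (hz : c.A z ≤ Y) (hy : c.A y ≤ Y) :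
    y ∈ MulAction.orbit Y z := by
  by_cases hzy : z = y
  · rw [← hzy]; exact MulAction.mem_orbit_self z
  obtain ⟨a, ha, ha1⟩ := c.exists_A_ne_one z
  obtain ⟨b, hb, hb1⟩ := c.exists_A_ne_one y
  obtain ⟨m, hm, hmab⟩ := exists_conj_in c.fix (hz ha) (hy hb) (c.A_mem ha ha1).1
    (c.A_mem hb hb1).1 (c.A_mem ha ha1).2 (c.A_mem hb hb1).2 hzy
  refine ⟨⟨m, hm⟩, ?_⟩
  show m • z = y
  refine c.fix.unique b (c.A_mem hb hb1).1 _ _ ?_ (c.A_mem hb hb1).2
  rw [← hmab, smul_smul, inv_mul_cancel_right, mul_smul, (c.A_mem ha ha1).2]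

theorem card_orbit_of_A_le {Y : Subgroup G} (hY : Y ≠ ⊤) {z y : Ω} (hzy : z ≠ y)
    (hz : c.A z ≤ Y) (hy : c.A y ≤ Y) :
    Nat.card (MulAction.orbit Y z) = Nat.card (c.A z) + 1 := by
  have h8 := c.card_A_ge z
  rw [hc.card_orbit hY ?_ (by rw [inf_eq_left.2 hz]; omega), inf_eq_left.2 hz]
  intro hle
  obtain ⟨b, hb, hb1⟩ := c.exists_A_ne_one y
  exact hzy (c.fix.unique b (c.A_mem hb hb1).1 z y
    (MulAction.mem_stabilizer_iff.1 (hle (hy hb))) (c.A_mem hb hb1).2)

theorem A_le_centralizer {z : Ω} {e : G} (he : e ∈ c.W z) :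
    c.A z ≤ centralizer ({e} : Set G) := fun a ha =>
  mem_centralizer_singleton_iff.2 (hc.commute ha he).eq

theorem A_le_normalizer_inf {z y : Ω} :
    c.A z ≤ normalizer ((c.W z ⊓ c.W y : Subgroup G) : Set G) := fun a ha =>
  centralizer_le_normalizer _ (mem_centralizer_iff.2 fun x hx => (hc.commute ha hx.1).eq.symm)

/-- The points `x` with `e ∈ W x` form the orbit of `C(e)`, of `q + 1` points. -/
theorem line_eq {z y : Ω} (hzy : z ≠ y) {e : G} (he1 : e ≠ 1) (hz : e ∈ c.W z)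
    (hy : e ∈ c.W y) :
    {x | e ∈ c.W x} = MulAction.orbit (centralizer ({e} : Set G)) z ∧
      Nat.card {x | e ∈ c.W x} = Nat.card (c.A z) + 1 := by
  have h : {x | e ∈ c.W x} = MulAction.orbit (centralizer ({e} : Set G)) z := by
    ext x
    refine ⟨fun hx => mem_orbit_of_A_le (hc.A_le_centralizer hz) (hc.A_le_centralizer hx), ?_⟩
    rintro ⟨⟨g, hg⟩, rfl⟩
    show e ∈ c.W (g • z)
    rw [c.mem_W_smul]
    rw [show g⁻¹ * e * g = e by
      rw [mul_assoc, ← mem_centralizer_singleton_iff.1 hg, inv_mul_cancel_left]]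
    exact hz
  exact ⟨h, h ▸ hc.card_orbit_of_A_le (c.centralizer_ne_top he1 z) hzy (hc.A_le_centralizer hz)
    (hc.A_le_centralizer hy)⟩

/-- Every element of `W z ⊓ W y` lies in `W x` for each `x` on the line of a nontrivial one. -/
theorem le_W_of_mem {z y x : Ω} (hzy : z ≠ y) {e : G} (he1 : e ≠ 1)
    (hz : e ∈ c.W z) (hy : e ∈ c.W y) (hx : e ∈ c.W x) : c.W z ⊓ c.W y ≤ c.W x := by
  intro f hf
  rcases eq_or_ne f 1 with rfl | hf1
  · exact one_mem _
  haveI := finite_points c.fix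
  set C := centralizer ((c.W z ⊓ c.W y : Subgroup G) : Set G) with hC
  have hAz : c.A z ≤ C := fun a ha =>
    mem_centralizer_iff.2 fun w hw => (hc.commute ha hw.1).eq.symm
  have hAy : c.A y ≤ C := fun a ha =>
    mem_centralizer_iff.2 fun w hw => (hc.commute ha hw.2).eq.symm
  have hCt : C ≠ ⊤ := fun h => c.centralizer_ne_top he1 z (top_le_iff.1 (h ▸
    centralizer_le (by rintro _ rfl; exact ⟨hz, hy⟩)))
  have hsub : ∀ g ∈ c.W z ⊓ c.W y, MulAction.orbit C z ⊆ {x | g ∈ c.W x} := by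
    rintro g hg _ ⟨⟨d, hd⟩, rfl⟩
    show g ∈ c.W (d • z)
    rw [c.mem_W_smul]
    rw [show d⁻¹ * g * d = g by
      rw [mul_assoc, mem_centralizer_iff.1 hd g hg, inv_mul_cancel_left]]
    exact hg.1
  have hcard := hc.card_orbit_of_A_le hCt hzy hAz hAy
  have key : ∀ g ∈ c.W z ⊓ c.W y, g ≠ 1 → MulAction.orbit C z = {x | g ∈ c.W x} := fun g hg hg1 =>
    Set.eq_of_subset_of_ncard_le (hsub g hg) (by
      rw [← Nat.card_coe_set_eq, ← Nat.card_coe_set_eq, hcard,
        (hc.line_eq hzy hg1 hg.1 hg.2).2]) (Set.toFinite _)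
  have h1 : x ∈ MulAction.orbit C z := by rw [key e ⟨hz, hy⟩ he1]; exact hx
  rw [key f hf hf1] at h1
  exact h1

/-- The intersections `W z ⊓ W y` meet trivially unless equal. -/
theorem inf_eq_of_mem {z y y' : Ω} (hzy : z ≠ y) (hzy' : z ≠ y') {e : G}
    (he1 : e ≠ 1) (hz : e ∈ c.W z) (hy : e ∈ c.W y) (hy' : e ∈ c.W y') :
    c.W z ⊓ c.W y = c.W z ⊓ c.W y' :=
  le_antisymm (le_inf inf_le_left (hc.le_W_of_mem hzy he1 hz hy hy'))
    (le_inf inf_le_left (hc.le_W_of_mem hzy' he1 hz hy' hy))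

/-- A nontrivial `W z ⊓ W y` is self-normalizing in `W z`. -/
theorem mem_W_of_normalizes {z y : Ω} (hE : c.W z ⊓ c.W y ≠ ⊥) {x : G}
    (hx : x ∈ c.W z) (hN : x ∈ normalizer ((c.W z ⊓ c.W y : Subgroup G) : Set G)) :
    x ∈ c.W y := by
  set Y := normalizer ((c.W z ⊓ c.W y : Subgroup G) : Set G) with hY
  have hz : c.A z ≤ Y := hc.A_le_normalizer_inf
  have hy : c.A y ≤ Y := by rw [hY, inf_comm]; exact hc.A_le_normalizer_inf
  obtain ⟨⟨g, hg⟩, hgy⟩ := mem_orbit_of_A_le hz hy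
  have hgy' : g • z = y := hgy
  exact hgy' ▸
    hc.inf_W_le (c.normalizer_ne_top hE (inf_le_left.trans (c.W_le_stab z))) hz hg ⟨hx, hN⟩

theorem inf_stab {z y : Ω} (hE : c.W z ⊓ c.W y ≠ ⊥) {x : G} (hx : x ∈ c.W z)
    (hxy : x • y = y) : x ∈ c.W y := by
  refine hc.mem_W_of_normalizes hE hx (inf_normalizer_le_normalizer_inf ⟨?_, ?_⟩)
  · exact le_normalizer hx
  · exact c.stab_le_normalizer_W y hxy

omit hc in
theorem not_W_le {z y : Ω} (hzy : z ≠ y) (hW : c.W z ≠ ⊥) :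
    ¬ c.W z ≤ c.W y := by
  intro hle
  obtain ⟨g, rfl⟩ := c.fix.transitive z y
  have heq : c.W z = c.W (g • z) := eq_of_le_of_card_ge hle (c.card_W_smul g z).le
  obtain ⟨b, hb, hb1⟩ := c.exists_A_ne_one (g • z)
  have h1 : b ∈ MulAction.stabilizer G z := (c.normalizer_eq_stab hW le_rfl
    (c.stab_le_normalizer_W z)).le (by rw [heq]; exact c.stab_le_normalizer_W _ (c.A_le_stab _ hb))
  exact hzy (c.fix.unique b (c.A_mem hb hb1).1 _ _ h1 (c.A_mem hb hb1).2)

omit hc in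
theorem conj_mem_inf {z y : Ω} {m x : G} (hm : m ∈ MulAction.stabilizer G z) :
    x ∈ c.W z ⊓ c.W (m • y) ↔ m⁻¹ * x * m ∈ c.W z ⊓ c.W y := by
  rw [mem_inf, mem_inf, c.mem_W_smul, ← c.mem_W_smul (g := m) (z := z),
    MulAction.mem_stabilizer_iff.1 hm]

omit hc in
theorem inf_smul_ne_bot {z y : Ω} {m : G} (hm : m ∈ MulAction.stabilizer G z)
    (hE : c.W z ⊓ c.W y ≠ ⊥) : c.W z ⊓ c.W (m • y) ≠ ⊥ := by
  obtain ⟨e, he, he1⟩ := (c.W z ⊓ c.W y).bot_or_exists_ne_one.resolve_left hE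
  refine fun h => he1 ?_
  have h1 : m * e * m⁻¹ ∈ c.W z ⊓ c.W (m • y) := (conj_mem_inf hm).2 (by
    rwa [show m⁻¹ * (m * e * m⁻¹) * m = e by group])
  rw [h, mem_bot] at h1
  exact conj_eq_one_iff.1 h1

/-- The nontrivial intersections are conjugate under `W z`. -/
theorem exists_conj {z y y' : Ω} (hzy : z ≠ y) (hzy' : z ≠ y')
    (hE : c.W z ⊓ c.W y ≠ ⊥) (hE' : c.W z ⊓ c.W y' ≠ ⊥) :
    ∃ w ∈ c.W z, c.W z ⊓ c.W y' = c.W z ⊓ c.W (w • y) := by
  classical
  by_contra hno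
  push Not at hno
  set W := c.W z with hW
  set E := W ⊓ c.W y with hEdef
  set E' := W ⊓ c.W y' with hE'def
  have hWz : ∀ w : W, (w : G) ∈ MulAction.stabilizer G z := fun w => c.W_le_stab z w.2
  -- the conjugates of `E` and of `E'` give disjoint sets of nontrivial elements
  let f : ∀ (X : Subgroup G), X ≤ W → (W ⧸ X.subgroupOf W) × {e : X // e ≠ 1} → {e : W // e ≠ 1} :=
    fun X hX p => ⟨⟨(p.1.out : G) * (p.2.1 : G) * (p.1.out : G)⁻¹,
      mul_mem (mul_mem p.1.out.2 (hX p.2.1.2)) (inv_mem p.1.out.2)⟩, fun h => p.2.2 (Subtype.ext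
        (conj_eq_one_iff.1 (congrArg Subtype.val h)))⟩
  have hmem : ∀ (x : Ω) (p : (W ⧸ (W ⊓ c.W x).subgroupOf W) × {e : ↥(W ⊓ c.W x) // e ≠ 1}),
      ((f (W ⊓ c.W x) inf_le_left p).1 : G) ∈ W ⊓ c.W ((p.1.out : G) • x) := fun x p =>
    (conj_mem_inf (hWz p.1.out)).2 (by
      show (p.1.out : G)⁻¹ * ((p.1.out : G) * (p.2.1 : G) * (p.1.out : G)⁻¹) * p.1.out ∈ _
      rw [show (p.1.out : G)⁻¹ * ((p.1.out : G) * (p.2.1 : G) * (p.1.out : G)⁻¹) * p.1.out =
        (p.2.1 : G) by group]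
      exact p.2.1.2)
  have hinj : ∀ x, z ≠ x → W ⊓ c.W x ≠ ⊥ → Function.Injective (f (W ⊓ c.W x) inf_le_left) := by
    intro x hzx hx p p' hpp
    have h1 := hmem x p
    have h2 := hmem x p'
    rw [← hpp] at h2
    have hne : ((f _ inf_le_left p).1 : G) ≠ 1 := fun h =>
      (f _ inf_le_left p).2 (Subtype.ext h)
    have heq := hc.inf_eq_of_mem (c.smul_ne (hWz p.1.out) hzx.symm).symm
      (c.smul_ne (hWz p'.1.out) hzx.symm).symm hne h1.1 h1.2 h2.2
    have hq : p.1 = p'.1 := by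
      rw [← QuotientGroup.out_eq' p.1, ← QuotientGroup.out_eq' p'.1]
      refine QuotientGroup.eq.2 (mem_subgroupOf.2 ⟨(p.1.out⁻¹ * p'.1.out).2, ?_⟩)
      refine hc.mem_W_of_normalizes hx (p.1.out⁻¹ * p'.1.out).2 (mem_normalizer_iff.2 fun e => ?_)
      have e1 := conj_mem_inf (c := c) (y := x)
        (x := (p'.1.out : G) * e * (p'.1.out : G)⁻¹) (hWz p.1.out)
      have e2 := conj_mem_inf (c := c) (y := x)
        (x := (p'.1.out : G) * e * (p'.1.out : G)⁻¹) (hWz p'.1.out)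
      rw [← heq, e1, show (p'.1.out : G)⁻¹ * ((p'.1.out : G) * e * (p'.1.out : G)⁻¹) * p'.1.out = e
        by group] at e2
      rw [← e2, Subgroup.coe_mul, Subgroup.coe_inv]
      exact iff_of_eq (congrArg (· ∈ W ⊓ c.W x) (by group))
    obtain ⟨q, e⟩ := p
    obtain ⟨q', e'⟩ := p'
    obtain rfl : q = q' := hq
    refine Prod.ext rfl (Subtype.ext (Subtype.ext ?_))
    have h3 := congrArg (fun t : {e : W // e ≠ 1} => ((t.1 : W) : G)) hpp
    exact mul_left_cancel (mul_right_cancel h3)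
  have hdisj : ∀ p p', f E inf_le_left p ≠ f E' inf_le_left p' := by
    intro p p' hpp
    have h1 := hmem y p
    have h2 := hmem y' p'
    rw [← hpp] at h2
    have hne : ((f E inf_le_left p).1 : G) ≠ 1 := fun h =>
      (f E inf_le_left p).2 (Subtype.ext h)
    have heq := hc.inf_eq_of_mem (c.smul_ne (hWz p.1.out) hzy.symm).symm
      (c.smul_ne (hWz p'.1.out) hzy'.symm).symm hne h1.1 h1.2 h2.2
    refine hno (((p'.1.out : W) : G)⁻¹ * p.1.out) (mul_mem (inv_mem p'.1.out.2) p.1.out.2)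
      (Subgroup.ext fun e => ?_)
    have e1 := conj_mem_inf (c := c) (y := y)
      (x := (p'.1.out : G) * e * (p'.1.out : G)⁻¹) (hWz p.1.out)
    have e2 := conj_mem_inf (c := c) (y := y')
      (x := (p'.1.out : G) * e * (p'.1.out : G)⁻¹) (hWz p'.1.out)
    rw [← heq, e1, show (p'.1.out : G)⁻¹ * ((p'.1.out : G) * e * (p'.1.out : G)⁻¹) * p'.1.out = e
      by group] at e2
    show e ∈ W ⊓ c.W y' ↔ e ∈ W ⊓ c.W _
    rw [conj_mem_inf (mul_mem (inv_mem (hWz p'.1.out)) (hWz p.1.out)), ← e2]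
    exact iff_of_eq (congrArg (· ∈ W ⊓ c.W y) (by group))
  -- counting
  have hcnt : ∀ X : Subgroup G, X ≤ W →
      Nat.card ((W ⧸ X.subgroupOf W) × {e : X // e ≠ 1}) + (X.subgroupOf W).index = Nat.card W := by
    intro X hX
    have h1 : Nat.card {e : X // e ≠ 1} + 1 = Nat.card X := by
      haveI := Fintype.ofFinite X
      rw [Nat.card_eq_fintype_card, Nat.card_eq_fintype_card, Fintype.card_subtype_compl,
        Fintype.card_subtype_eq]
      have := Fintype.card_pos (α := X)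
      omega
    have h2 := (X.subgroupOf W).card_mul_index
    rw [Nat.card_congr (subgroupOfEquivOfLe hX).toEquiv, ← h1] at h2
    rw [Nat.card_prod, ← Subgroup.index_eq_card, ← h2]
    ring
  have hsmall : ∀ x : Ω, W ⊓ c.W x ≠ ⊥ →
      3 * ((W ⊓ c.W x).subgroupOf W).index ≤ Nat.card W := by
    intro x hx
    have h2 := ((W ⊓ c.W x).subgroupOf W).card_mul_index
    rw [Nat.card_congr (subgroupOfEquivOfLe (inf_le_left : W ⊓ c.W x ≤ W)).toEquiv] at h2
    have h3 : 3 ≤ Nat.card ↥(W ⊓ c.W x) := by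
      have hodd : Odd (Nat.card ↥(W ⊓ c.W x)) :=
        (c.odd_W z).of_dvd_nat (card_dvd_of_le inf_le_left)
      have h1 : Nat.card ↥(W ⊓ c.W x) ≠ 1 := fun h => hx (eq_bot_of_card_eq _ h)
      obtain ⟨k, hk⟩ := hodd
      omega
    exact (Nat.mul_le_mul_right _ h3).trans h2.le
  have hle := Nat.card_le_card_of_injective (Sum.elim (f E inf_le_left) (f E' inf_le_left))
    ((hinj y hzy hE).sumElim (hinj y' hzy' hE') hdisj)
  have hone : Nat.card {e : W // e ≠ 1} + 1 = Nat.card W := by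
    haveI := Fintype.ofFinite W
    rw [Nat.card_eq_fintype_card, Nat.card_eq_fintype_card, Fintype.card_subtype_compl,
      Fintype.card_subtype_eq]
    have := Fintype.card_pos (α := W)
    omega
  rw [Nat.card_sum] at hle
  have h1 := hcnt E inf_le_left
  have h2 := hcnt E' inf_le_left
  have h3 : 3 * (E.subgroupOf W).index ≤ Nat.card W := hsmall y hE
  have h4 : 3 * (E'.subgroupOf W).index ≤ Nat.card W := hsmall y' hE'
  omega

/-- A prime dividing `|E|` does not divide the index of `E` in `W z`. -/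
theorem not_dvd_index {z y : Ω} (hzy : z ≠ y) {p : ℕ} [Fact p.Prime]
    (hp : p ∣ Nat.card ↥(c.W z ⊓ c.W y)) :
    ¬ p ∣ ((c.W z ⊓ c.W y).subgroupOf (c.W z)).index := by
  set W := c.W z with hW
  set E := W ⊓ c.W y with hEdef
  obtain ⟨e, he⟩ := exists_prime_orderOf_dvd_card' (G := E) p hp
  have he1 : (e : G) ≠ 1 := fun h => (Fact.out : p.Prime).ne_one (by
    rw [← he, show e = 1 from Subtype.ext h, orderOf_one])
  have hE : E ≠ ⊥ := fun h => he1 (mem_bot.1 (h ▸ e.2))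
  set e' : W := ⟨e, e.2.1⟩ with he'
  have hP : IsPGroup p (zpowers e') := IsPGroup.of_card (n := 1) (by
    rw [Nat.card_zpowers, pow_one, ← orderOf_coe, he']
    exact (orderOf_coe e).trans he)
  intro hdvd
  rw [Subgroup.index_eq_card] at hdvd
  obtain ⟨q, hq, hq1⟩ := hP.exists_fixed_point_of_prime_dvd_card_of_fixed_point
    (W ⧸ E.subgroupOf W) hdvd (a := ((1 : W) : W ⧸ E.subgroupOf W)) (fun g => by
      show (((g : W) * 1 : W) : W ⧸ E.subgroupOf W) = _
      refine QuotientGroup.eq.2 ?_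
      rw [mul_one, mul_one, inv_mem_iff]
      exact (zpowers_le.2 (show e' ∈ E.subgroupOf W from mem_subgroupOf.2 e.2)) g.2)
  refine hq1 ?_
  induction q using QuotientGroup.induction_on with
  | H w =>
    have h1 : ((e' * w : W) : W ⧸ E.subgroupOf W) = (w : W ⧸ E.subgroupOf W) :=
      hq ⟨e', mem_zpowers _⟩
    have h2 := mem_subgroupOf.1 (QuotientGroup.eq.1 h1.symm)
    have hwz : (w : G) ∈ MulAction.stabilizer G z := c.W_le_stab z w.2
    have h3 : (e : G) ∈ W ⊓ c.W ((w : G) • y) := by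
      rw [conj_mem_inf hwz, mul_assoc]
      exact h2
    have heq := hc.inf_eq_of_mem hzy (c.smul_ne hwz hzy.symm).symm he1 e.2.1 e.2.2 h3.2
    refine (QuotientGroup.eq.2 ?_).symm
    rw [mul_one, inv_mem_iff]
    refine mem_subgroupOf.2 ⟨w.2, hc.mem_W_of_normalizes hE w.2 ?_⟩
    refine mem_normalizer_iff.2 fun x => ?_
    have e1 := conj_mem_inf (c := c) (y := y) (x := (w : G) * x * (w : G)⁻¹) hwz
    rw [← heq, show (w : G)⁻¹ * ((w : G) * x * (w : G)⁻¹) * w = x by group] at e1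
    exact e1.symm

end Central
end Ctx
end CfsgLib.AbelSolvCent
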