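import Cfsg.Agent.TwoTransTwo.Mersenne
import Cfsg.Agent.Zsigmondy.Basic
import Cfsg.Agent.S3360
import Cfsg.Agent.S0205
import Mathlib

/-!
# Groups of odd order transitive on the nonzero vectors of `GF(2)ⁿ`

`Facts`: what semilinearity (`S3360`) gives about the elements of order `p` for a prime `p` with
`GoodPrime n p`: a prime divisor of `2ⁿ - 1`, prime to `n`, whose roots of unity generate `GF(2ⁿ)`
relative to the automorphisms of odd order.
-/

set_option autoImplicit false
set_option linter.style.haveILetI false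
set_option linter.unusedSectionVars false

namespace CfsgLib.AbelSolvCent

open Subgroup

/-- A prime divisor of `2ⁿ - 1` fixed by no nontrivial automorphism of odd order of `GF(2ⁿ)`. -/
structure GoodPrime (n p : ℕ) : Prop where
  prime : p.Prime
  dvd : p ∣ 2 ^ n - 1
  not_dvd : ¬ p ∣ n
  gen : ∀ i d : ℕ, Odd d → n ∣ i * d → p ∣ 2 ^ i - 1 → n ∣ i

theorem dvd_pow_gcd_sub_one {p i n : ℕ} (hi : p ∣ 2 ^ i - 1) (hn : p ∣ 2 ^ n - 1) :
    p ∣ 2 ^ Nat.gcd i n - 1 := by
  rw [← Nat.pow_sub_one_gcd_pow_sub_one]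
  exact Nat.dvd_gcd hi hn

/-- Every prime divisor of `2ˡ - 1`, `l` an odd prime, is good. -/
theorem goodPrime_of_prime {l p : ℕ} (hl : l.Prime) (hp : p.Prime) (hd : p ∣ 2 ^ l - 1) :
    GoodPrime l p := by
  refine ⟨hp, hd, fun h => ?_, fun i d _ _ hi => ?_⟩
  · obtain rfl : p = l := (Nat.prime_dvd_prime_iff_eq hp hl).1 h
    haveI : Fact p.Prime := ⟨hp⟩
    rw [← ZMod.natCast_eq_zero_iff, Nat.cast_sub Nat.one_le_two_pow, Nat.cast_pow, Nat.cast_one,
      ZMod.pow_card] at hd
    rw [show ((2 : ℕ) : ZMod p) = 1 + 1 by push_cast; ring, add_sub_cancel_left] at hd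
    exact one_ne_zero hd
  · have h := dvd_pow_gcd_sub_one hi hd
    rcases (Nat.dvd_prime hl).1 (Nat.gcd_dvd_right i l) with e | e
    · rw [e] at h
      exact absurd (Nat.le_of_dvd (by norm_num) h) (by have := hp.two_le; omega)
    · exact e ▸ Nat.gcd_dvd_left i l

theorem exists_goodPrime {n : ℕ} (hn : 3 ≤ n) : ∃ p, GoodPrime n p := by
  by_cases h6 : n = 6
  · subst h6
    refine ⟨7, by norm_num, by norm_num, by norm_num, fun i d hd hid hi => ?_⟩
    have h := dvd_pow_gcd_sub_one hi (show 7 ∣ 2 ^ 3 - 1 by norm_num)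
    have h3 : 3 ∣ i := by
      rcases (Nat.dvd_prime Nat.prime_three).1 (Nat.gcd_dvd_right i 3) with e | e
      · rw [e] at h; norm_num at h
      · exact e ▸ Nat.gcd_dvd_left i 3
    have h2 : 2 ∣ i :=
      (Nat.Coprime.dvd_of_dvd_mul_right (Nat.coprime_two_left.2 hd)
        ((show 2 ∣ 6 by norm_num).trans hid))
    exact (Nat.Coprime.mul_dvd_of_dvd_of_dvd (by norm_num : Nat.Coprime 2 3) h2 h3)
  obtain ⟨p, hp, hpd, hprim⟩ := CfsgLib.Zsigmondy.exists_primitive_prime 2 n one_lt_two (by omega)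
    (fun h => h6 h.2) (fun h => by omega)
  have hgen : ∀ i : ℕ, p ∣ 2 ^ i - 1 → n ∣ i := fun i hi => by
    have h := dvd_pow_gcd_sub_one hi hpd
    have hpos : 0 < Nat.gcd i n := Nat.gcd_pos_of_pos_right i (by omega)
    rcases lt_or_eq_of_le (Nat.le_of_dvd (by omega) (Nat.gcd_dvd_right i n)) with hlt | he
    · exact absurd h (hprim _ hpos hlt)
    · exact he ▸ Nat.gcd_dvd_left i n
  refine ⟨p, hp, hpd, fun h => ?_, fun i d _ _ hi => hgen i hi⟩
  haveI : Fact p.Prime := ⟨hp⟩
  have hp2 : p ≠ 2 := by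
    rintro rfl
    have : 1 ≤ n := by omega
    rw [show 2 ^ n = 2 * 2 ^ (n - 1) by rw [← pow_succ']; congr 1; omega] at hpd
    have := Nat.one_le_two_pow (n := n - 1)
    omega
  have h1 : p ∣ 2 ^ (p - 1) - 1 := by
    rw [← ZMod.natCast_eq_zero_iff, Nat.cast_sub Nat.one_le_two_pow, Nat.cast_pow, Nat.cast_one,
      ZMod.pow_card_sub_one_eq_one (fun h2 => hp2 ((Nat.prime_dvd_prime_iff_eq hp Nat.prime_two).1
        ((ZMod.natCast_eq_zero_iff 2 p).1 h2))), sub_self]
  have h2 := Nat.le_of_dvd (by have := hp.two_le; omega) (hgen _ h1)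
  have h3 := Nat.le_of_dvd (by omega) h
  omega

/-- An automorphism of `GF(2ⁿ)` is a power of the Frobenius map. -/
theorem exists_frobenius {F : Type*} [Field F] [Finite F] [CharP F 2] (σ : F ≃+* F) :
    ∃ i : ℕ, ∀ x, σ x = x ^ 2 ^ i := by
  haveI := Fintype.ofFinite F
  haveI : Fact (Nat.Prime 2) := ⟨Nat.prime_two⟩
  let _ : Algebra (ZMod 2) F := ZMod.algebra F 2
  let φ : F ≃ₐ[ZMod 2] F := AlgEquiv.ofRingEquiv (f := σ) fun r =>
    RingHom.congr_fun (RingHom.ext_zmod ((σ : F →+* F).comp (algebraMap (ZMod 2) F))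
      (algebraMap _ _)) r
  obtain ⟨i, hi⟩ := (FiniteField.bijective_frobeniusAlgEquivOfAlgebraic_pow (ZMod 2) F).2 φ
  refine ⟨i.1, fun x => ?_⟩
  have h := AlgEquiv.congr_fun hi x
  rw [AlgEquiv.coe_pow, FiniteField.coe_frobeniusAlgEquivOfAlgebraic_iterate, ZMod.card] at h
  exact h.symm

theorem dvd_of_frobenius_eq {F : Type*} [Field F] [Finite F] {n i : ℕ}
    (hF : Nat.card F = 2 ^ n) (h : ∀ x : F, x ≠ 0 → x ^ 2 ^ i = x) : n ∣ i := by
  haveI := Fintype.ofFinite F
  obtain ⟨g, hg⟩ := IsCyclic.exists_ofOrder_eq_natCard (α := Fˣ)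
  have h1 : g ^ (2 ^ i - 1) = 1 := by
    refine Units.ext (mul_right_cancel₀ g.ne_zero ?_)
    rw [Units.val_pow_eq_pow_val, ← pow_succ, Nat.sub_add_cancel Nat.one_le_two_pow,
      h _ g.ne_zero, Units.val_one, one_mul]
  have h2 := orderOf_dvd_of_pow_eq_one h1
  rw [hg, Nat.card_units, hF] at h2
  have h3 : 2 ^ Nat.gcd n i - 1 = 2 ^ n - 1 := by
    rw [← Nat.pow_sub_one_gcd_pow_sub_one]
    exact Nat.gcd_eq_left h2
  have h5 : (2 : ℕ) ^ Nat.gcd n i = 2 ^ n := by
    have := Nat.one_le_two_pow (n := Nat.gcd n i)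
    have := Nat.one_le_two_pow (n := n)
    omega
  have h4 : Nat.gcd n i = n := Nat.pow_right_injective le_rfl h5
  exact h4 ▸ Nat.gcd_dvd_right n i

variable {X : Type*} [Group X] [Finite X] {V : Type*} [Group V] [Finite V]

/-- The consequences of semilinearity. -/
structure Facts (ρ : X →* MulAut V) (n p : ℕ) : Prop where
  fpf : ∀ j : X, orderOf j = p → ∀ v, ρ j v = v → v = 1
  unique : ∀ j j' : X, orderOf j = p → orderOf j' = p → j' ∈ zpowers j
  cent_fpf : ∀ j k : X, orderOf j = p → Commute k j → k ≠ 1 → ∀ v, ρ k v = v → v = 1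
  cent_cyclic : ∀ j : X, orderOf j = p → IsCyclic (centralizer ({j} : Set X))
  cent_card : ∀ j : X, orderOf j = p → Nat.card (centralizer ({j} : Set X)) ∣ 2 ^ n - 1
  card_dvd : ∀ j : X, orderOf j = p → Nat.card X ∣ Nat.card (centralizer ({j} : Set X)) * n
  two_pow : ∀ j g : X, orderOf j = p → ∃ i : ℕ, ∀ k, Commute k j → g * k * g⁻¹ = k ^ 2 ^ i

/-- **Semilinearity.** -/
theorem facts {n p : ℕ} (hn : 3 ≤ n) (hp : GoodPrime n p) (hodd : Odd (Nat.card X))
    (hV2 : ∀ v : V, v * v = 1) (hV : Nat.card V = 2 ^ n) (ρ : X →* MulAut V)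
    (hρ : Function.Injective ρ) (htrans : ∀ v w : V, v ≠ 1 → w ≠ 1 → ∃ g, ρ g v = w) :
    Facts ρ n p := by
  classical
  haveI : Fact (Nat.Prime 2) := ⟨Nat.prime_two⟩
  haveI : Fact p.Prime := ⟨hp.prime⟩
  haveI : Nontrivial V := by
    rw [← Finite.one_lt_card_iff_nontrivial, hV]
    exact Nat.one_lt_two_pow (by omega)
  have hc : ∀ a b : V, a * b = b * a := fun a b => by
    have hi : ∀ c : V, c⁻¹ = c := fun c => inv_eq_of_mul_eq_one_right (hV2 c)
    rw [← hi (a * b), mul_inv_rev, hi, hi]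
  letI : CommGroup V := { (inferInstance : Group V) with mul_comm := hc }
  letI : Module (ZMod 2) (Additive V) := AddCommGroup.zmodModule fun x => by
    rw [two_nsmul]; exact hV2 x.toMul
  haveI : Nontrivial (Additive V) := Additive.ofMul.symm.nontrivial
  let ρ' : X →* (Additive V ≃ₗ[ZMod 2] Additive V) := MonoidHom.mk'
    (fun g => { MulEquiv.toAdditive (ρ g) with
      map_smul' := fun c x => ZMod.map_smul (MulEquiv.toAdditive (ρ g)).toAddMonoidHom c x })
    (fun g h => LinearEquiv.ext fun x => by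
      show Additive.ofMul (ρ (g * h) x.toMul) = Additive.ofMul (ρ g (ρ h x.toMul))
      rw [map_mul]; rfl)
  have hρ' : Function.Injective ρ' := fun g h e => hρ (MulEquiv.ext fun v =>
    congrArg Additive.toMul (LinearEquiv.congr_fun e (Additive.ofMul v)))
  rcases Cfsg.Agent.S3360.result 2 (Cfsg.Agent.S0205.result hodd) ρ' hρ' (fun v w hv hw => by
      obtain ⟨g, hg⟩ := htrans v.toMul w.toMul hv hw
      exact ⟨g, congrArg Additive.ofMul hg⟩) with ⟨F, _, _, e, he⟩ | h9
  swap
  · rw [Nat.card_congr Additive.toMul, hV] at h9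
    have h2 : 2 ∣ 2 ^ n := dvd_pow_self 2 (by omega)
    simp only [Set.mem_insert_iff, Set.mem_singleton_iff] at h9
    omega
  have hF : Nat.card F = 2 ^ n := by
    rw [← hV, ← Nat.card_congr e.toEquiv, Nat.card_congr Additive.toMul]
  haveI : CharP F 2 := charP_of_card_eq_prime_pow (f := n)
    (by rw [← Nat.card_eq_fintype_card, hF])
  choose a σ haσ using he
  let c : V → F := fun v => e (Additive.ofMul v)
  have hcs : ∀ x, ∃ v, c v = x := fun x => ⟨(e.symm x).toMul, e.apply_symm_apply x⟩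
  have hact : ∀ g v, c (ρ g v) = a g * σ g (c v) := fun g v => haσ g (Additive.ofMul v)
  have hc0 : ∀ v, c v = 0 ↔ v = 1 := fun v => by
    show e (Additive.ofMul v) = 0 ↔ v = 1
    rw [map_eq_zero_iff e e.injective]
    exact ⟨fun h => Additive.ofMul.injective (by rw [h]; rfl), fun h => by rw [h]; rfl⟩
  have hcinj : Function.Injective c := fun v w h => Additive.ofMul.injective (e.injective h)
  obtain ⟨v1, hv1⟩ := hcs 1
  have hv1' : v1 ≠ 1 := fun h => by
    rw [h, (hc0 1).2 rfl] at hv1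
    exact zero_ne_one hv1
  have ha0 : ∀ g, a g ≠ 0 := fun g h => hv1' ((ρ g).injective (hcinj (by
    rw [hact, hact, h, zero_mul, zero_mul])))
  have hext : ∀ g h, a g = a h → (∀ x, σ g x = σ h x) → g = h := fun g h h1 h2 =>
    hρ (MulEquiv.ext fun v => hcinj (by rw [hact, hact, h1, h2]))
  have hmul_a : ∀ g h, a (g * h) = a g * σ g (a h) := fun g h => by
    have h1 := hact (g * h) v1
    rw [map_mul, MulAut.mul_apply, hact, hact, hv1, map_one, map_one, mul_one, mul_one] at h1
    exact h1.symm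
  have hmul_s : ∀ g h x, σ (g * h) x = σ g (σ h x) := fun g h x => by
    obtain ⟨v, rfl⟩ := hcs x
    have h1 := hact (g * h) v
    rw [map_mul, MulAut.mul_apply, hact, hact, hmul_a, map_mul, mul_assoc] at h1
    exact (mul_left_cancel₀ ((map_ne_zero (σ g)).2 (ha0 h)) (mul_left_cancel₀ (ha0 g) h1)).symm
  have hone : a 1 = 1 ∧ ∀ x, σ 1 x = x := by
    have h1 := hact 1 v1
    rw [map_one, MulAut.one_apply, hv1, map_one, mul_one] at h1
    refine ⟨h1.symm, fun x => ?_⟩
    obtain ⟨v, rfl⟩ := hcs x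
    have h2 := hact 1 v
    rw [map_one, MulAut.one_apply, ← h1, one_mul] at h2
    exact h2.symm
  choose i hi using fun g => exists_frobenius (σ g)
  have hpow : ∀ g (k : ℕ) x, σ (g ^ k) x = x ^ 2 ^ (i g * k) := by
    intro g k
    induction k with
    | zero => intro x; simp [hone.2]
    | succ k ih => intro x; rw [pow_succ', hmul_s, ih, hi, ← pow_mul, ← pow_add, mul_add, mul_one]
  have hfin : ∀ g (d : ℕ), g ^ d = 1 → n ∣ i g * d := fun g d hd =>
    dvd_of_frobenius_eq hF fun x _ => by rw [← hpow, hd, hone.2]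
  have hlin : ∀ g, n ∣ i g → ∀ x, σ g x = x := fun g ⟨k, hk⟩ x => by
    rw [hi, hk, pow_mul]
    haveI := Fintype.ofFinite F
    have := FiniteField.pow_card_pow k x
    rwa [← Nat.card_eq_fintype_card, hF] at this
  have hsj : ∀ j, orderOf j = p → ∀ x, σ j x = x := fun j hj => hlin j
    ((hp.prime.coprime_iff_not_dvd.2 hp.not_dvd).symm.dvd_of_dvd_mul_right
      (hfin j p (hj ▸ pow_orderOf_eq_one j)))
  have ha_pow : ∀ g, (∀ x, σ g x = x) → ∀ k : ℕ, a (g ^ k) = a g ^ k := by
    intro g hg k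
    induction k with
    | zero => simp [hone.1]
    | succ k ih => rw [pow_succ', hmul_a, hg, ih, pow_succ']
  have haj : ∀ j, orderOf j = p → orderOf (Units.mk0 (a j) (ha0 j)) = p := fun j hj => by
    refine orderOf_eq_prime (Units.ext ?_) fun h => ?_
    · rw [Units.val_pow_eq_pow_val, Units.val_mk0, ← ha_pow j (hsj j hj), ← hj,
        pow_orderOf_eq_one, hone.1]
      rfl
    · have h1 : j = 1 := hext j 1 (by rw [hone.1]; exact congrArg Units.val h) fun x => by
        rw [hsj j hj, hone.2]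
      rw [h1, orderOf_one] at hj
      exact hp.prime.ne_one hj.symm
  have hsc : ∀ j k, orderOf j = p → Commute k j → ∀ x, σ k x = x := fun j k hj hk => by
    have h1 : a (k * j) = a (j * k) := by rw [hk.eq]
    rw [hmul_a, hmul_a, hsj j hj, mul_comm (a j) (a k)] at h1
    have h2 : (Units.mk0 (a j) (ha0 j)) ^ (2 ^ i k - 1) = 1 := by
      refine Units.ext (mul_right_cancel₀ (ha0 j) ?_)
      rw [Units.val_pow_eq_pow_val, Units.val_mk0, ← pow_succ,
        Nat.sub_add_cancel Nat.one_le_two_pow, ← hi, mul_left_cancel₀ (ha0 k) h1, Units.val_one,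
        one_mul]
    refine hlin k (hp.gen (i k) (orderOf k) (hodd.of_dvd_nat (orderOf_dvd_natCard k))
      (hfin k _ (pow_orderOf_eq_one k)) ?_)
    have h3 := orderOf_dvd_of_pow_eq_one h2
    rwa [haj j hj] at h3
  have hψ : ∀ j, orderOf j = p → ∃ ψ : centralizer ({j} : Set X) →* Fˣ,
      Function.Injective ψ ∧ ∀ k, (ψ k : F) = a k := fun j hj => by
    refine ⟨MonoidHom.mk' (fun k => Units.mk0 (a k.1) (ha0 k.1)) fun k k' => Units.ext ?_,
      fun k k' h => ?_, fun k => rfl⟩
    · show a (k.1 * k'.1) = a k.1 * a k'.1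
      rw [hmul_a, hsc j k.1 hj (mem_centralizer_singleton_iff.1 k.2)]
    · refine Subtype.ext (hext _ _ (congrArg Units.val h) fun x => ?_)
      rw [hsc j k.1 hj (mem_centralizer_singleton_iff.1 k.2),
        hsc j k'.1 hj (mem_centralizer_singleton_iff.1 k'.2)]
  have hcfpf : ∀ j k, orderOf j = p → Commute k j → k ≠ 1 → ∀ v, ρ k v = v → v = 1 := by
    intro j k hj hk hk1 v hv
    by_contra hv'
    refine hk1 (hext k 1 ?_ fun x => by rw [hsc j k hj hk, hone.2])
    have h1 := hact k v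
    rw [hv, hsc j k hj hk] at h1
    rw [hone.1]
    exact mul_right_cancel₀ (fun h => hv' ((hc0 v).1 h)) (h1.symm.trans (one_mul _).symm)
  refine ⟨fun j hj => hcfpf j j hj (Commute.refl j) (fun h => ?_), fun j j' hj hj' => ?_, hcfpf,
    fun j hj => ?_, fun j hj => ?_, fun j hj => ?_, fun j g hj => ⟨i g, fun k hk => ?_⟩⟩
  · rw [h, orderOf_one] at hj; exact hp.prime.ne_one hj.symm
  · -- the elements of order `p`
    have h1 : Units.mk0 (a j') (ha0 j') ∈ zpowers (Units.mk0 (a j) (ha0 j)) := by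
      by_contra hno
      let s : Finset Fˣ := insert (Units.mk0 (a j') (ha0 j'))
        (Finset.univ.image fun z : zpowers (Units.mk0 (a j) (ha0 j)) => (z : Fˣ))
      have hs : s ⊆ Finset.univ.filter (fun u : Fˣ => u ^ p = 1) := by
        intro u hu
        simp only [s, Finset.mem_insert, Finset.mem_image, Finset.mem_univ, true_and] at hu
        rw [Finset.mem_filter]
        refine ⟨Finset.mem_univ _, ?_⟩
        rcases hu with rfl | ⟨z, rfl⟩
        · rw [← haj j' hj']; exact pow_orderOf_eq_one _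
        · obtain ⟨k, hk⟩ := mem_zpowers_iff.1 z.2
          rw [← hk, ← zpow_natCast, ← zpow_mul, mul_comm, zpow_mul, zpow_natCast, ← haj j hj,
            pow_orderOf_eq_one, one_zpow]
      have h2 := Finset.card_le_card hs
      rw [Finset.card_insert_of_notMem (fun h => hno (by
          obtain ⟨z, -, hz⟩ := Finset.mem_image.1 h
          rw [← hz]
          exact z.2)),
        Finset.card_image_of_injective _ Subtype.val_injective, Finset.card_univ,
        ← Nat.card_eq_fintype_card, Nat.card_zpowers, haj j hj] at h2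
      have h3 := IsCyclic.card_pow_eq_one_le (α := Fˣ) hp.prime.pos
      omega
    obtain ⟨k, hk⟩ := (mem_zpowers_iff_mem_range_orderOf.1 h1 |> Finset.mem_image.1)
    refine mem_zpowers_iff.2 ⟨k, ?_⟩
    rw [zpow_natCast]
    refine hext _ _ ?_ fun x => ?_
    · have := congrArg Units.val hk.2
      rw [Units.val_pow_eq_pow_val, Units.val_mk0, Units.val_mk0] at this
      rw [ha_pow j (hsj j hj), this]
    · rw [hsc j _ hj ((Commute.refl j).pow_left k), hsj j' hj']
  · obtain ⟨ψ, hinj, -⟩ := hψ j hj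
    exact isCyclic_of_injective ψ hinj
  · obtain ⟨ψ, hinj, -⟩ := hψ j hj
    have := Subgroup.card_dvd_of_injective ψ hinj
    rwa [Nat.card_units, hF] at this
  · let s : X →* RingAut F := MonoidHom.mk' σ fun g h => RingEquiv.ext fun x => hmul_s g h x
    have hker : s.ker = centralizer ({j} : Set X) := by
      ext k
      refine ⟨fun hk => mem_centralizer_singleton_iff.2 (hext _ _ ?_ fun x => ?_), fun hk =>
        RingEquiv.ext (hsc j k hj (mem_centralizer_singleton_iff.1 hk))⟩
      · have hk' : ∀ x, σ k x = x := fun x => RingEquiv.congr_fun hk x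
        rw [hmul_a, hmul_a, hk', hsj j hj, mul_comm]
      · have hk' : ∀ x, σ k x = x := fun x => RingEquiv.congr_fun hk x
        simp only [hmul_s, hk', hsj j hj]
    haveI : Finite (RingAut F) := Finite.of_injective (fun f : RingAut F => (f : F → F))
      DFunLike.coe_injective
    have h1 : Nat.card s.range ∣ n := CfsgLib.TwoTransTwo.card_ringAut_semilinear hF (by omega)
      (fun z : s.range => (z : RingAut F)) Subtype.val_injective fun _ _ _ => rfl
    rw [← hker, ← (s.ker).card_mul_index, Subgroup.index_ker]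
    exact mul_dvd_mul_left _ h1
  · rw [mul_inv_eq_iff_eq_mul]
    have hpk : ∀ x, σ (k ^ 2 ^ i g) x = x := hsc j _ hj (hk.pow_left _)
    refine hext _ _ ?_ fun x => ?_
    · rw [hmul_a, hmul_a, hpk, hi g (a k), ha_pow k (hsc j k hj hk), mul_comm]
    · rw [hmul_s, hmul_s, hsc j k hj hk, hpk]

end CfsgLib.AbelSolvCent
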