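import Cfsg.Agent.AbelSolvCent.CentralGood
import Cfsg.Agent.AbelSolvCent.Semilinear

/-!
# Sylow subgroups of two-point stabilizers for a good prime

For a good prime `p` of `2ⁿ - 1`, `2ⁿ = |A z|`, in the central case: a `p`-element of a stabilizer
commuting with an involution at that point lies in its `W`; a Sylow `p`-subgroup of a two-point
stabilizer is contained in one fixing exactly two points, which is a Sylow subgroup of `G`.
-/

set_option autoImplicit false
set_option linter.style.haveILetI false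
set_option linter.unusedSectionVars false

universe u v

namespace CfsgLib.AbelSolvCent

open Subgroup CfsgLib.SEmbed CfsgLib.Small

variable {G : Type u} [Group G] [Finite G] {Ω : Type v} [MulAction G Ω] {c : Ctx G Ω}

namespace Ctx

/-- A good prime in the central case. -/
structure GoodData (c : Ctx G Ω) (n p : ℕ) : Prop where
  central : c.Central
  three_le : 3 ≤ n
  good : GoodPrime n p
  card : ∀ z, Nat.card (c.A z) = 2 ^ n

/-- A Sylow `p`-subgroup of the stabilizer of two points. -/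
structure IsPairSylow (p : ℕ) (R : Subgroup G) (z y : Ω) : Prop where
  isPGroup : IsPGroup p R
  le : R ≤ pairStab G z y
  max : ∀ P : Subgroup G, IsPGroup p P → P ≤ pairStab G z y → R ≤ P → P = R

theorem exists_isPairSylow {p : ℕ} {P : Subgroup G} (hP : IsPGroup p P) {z y : Ω}
    (hle : P ≤ pairStab G z y) : ∃ R, P ≤ R ∧ IsPairSylow p R z y := by
  obtain ⟨R, hPR, ⟨hRp, hRle⟩, hmax⟩ :=
    (Set.toFinite {Q : Subgroup G | IsPGroup p Q ∧ Q ≤ pairStab G z y}).exists_le_maximal ⟨hP, hle⟩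
  exact ⟨R, hPR, hRp, hRle, fun Q hQ hQle hRQ => le_antisymm (hmax ⟨hQ, hQle⟩ hRQ) hRQ⟩

/-- A Sylow subgroup of `D` as a `Sylow`. -/
theorem IsPairSylow.exists_sylow {p : ℕ} {R : Subgroup G} {z y : Ω} (hR : IsPairSylow p R z y) :
    ∃ P : Sylow p (pairStab G z y), (P : Subgroup (pairStab G z y)) = R.subgroupOf _ := by
  obtain ⟨P, hP⟩ := (hR.isPGroup.of_equiv (subgroupOfEquivOfLe hR.le).symm).exists_le_sylow
  refine ⟨P, ?_⟩
  have h := hR.max _ (P.isPGroup'.map _) (map_subtype_le _) (fun r hr => ⟨⟨r, hR.le hr⟩, hP hr, rfl⟩)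
  refine map_injective (pairStab G z y).subtype_injective (h.trans ?_)
  rw [subgroupOf_map_subtype, inf_eq_left.2 hR.le]

/-- A Sylow subgroup of a two-point stabilizer is normalized by an interchanging involution. -/
theorem IsPairSylow.exists_swap (c : Ctx G Ω) {p : ℕ} [Fact p.Prime] {R : Subgroup G} {z y : Ω}
    (hzy : z ≠ y) (hR : IsPairSylow p R z y) :
    ∃ s ∈ normalizer (R : Set G), s ∈ invMap (G := G) z y := by
  obtain ⟨a, ha, haz⟩ := c.fix.exists_inv z
  obtain ⟨b, hb, hby⟩ := c.fix.exists_inv y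
  obtain ⟨j, hj, -⟩ := exists_interchange c.fix ha hb haz hby hzy
  set D := pairStab G z y with hD
  have hjD : ∀ d ∈ D, j * d * j⁻¹ ∈ D := by
    intro d hd
    obtain ⟨hdz, hdy⟩ := mem_pairStab.1 hd
    rw [inv_eq_self_of_orderOf_two hj.1]
    exact mem_pairStab.2
      ⟨by rw [mul_smul, mul_smul, hj.2, hdy, smul_back hj.1 hj.2],
       by rw [mul_smul, mul_smul, smul_back hj.1 hj.2, hdz, hj.2]⟩
  obtain ⟨P, hP⟩ := hR.exists_sylow
  have hR'D : R.map (MulAut.conj j).toMonoidHom ≤ D := by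
    rintro _ ⟨r, hr, rfl⟩; exact hjD r (hR.le hr)
  obtain ⟨P', hP'⟩ :=
    ((hR.isPGroup.map (MulAut.conj j).toMonoidHom).of_equiv
      (subgroupOfEquivOfLe hR'D).symm).exists_le_sylow
  obtain ⟨d, hd⟩ := MulAction.exists_smul_eq D P' P
  set g : G := (d : G) * j with hg
  have hgN : g ∈ normalizer (R : Set G) := by
    have hle : R.map (MulAut.conj g).toMonoidHom ≤ R := by
      rintro _ ⟨r, hr, rfl⟩
      have h1 : d * ⟨j * r * j⁻¹, hjD r (hR.le hr)⟩ * d⁻¹ ∈ (P : Subgroup D) := by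
        rw [← hd]; exact ⟨_, hP' (mem_subgroupOf.2 ⟨r, hr, rfl⟩), rfl⟩
      rw [hP] at h1
      show g * r * g⁻¹ ∈ R
      rw [show g * r * g⁻¹ = (d : G) * (j * r * j⁻¹) * (d : G)⁻¹ by rw [hg]; group]
      exact mem_subgroupOf.1 h1
    rw [mem_normalizer_iff_map_conj_eq]
    exact eq_of_le_of_card_ge hle (card_map_of_injective (MulAut.conj g).injective).ge
  obtain ⟨hdz, hdy⟩ := mem_pairStab.1 d.2
  have hgz : g • z = y := by rw [hg, mul_smul, hj.2, hdy]
  have hgy : g • y = z := by rw [hg, mul_smul, smul_back hj.1 hj.2, hdz]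
  obtain ⟨k, m, ⟨i, hi⟩, hkm⟩ := Nat.exists_eq_two_pow_mul_odd (orderOf_pos g).ne'
  have hgg : g * g ∈ D := mem_pairStab.2
    ⟨by rw [mul_smul, hgz, hgy], by rw [mul_smul, hgy, hgz]⟩
  have hpow : ∀ i : ℕ, (g ^ (2 * i + 1)) • z = y := fun i => by
    rw [pow_succ', mul_smul, pow_mul, sq, (mem_pairStab.1 (pow_mem hgg i)).1, hgz]
  have hsD : (g ^ m) ^ 2 ∈ D := by
    rw [← pow_mul, mul_comm, pow_mul, sq]
    exact pow_mem hgg m
  have h1 : ((g ^ m) ^ 2) = 1 := by
    refine orderOf_eq_one_iff.1 (Nat.eq_one_of_dvd_coprimes (a := 2 ^ k)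
      ((Nat.coprime_two_left.2 (odd_pairStab c.fix hzy)).pow_left k) ?_
      (orderOf_dvd_natCard _ hsD))
    refine orderOf_dvd_of_pow_eq_one ?_
    rw [← pow_mul, ← pow_mul, show m * (2 * 2 ^ k) = orderOf g * 2 by rw [hkm]; ring, pow_mul,
      pow_orderOf_eq_one, one_pow]
  refine ⟨g ^ m, pow_mem hgN m, ⟨orderOf_eq_prime h1 fun e => hzy ?_, by rw [hi]; exact hpow i⟩⟩
  have h2 := hpow i
  rw [← hi, e, one_smul] at h2
  exact h2

namespace Central

variable [IsSimpleGroup G] (hc : c.Central)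

/-- The action of the stabilizer of `z` on `A z`. -/
noncomputable def actA (z : Ω) : MulAction.stabilizer G z →* MulAut (c.A z) :=
  MonoidHom.mk'
    (fun g =>
      { toFun := fun a => ⟨(g : G) * a * (g : G)⁻¹, hc.conj_mem_A g.2 a.2⟩
        invFun := fun a => ⟨(g : G)⁻¹ * a * (g : G)⁻¹⁻¹, hc.conj_mem_A (inv_mem g.2) a.2⟩
        left_inv := fun a => Subtype.ext (by group)
        right_inv := fun a => Subtype.ext (by group)
        map_mul' := fun a b => Subtype.ext (by simp [mul_assoc]) })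
    fun g h => MulEquiv.ext fun a => Subtype.ext (by
      show ((g * h : MulAction.stabilizer G z) : G) * a * ((g * h : MulAction.stabilizer G z) : G)⁻¹ =
        (g : G) * ((h : G) * a * (h : G)⁻¹) * (g : G)⁻¹
      rw [Subgroup.coe_mul]; group)

theorem actA_apply (z : Ω) (g : MulAction.stabilizer G z) (a : c.A z) :
    ((hc.actA z g a : c.A z) : G) = g * a * (g : G)⁻¹ := rfl

theorem actA_eq_one_of_commute {z : Ω} {g : MulAction.stabilizer G z}
    (h : ∀ a ∈ c.A z, Commute a (g : G)) : hc.actA z g = 1 :=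
  MulEquiv.ext fun a => Subtype.ext (by
    rw [actA_apply, ← (h a a.2).eq, mul_inv_cancel_right]; rfl)

theorem actA_eq_one {z : Ω} {g : MulAction.stabilizer G z} (hg : Odd (orderOf (g : G))) :
    hc.actA z g = 1 ↔ (g : G) ∈ c.W z := by
  refine ⟨fun h => hc.mem_W_of_forall hg fun a ha => ?_,
    fun h => hc.actA_eq_one_of_commute fun a ha => hc.commute ha h⟩
  have h1 : (g : G) * a * (g : G)⁻¹ = a :=
    congrArg Subtype.val (MulEquiv.congr_fun h ⟨a, ha⟩)
  exact (mul_inv_eq_iff_eq_mul.1 h1).symm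

end Central

namespace GoodData

variable [IsSimpleGroup G] {n p : ℕ} [Fact p.Prime] (d : c.GoodData n p)
include d

theorem p_odd : Odd p := by
  refine (Fact.out : p.Prime).odd_of_ne_two fun e => ?_
  have h := d.good.dvd
  have h3 := d.three_le
  rw [e, show n = n - 1 + 1 by omega, pow_succ'] at h
  have := Nat.one_le_two_pow (n := n - 1)
  omega

theorem odd_orderOf {P : Subgroup G} (hP : IsPGroup p P) {g : G} (hg : g ∈ P) :
    Odd (orderOf g) := by
  obtain ⟨k, hk⟩ := IsPGroup.iff_card.1 hP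
  exact (hk ▸ d.p_odd.pow : Odd (Nat.card P)).of_dvd_nat (orderOf_dvd_natCard _ hg)

theorem card_invMap (z : Ω) : Nat.card (invMap (G := G) z z) = 2 ^ n - 1 := by
  have := d.central.card_invMap_self_eq z
  rw [d.card] at this
  omega

/-- Semilinearity of the stabilizer on `A z`. -/
theorem facts (z : Ω) : Facts (d.central.actA z).range.subtype n p := by
  haveI : Fact (Nat.Prime 2) := ⟨Nat.prime_two⟩
  have hS : (c.syl z : Subgroup G) ≤ MulAction.stabilizer G z := by
    rw [c.stab]; exact sylow_le_mid _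
  refine AbelSolvCent.facts d.three_le d.good ?_
    (fun v => Subtype.ext (by rw [Subgroup.coe_mul, ← sq, (c.hyp z).elab.2 _ v.2]; rfl))
    (d.card z) _ (Subgroup.subtype_injective _) fun v w hv hw => ?_
  · rw [← index_ker, ← Nat.not_even_iff_odd, even_iff_two_dvd]
    refine fun h => ((c.syl z).subtype hS).not_dvd_index (h.trans ?_)
    refine index_dvd_of_le fun s hs => ?_
    rw [MonoidHom.mem_ker]
    rw [Sylow.coe_subtype, mem_subgroupOf] at hs
    exact d.central.actA_eq_one_of_commute fun a ha =>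
      (c.hyp z).comm (omegaS_le _ ha) hs
  · obtain ⟨y, hy⟩ := c.nontriv z
    obtain ⟨g, hg, hgvw⟩ := exists_conj_fix c.fix hy.symm
      (c.A_mem v.2 fun e => hv (Subtype.ext e)) (c.A_mem w.2 fun e => hw (Subtype.ext e))
    exact ⟨⟨_, ⟨g, (mem_pairStab.1 hg).1⟩, rfl⟩, Subtype.ext hgvw⟩

/-- A `p`-element of the stabilizer of `z` commuting with an involution at `z` lies in `W z`. -/
theorem mem_W_of_commute_invol {z : Ω} {P : Subgroup G} (hP : IsPGroup p P) {g : G} (hgP : g ∈ P)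
    {t : G} (ht : t ∈ invMap (G := G) z z) (hgt : Commute g t) : g ∈ c.W z := by
  have hgz : g ∈ MulAction.stabilizer G z :=
    c.centralizer_le_stab ht (mem_centralizer_singleton_iff.2 hgt)
  refine (d.central.actA_eq_one (g := ⟨g, hgz⟩) (d.odd_orderOf hP hgP)).1 ?_
  by_contra hne
  set x : (d.central.actA z).range := ⟨_, ⟨g, hgz⟩, rfl⟩ with hx
  have hx1 : x ≠ 1 := fun e => hne (congrArg Subtype.val e)
  obtain ⟨k, hk⟩ := hP ⟨g, hgP⟩
  have hgk : g ^ p ^ k = 1 := congrArg Subtype.val hk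
  have hxk : x ^ p ^ k = 1 := by
    refine Subtype.ext ?_
    show (d.central.actA z ⟨g, hgz⟩) ^ p ^ k = 1
    rw [← map_pow, show (⟨g, hgz⟩ : MulAction.stabilizer G z) ^ p ^ k = 1 from Subtype.ext hgk,
      map_one]
  obtain ⟨i, -, hi⟩ := (Nat.dvd_prime_pow (Fact.out : p.Prime)).1 (orderOf_dvd_of_pow_eq_one hxk)
  have hi0 : i ≠ 0 := fun e => hx1 (orderOf_eq_one_iff.1 (by rw [hi, e, pow_zero]))
  have ho : orderOf (x ^ p ^ (i - 1)) = p := by
    rw [orderOf_pow, hi, Nat.gcd_eq_right (pow_dvd_pow p (by omega)),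
      Nat.pow_div (by omega) (Fact.out : p.Prime).pos, show i - (i - 1) = 1 by omega, pow_one]
  set v : c.A z := ⟨t, d.central.mem_A ht⟩ with hv
  have hfix : ∀ m : ℕ, ((x ^ m : (d.central.actA z).range) : MulAut (c.A z)) v = v := by
    intro m
    induction m with
    | zero => rfl
    | succ m ih =>
      have h1 : (x : MulAut (c.A z)) v = v := Subtype.ext (by
        show g * t * g⁻¹ = t
        rw [hgt.eq, mul_inv_cancel_right])
      rw [pow_succ, Subgroup.coe_mul, MulAut.mul_apply, h1, ih]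
  exact ne_one_of_orderOf_two ht.1 (congrArg Subtype.val ((d.facts z).fpf _ ho v (hfix _)))

/-- The image on `A z` of a `p`-subgroup of the stabilizer is cyclic of order dividing `2ⁿ - 1`. -/
theorem image_facts {z : Ω} {R : Subgroup G} (hR : IsPGroup p R)
    (hRz : R ≤ MulAction.stabilizer G z) :
    (∃ r0 ∈ R, ∀ g ∈ R, ∃ k : ℤ, (r0 ^ k)⁻¹ * g ∈ c.W z) ∧
      Nat.card R ∣ Nat.card ↥(R ⊓ c.W z) * p ^ (2 ^ n - 1).factorization p := by
  set f : R →* (d.central.actA z).range :=
    (d.central.actA z).rangeRestrict.comp (inclusion hRz) with hf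
  have hker : ∀ g : R, f g = 1 ↔ (g : G) ∈ c.W z := fun g => by
    refine Iff.trans ?_ (d.central.actA_eq_one (g := inclusion hRz g) (d.odd_orderOf hR g.2))
    exact ⟨fun h => congrArg Subtype.val h, fun h => Subtype.ext h⟩
  have hcard : Nat.card R = Nat.card ↥(R ⊓ c.W z) * Nat.card f.range := by
    rw [← f.ker.card_mul_index, index_ker]
    congr 1
    rw [← card_map_of_injective R.subtype_injective,
      show f.ker = (c.W z).subgroupOf R from Subgroup.ext fun g => (hker g).trans mem_subgroupOf.symm,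
      subgroupOf_map_subtype, inf_comm]
  have hp := hR.of_surjective f.rangeRestrict f.rangeRestrict_surjective
  have key : IsCyclic f.range ∧ Nat.card f.range ∣ p ^ (2 ^ n - 1).factorization p := by
    rcases eq_or_ne f.range ⊥ with h | h
    · rw [h, card_bot]; exact ⟨inferInstance, one_dvd _⟩
    obtain ⟨j, -, hjo, hjc⟩ := exists_central_orderOf hp le_rfl h le_normalizer
    have hle : f.range ≤ centralizer ({j} : Set (d.central.actA z).range) := fun x hx =>
      mem_centralizer_singleton_iff.2 (hjc x hx).symm.eq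
    haveI := (d.facts z).cent_cyclic j hjo
    refine ⟨Subgroup.isCyclic_of_le hle, ?_⟩
    obtain ⟨i, hi⟩ := IsPGroup.iff_card.1 hp
    have h2 : 2 ^ n - 1 ≠ 0 := by
      have := Nat.one_lt_two_pow (n := n) (by have := d.three_le; omega)
      omega
    rw [hi]
    exact pow_dvd_pow p (((Fact.out : p.Prime).pow_dvd_iff_le_factorization h2).1
      (hi ▸ (card_dvd_of_le hle).trans ((d.facts z).cent_card j hjo)))
  refine ⟨?_, hcard ▸ mul_dvd_mul_left _ key.2⟩
  haveI := key.1
  obtain ⟨⟨_, r0, rfl⟩, hgen⟩ := IsCyclic.exists_generator (α := f.range)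
  refine ⟨r0, r0.2, fun g hg => ?_⟩
  obtain ⟨k, hk⟩ := mem_zpowers_iff.1 (hgen ⟨f ⟨g, hg⟩, ⟨g, hg⟩, rfl⟩)
  refine ⟨k, ?_⟩
  have h1 : f ((r0 ^ k)⁻¹ * ⟨g, hg⟩) = 1 := by
    have hk' : f r0 ^ k = f ⟨g, hg⟩ := congrArg Subtype.val hk
    rw [map_mul, map_inv, map_zpow, hk', inv_mul_cancel]
  have := (hker _).1 h1
  simpa using this

theorem one_le_factorization : 1 ≤ (2 ^ n - 1).factorization p := by
  refine (Fact.out : p.Prime).factorization_pos_of_dvd ?_ d.good.dvd
  have := Nat.one_lt_two_pow (n := n) (by have := d.three_le; omega)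
  omega

/-- A Sylow subgroup of a two-point stabilizer covers the `p`-part of `2ⁿ - 1`. -/
theorem card_dvd_of_pairSylow {z y : Ω} (hzy : z ≠ y) {R : Subgroup G}
    (hR : IsPairSylow p R z y) :
    Nat.card ↥(R ⊓ c.W z) * p ^ (2 ^ n - 1).factorization p ∣ Nat.card R := by
  obtain ⟨t, ht⟩ := c.fix.exists_inv z
  set D := pairStab G z y with hD
  letI : MulAction D (invMap (G := G) z z) := {
    smul := fun g i => ⟨(g : G) * i.1 * (g : G)⁻¹, conj_mem_invMap g.2.1 i.2⟩
    one_smul := fun i => Subtype.ext (by show (1 : G) * i.1 * (1 : G)⁻¹ = i.1; group)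
    mul_smul := fun g g' i => Subtype.ext (by
      show ((g : G) * g') * i.1 * ((g : G) * g')⁻¹ = (g : G) * ((g' : G) * i.1 * (g' : G)⁻¹) * (g : G)⁻¹
      group) }
  set t' : invMap (G := G) z z := ⟨t, ht⟩
  have horb : MulAction.orbit D t' = Set.univ := Set.eq_univ_of_forall fun i => by
    obtain ⟨g, hg, hgi⟩ := exists_conj_fix c.fix hzy ht i.2
    exact ⟨⟨g, hg⟩, Subtype.ext hgi⟩
  have hidx : (MulAction.stabilizer D t').index = 2 ^ n - 1 := by
    rw [Subgroup.index_eq_card, ← Nat.card_congr (MulAction.orbitEquivQuotientStabilizer D t'),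
      horb, Nat.card_congr (Equiv.Set.univ _), d.card_invMap]
  have hle : (R ⊓ c.W z).subgroupOf D ≤ MulAction.stabilizer D t' := fun g hg => by
    refine MulAction.mem_stabilizer_iff.2 (Subtype.ext ?_)
    show (g : G) * t * (g : G)⁻¹ = t
    rw [← (d.central.commute (d.central.mem_A ht) (mem_subgroupOf.1 hg).2).eq, mul_inv_cancel_right]
  have h1 : Nat.card ↥(R ⊓ c.W z) * p ^ (2 ^ n - 1).factorization p ∣ Nat.card D := by
    rw [← (MulAction.stabilizer D t').card_mul_index, hidx,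
      ← Nat.card_congr (subgroupOfEquivOfLe (inf_le_left.trans hR.le : R ⊓ c.W z ≤ D)).toEquiv]
    exact mul_dvd_mul (card_dvd_of_le hle) (Nat.ordProj_dvd _ _)
  obtain ⟨P, hP⟩ := hR.exists_sylow
  have hc' : Nat.card R = p ^ (Nat.card D).factorization p := by
    rw [← P.card_eq_multiplicity, hP, Nat.card_congr (subgroupOfEquivOfLe hR.le).toEquiv]
  obtain ⟨i, hi⟩ := IsPGroup.iff_card.1 (hR.isPGroup.to_le (inf_le_left : R ⊓ c.W z ≤ R))
  rw [hi, ← pow_add] at h1 ⊢
  rw [hc']
  exact pow_dvd_pow p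
    (((Fact.out : p.Prime).pow_dvd_iff_le_factorization Nat.card_pos.ne').1 h1)

theorem exists_not_mem_W {z y : Ω} (hzy : z ≠ y) {R : Subgroup G} (hR : IsPairSylow p R z y) :
    ∃ r ∈ R, r ∉ c.W z := by
  by_contra h
  push Not at h
  have h1 := d.card_dvd_of_pairSylow hzy hR
  rw [show R ⊓ c.W z = R from inf_eq_left.2 h] at h1
  have h2 := Nat.le_of_dvd Nat.card_pos h1
  have h3 := Nat.one_lt_pow (n := (2 ^ n - 1).factorization p)
    (by have := d.one_le_factorization; omega) (Fact.out : p.Prime).one_lt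
  have h4 := Nat.card_pos (α := R)
  nlinarith

end GoodData

/-- A Sylow subgroup of `G` fixing exactly two points, not inside the `W` of the first. -/
structure IsFull (c : Ctx G Ω) (p : ℕ) (R : Subgroup G) (z b : Ω) : Prop where
  isPGroup : IsPGroup p R
  ne : b ≠ z
  fixSet_eq : fixSet (Ω := Ω) R = {z, b}
  max : ∀ P : Subgroup G, IsPGroup p P → R ≤ P → P = R

theorem IsFull.le_pairStab {p : ℕ} {R : Subgroup G} {z b : Ω} (h : IsFull c p R z b) :
    R ≤ pairStab G z b :=
  le_pairStab_of_mem (h.fixSet_eq.symm ▸ Or.inl rfl) (h.fixSet_eq.symm ▸ Or.inr rfl)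

theorem IsFull.isPairSylow {p : ℕ} {R : Subgroup G} {z b : Ω} (h : IsFull c p R z b) :
    IsPairSylow p R z b :=
  ⟨h.isPGroup, h.le_pairStab, fun P hP _ hRP => h.max P hP hRP⟩

namespace GoodData

variable [IsSimpleGroup G] {n p : ℕ} [Fact p.Prime] (d : c.GoodData n p)
include d

/-- Sylow subgroups of two-point stabilizers lie in full ones. -/
theorem exists_isFull {z y : Ω} (hzy : z ≠ y) {R0 : Subgroup G} (hR0 : IsPairSylow p R0 z y) :
    ∃ R b, R0 ≤ R ∧ IsFull c p R z b := by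
  obtain ⟨R, hR0R, hR⟩ := exists_isMaxPair hR0.isPGroup hzy.symm hR0.le
  obtain ⟨r, hr, hrW⟩ := d.exists_not_mem_W hzy hR0
  have hRodd : Odd (Nat.card R) := by
    obtain ⟨e, he⟩ := IsPGroup.iff_card.1 hR.isPGroup
    rw [he]; exact d.p_odd.pow
  have hout : ¬ Inside R z := by
    rintro ⟨i, hiN, hi⟩
    exact hrW (d.mem_W_of_commute_invol hR.isPGroup (hR0R hr) hi
      (d.central.commute_of_normalizes hRodd (fun g hg => hR.mem_fixSet g hg) hi hiN (hR0R hr)).symm)
  have hp2 : p ≠ 2 := fun e => by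
    have h := d.p_odd
    rw [e] at h
    exact absurd h (by decide)
  obtain ⟨b, hb, hfix, hmax⟩ := hR.outside c.fix hp2 hout
  refine ⟨R, b, hR0R, hR.isPGroup, hb, hfix, fun P hP hRP => ?_⟩
  by_contra hne
  haveI : Group.IsNilpotent P := hP.isNilpotent
  obtain ⟨⟨x, hxP⟩, hxN, hxR⟩ := SetLike.exists_of_lt (Group.normalizerCondition_of_isNilpotent (G := P)
    (R.subgroupOf P) (lt_top_iff_ne_top.2 fun e =>
      hne (le_antisymm (Subgroup.subgroupOf_eq_top.1 e) hRP)))
  have hxN' : x ∈ normalizer (R : Set G) := by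
    have hle : R.map (MulAut.conj x).toMonoidHom ≤ R := by
      rintro _ ⟨g, hg, rfl⟩
      exact (mem_normalizer_iff.1 hxN ⟨g, hRP hg⟩).1 hg
    exact mem_normalizer_iff_map_conj_eq.2
      (eq_of_le_of_card_ge hle (card_map_of_injective (MulAut.conj x).injective).ge)
  have hxz : x • z = z := by
    by_contra hxz
    have h1 : ∀ w : Ω, w = z ∨ w = b → x • w = z ∨ x • w = b := fun w hw => by
      have h := smul_mem_fixSet hxN'
        (show w ∈ fixSet (Ω := Ω) R by rw [hfix]; exact hw)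
      rw [hfix] at h
      exact h
    have hxb : x • z = b := (h1 z (Or.inl rfl)).resolve_left hxz
    have hbx : x • b = z := (h1 b (Or.inr rfl)).resolve_right fun e =>
      hb (smul_left_cancel x (e.trans hxb.symm))
    have h2 : x ^ 2 ∈ MulAction.stabilizer G z := by
      show x ^ 2 • z = z
      rw [sq, mul_smul, hxb, hbx]
    obtain ⟨k, hk⟩ := d.odd_orderOf hP hxP
    have h3 : x ^ (2 * k + 1) = 1 := hk ▸ pow_orderOf_eq_one x
    rw [pow_succ, pow_mul] at h3
    exact hxz (show x ∈ MulAction.stabilizer G z by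
      rw [eq_inv_of_mul_eq_one_right h3]; exact inv_mem (pow_mem h2 k))
  have hsup : R ⊔ zpowers x = R := hmax _ (hP.to_le (sup_le hRP (zpowers_le.2 hxP))) le_sup_left
    (sup_le (fun g hg => hR.mem_fixSet g hg) (zpowers_le.2 hxz))
  exact hxR (mem_subgroupOf.2 (hsup ▸ mem_sup_right (mem_zpowers x) : x ∈ R))

omit d in
theorem exists_sylow {z b : Ω} {R : Subgroup G} (hR : IsFull c p R z b) :
    ∃ P : Sylow p G, (P : Subgroup G) = R :=
  ⟨⟨R, hR.isPGroup, fun {Q} hQ hle => hR.max Q hQ hle⟩, rfl⟩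

omit d in
/-- Fusion in the centre of a Sylow subgroup (Burnside). -/
theorem exists_normalizer_conj {z b : Ω} {R : Subgroup G} (hR : IsFull c p R z b)
    (hab : ∀ x ∈ R, ∀ x' ∈ R, x * x' = x' * x) {x g : G} (hx : x ∈ R) (hgx : g * x * g⁻¹ ∈ R) :
    ∃ m ∈ normalizer (R : Set G), m * x * m⁻¹ = g * x * g⁻¹ := by
  obtain ⟨P, rfl⟩ := exists_sylow hR
  haveI : IsMulCommutative (P : Subgroup G) := ⟨⟨fun a b => Subtype.ext (hab a a.2 b b.2)⟩⟩
  obtain ⟨m, hm, he⟩ := P.conj_eq_normalizer_conj_of_mem x g⁻¹ hx (by rwa [inv_inv])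
  refine ⟨m⁻¹, inv_mem hm, ?_⟩
  rw [inv_inv] at he ⊢
  exact he.symm

end GoodData
end Ctx
end CfsgLib.AbelSolvCent
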