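import Cfsg.Agent.PLocal.PSolvable
import Cfsg.Agent.PLocal.Cores
import Cfsg.Agent.GW.CoprimeFitting

/-!
# Solvable groups with an abelian Sylow 2-subgroup

In a solvable group with abelian Sylow 2-subgroup `S`, every odd subgroup normalized by `Ω₁(S)`
lies in the odd core.
-/

set_option autoImplicit false
set_option linter.style.haveILetI false

namespace CfsgLib.AbelSolvCent

open Subgroup

variable {H : Type*} [Group H] [Finite H]

/-- With trivial odd core an abelian Sylow 2-subgroup is normal and self-centralizing. -/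
theorem normal_sylow_of_pPrimeCore_eq_bot [Group.IsSolvable H] (hO : Cfsg.pPrimeCore 2 H = ⊥)
    (S : Sylow 2 H) (hS : IsMulCommutative (S : Subgroup H)) :
    (S : Subgroup H).Normal ∧ centralizer ((S : Subgroup H) : Set H) ≤ (S : Subgroup H) := by
  haveI : Fact (Nat.Prime 2) := ⟨Nat.prime_two⟩
  have hc := CfsgLib.PLocal.centralizer_pCore_le
    (CfsgLib.PLocal.isPSolvable_of_isSolvable (p := 2) (G := H)) hO
  have hP : Cfsg.pCore 2 H ≤ (S : Subgroup H) := CfsgLib.PLocal.pCore_le_sylow S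
  have hSP : (S : Subgroup H) ≤ Cfsg.pCore 2 H := fun s hs => hc
    (mem_centralizer_iff.2 fun x hx =>
      congrArg Subtype.val (mul_comm' (⟨x, hP hx⟩ : (S : Subgroup H)) ⟨s, hs⟩))
  have he : Cfsg.pCore 2 H = (S : Subgroup H) := le_antisymm hP hSP
  exact ⟨he ▸ inferInstance, he ▸ hc⟩

/-- An odd subgroup normalized by the involutions of an abelian Sylow 2-subgroup of a solvable
group lies in the odd core. -/
theorem le_pPrimeCore_of_abelian_sylow [Group.IsSolvable H] (S : Sylow 2 H)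
    (hS : IsMulCommutative (S : Subgroup H)) {X : Subgroup H} (hX : Odd (Nat.card X))
    (hinv : ∀ s ∈ (S : Subgroup H), s * s = 1 → s ∈ normalizer (X : Set H)) :
    X ≤ Cfsg.pPrimeCore 2 H := by
  haveI : Fact (Nat.Prime 2) := ⟨Nat.prime_two⟩
  set O := Cfsg.pPrimeCore 2 H with hOdef
  set f := QuotientGroup.mk' O with hf
  have hOodd : Odd (Nat.card O) :=
    Nat.coprime_two_right.1 (CfsgLib.PLocal.coprime_card_pPrimeCore 2 H)
  set S' : Sylow 2 (H ⧸ O) := S.mapSurjective (QuotientGroup.mk'_surjective O) with hS'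
  have hS'c : (S' : Subgroup (H ⧸ O)) = (S : Subgroup H).map f := Sylow.coe_mapSurjective _ S
  have hS'ab : IsMulCommutative (S' : Subgroup (H ⧸ O)) := by
    rw [hS'c]; exact inferInstance
  obtain ⟨hN, hC⟩ := normal_sylow_of_pPrimeCore_eq_bot
    (CfsgLib.PLocal.pPrimeCore_quotient_pPrimeCore_eq_bot 2 H) S' hS'ab
  intro x hx
  rw [← QuotientGroup.eq_one_iff]
  have hodd : Odd (Nat.card (X.map f)) :=
    Odd.of_dvd_nat hX (card_map_dvd X f)
  have hdisj : X.map f ⊓ (S' : Subgroup (H ⧸ O)) = ⊥ :=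
    inf_eq_bot_of_coprime (by
      obtain ⟨n, hn⟩ := IsPGroup.iff_card.1 S'.isPGroup'
      rw [hn]; exact (Nat.coprime_two_right.2 hodd).pow_right n)
  have hfx : f x ∈ X.map f := ⟨x, hx, rfl⟩
  have hinj : ∀ s ∈ (S : Subgroup H), f s = 1 → s = 1 := fun s hs h => by
    have hd : (S : Subgroup H) ⊓ O = ⊥ := inf_eq_bot_of_coprime (by
      obtain ⟨n, hn⟩ := IsPGroup.iff_card.1 S.isPGroup'
      rw [hn]; exact (Nat.coprime_two_left.2 hOodd).pow_left n)
    exact mem_bot.1 (hd ▸ ⟨hs, (QuotientGroup.eq_one_iff s).1 h⟩)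
  have homega : ∀ w ∈ (S' : Subgroup (H ⧸ O)), w ^ 2 = 1 → f x * w = w * f x := by
    intro w hw hw2
    rw [hS'c] at hw
    obtain ⟨s, hs, rfl⟩ := hw
    have hs2 : s * s = 1 := hinj _ (mul_mem hs hs) (by rw [map_mul, ← sq, hw2])
    have hsn : f s ∈ normalizer ((X.map f : Subgroup (H ⧸ O)) : Set (H ⧸ O)) :=
      le_normalizer_map f ⟨s, hinv s hs hs2, rfl⟩
    have h1 : f x * f s * (f x)⁻¹ * (f s)⁻¹ ∈ X.map f := by
      rw [mul_assoc, mul_assoc]
      exact mul_mem hfx (by rw [← mul_assoc]; exact (mem_normalizer_iff.1 hsn _).1 (inv_mem hfx))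
    have h2 : f x * f s * (f x)⁻¹ * (f s)⁻¹ ∈ (S' : Subgroup (H ⧸ O)) :=
      mul_mem (hN.conj_mem _ (hS'c ▸ ⟨s, hs, rfl⟩) _) (inv_mem (hS'c ▸ ⟨s, hs, rfl⟩))
    have h3 : f x * f s * (f x)⁻¹ * (f s)⁻¹ ∈ X.map f ⊓ (S' : Subgroup (H ⧸ O)) := ⟨h1, h2⟩
    rw [hdisj, mem_bot] at h3
    exact mul_inv_eq_iff_eq_mul.1 (mul_inv_eq_one.1 h3)
  have hcop : (orderOf (f x)).Coprime 2 := Nat.coprime_two_right.2
    (Odd.of_dvd_nat hodd (Subgroup.orderOf_dvd_natCard _ hfx))
  have hcomm := CfsgLib.GW.commute_of_omega S'.isPGroup'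
    (fun v hv w hw => congrArg Subtype.val (mul_comm' (⟨v, hv⟩ : (S' : Subgroup (H ⧸ O))) ⟨w, hw⟩))
    (normalizer_eq_top (H := (S' : Subgroup (H ⧸ O))) ▸ mem_top (f x)) hcop homega
  have hfS : f x ∈ (S' : Subgroup (H ⧸ O)) := hC (mem_centralizer_iff.2 fun w hw => (hcomm w hw).symm)
  have h4 : f x ∈ X.map f ⊓ (S' : Subgroup (H ⧸ O)) := ⟨hfx, hfS⟩
  rwa [hdisj, mem_bot] at h4

/-- Frattini argument: the normalizer of an abelian Sylow 2-subgroup covers `H / O(H)`. -/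
theorem normalizer_sup_pPrimeCore [Group.IsSolvable H] (S : Sylow 2 H)
    (hS : IsMulCommutative (S : Subgroup H)) :
    normalizer ((S : Subgroup H) : Set H) ⊔ Cfsg.pPrimeCore 2 H = ⊤ := by
  haveI : Fact (Nat.Prime 2) := ⟨Nat.prime_two⟩
  set O := Cfsg.pPrimeCore 2 H with hO
  set S' : Sylow 2 (H ⧸ O) := S.mapSurjective (QuotientGroup.mk'_surjective O) with hS'
  have hS'c : (S' : Subgroup (H ⧸ O)) = (S : Subgroup H).map (QuotientGroup.mk' O) :=
    Sylow.coe_mapSurjective _ S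
  have hS'ab : IsMulCommutative (S' : Subgroup (H ⧸ O)) := by
    rw [hS'c]; exact inferInstance
  haveI := (normal_sylow_of_pPrimeCore_eq_bot
    (CfsgLib.PLocal.pPrimeCore_quotient_pPrimeCore_eq_bot 2 H) S' hS'ab).1
  set N : Subgroup H := (S' : Subgroup (H ⧸ O)).comap (QuotientGroup.mk' O) with hN
  have hNe : N = (S : Subgroup H) ⊔ O := by
    rw [hN, hS'c, Subgroup.comap_map_eq, QuotientGroup.ker_mk']
  have hSN : (S : Subgroup H) ≤ N := hNe ▸ le_sup_left
  haveI : N.Normal := inferInstance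
  have h := Sylow.normalizer_sup_eq_top' S hSN
  refine top_unique (h ▸ sup_le le_sup_left ?_)
  rw [hNe]
  exact sup_le (le_normalizer.trans le_sup_left) le_sup_right

/-- The same for a subgroup of a group. -/
theorem le_pPrimeCore_map {G : Type*} [Group G] [Finite G] {L : Subgroup G}
    (hL : Group.IsSolvable L) (S : Subgroup G) (hSL : S ≤ L) (hS : IsMulCommutative S)
    (hSyl : ∀ P : Subgroup G, IsPGroup 2 P → S ≤ P → P ≤ L → P = S) (hS2 : IsPGroup 2 S)
    {X : Subgroup G} (hXL : X ≤ L) (hX : Odd (Nat.card X))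
    (hinv : ∀ s ∈ S, s * s = 1 → s ∈ normalizer (X : Set G)) :
    X ≤ (Cfsg.pPrimeCore 2 L).map L.subtype := by
  haveI : Fact (Nat.Prime 2) := ⟨Nat.prime_two⟩
  obtain ⟨P, hP⟩ := (hS2.comap_subtype : IsPGroup 2 (S.subgroupOf L)).exists_le_sylow
  have hPS : (P : Subgroup L).map L.subtype = S := hSyl _ (P.isPGroup'.map _)
    (fun s hs => ⟨⟨s, hSL hs⟩, hP hs, rfl⟩) (map_subtype_le _)
  have hc : ∀ a ∈ S, ∀ b ∈ S, a * b = b * a := fun a ha b hb =>
    congrArg Subtype.val (mul_comm' (⟨a, ha⟩ : S) ⟨b, hb⟩)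
  have hmem : ∀ a : (P : Subgroup L), ((a : L) : G) ∈ S := fun a => hPS ▸ ⟨a.1, a.2, rfl⟩
  have hPab : IsMulCommutative (P : Subgroup L) :=
    ⟨⟨fun a b => Subtype.ext (Subtype.ext (hc _ (hmem a) _ (hmem b)))⟩⟩
  have h := le_pPrimeCore_of_abelian_sylow P hPab (X := X.subgroupOf L)
    (by rwa [Nat.card_congr (subgroupOfEquivOfLe hXL).toEquiv])
    (fun s hs hs2 => by
      refine le_normalizer_comap L.subtype (hinv _ (hPS ▸ ⟨s, hs, rfl⟩) ?_)
      exact congrArg Subtype.val hs2)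
  intro x hx
  exact ⟨⟨x, hXL hx⟩, h hx, rfl⟩

end CfsgLib.AbelSolvCent
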