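import Cfsg.Agent.AbelSolvCent.Ctx
import Cfsg.Agent.Solvable.Frattini
import Cfsg.Agent.Components.FStar

/-!
# Counting the involutions at a point

`Ctx.exists_order_fixing`: if an `r`-subgroup `P` of `W z` normalized by the stabilizer of `z` is not
centralized by `A z`, then every further point is fixed by an element of order `r` of `W z`.  Otherwise
the transitivity of the two-point stabilizer on the involutions at `z` bounds the `r`-part of the
class of `a ∈ A z` in `W z` by `n`, but the fixed points of the involutions on the Frattini quotient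
of `P` make it at least `r ^ (2 ^ (n - 1))`.
-/

set_option autoImplicit false
set_option linter.style.haveILetI false
set_option linter.unusedSectionVars false

namespace CfsgLib.AbelSolvCent

open Subgroup CfsgLib.SEmbed
open scoped commutatorElement

universe u v

/-! ### Involutions on an abelian group of odd order -/

section Formula

variable {X : Type*} [Group X] [Finite X]

theorem card_inf_mul_relIndex (C V : Subgroup X) :
    Nat.card ↥(V ⊓ C) * C.relIndex V = Nat.card V := by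
  have h := card_mul_index (C.subgroupOf V)
  rw [← inf_relIndex_right C V]
  rw [← inf_subgroupOf_right C V, Nat.card_congr (subgroupOfEquivOfLe inf_le_right).toEquiv] at h
  rwa [inf_comm V C]

/-- The elements of `V` inverted by `a`. -/
def invPart (V : Subgroup X) (hab : ∀ x ∈ V, ∀ y ∈ V, x * y = y * x) (a : X) : Subgroup X where
  carrier := {x | x ∈ V ∧ a * x * a⁻¹ = x⁻¹}
  one_mem' := ⟨one_mem V, by simp⟩
  mul_mem' := fun {x y} hx hy => ⟨mul_mem hx.1 hy.1, by
    rw [mul_inv_rev, show a * (x * y) * a⁻¹ = a * x * a⁻¹ * (a * y * a⁻¹) by group, hx.2, hy.2]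
    exact hab _ (inv_mem hx.1) _ (inv_mem hy.1)⟩
  inv_mem' := fun {x} hx => ⟨inv_mem hx.1, by
    rw [show a * x⁻¹ * a⁻¹ = (a * x * a⁻¹)⁻¹ by group, hx.2]⟩

theorem mem_invPart {V : Subgroup X} {hab : ∀ x ∈ V, ∀ y ∈ V, x * y = y * x} {a x : X} :
    x ∈ invPart V hab a ↔ x ∈ V ∧ a * x * a⁻¹ = x⁻¹ := Iff.rfl

theorem card_split {V : Subgroup X} (hab : ∀ x ∈ V, ∀ y ∈ V, x * y = y * x)
    (hodd : Odd (Nat.card V)) {a : X} (ha : a * a = 1) (haV : ∀ x ∈ V, a * x * a⁻¹ ∈ V) :
    Nat.card ↥(V ⊓ centralizer ({a} : Set X)) * Nat.card (invPart V hab a) = Nat.card V := by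
  let φ : V →* X := MonoidHom.mk' (fun x => (x : X) * (a * x * a⁻¹)) fun x y => by
    show (x : X) * y * (a * ((x : X) * y) * a⁻¹) = _
    calc (x : X) * y * (a * ((x : X) * y) * a⁻¹)
        = (x : X) * ((y : X) * (a * x * a⁻¹)) * (a * y * a⁻¹) := by group
      _ = _ := by rw [hab _ y.2 _ (haV _ x.2)]; group
  have hφ : ∀ x : V, φ x = (x : X) * (a * x * a⁻¹) := fun x => rfl
  have hrange : φ.range = V ⊓ centralizer ({a} : Set X) := by
    ext y
    constructor
    · rintro ⟨x, rfl⟩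
      refine ⟨mul_mem x.2 (haV _ x.2), mem_centralizer_singleton_iff.2 ?_⟩
      rw [hφ]
      calc (x : X) * (a * x * a⁻¹) * a = (x : X) * a * x := by group
        _ = (a * a) * x * a⁻¹ * a * (a * x) := by rw [ha]; group
        _ = a * ((a * x * a⁻¹) * ((a * a) * x * (a * a)⁻¹)) * (a * a) := by group
        _ = a * (a * x * a⁻¹ * x) := by rw [ha]; group
        _ = a * ((x : X) * (a * x * a⁻¹)) := by rw [hab _ (haV _ x.2) _ x.2]
    · rintro ⟨hy, hya⟩
      obtain ⟨j, hj⟩ := exists_pow_eq_self_of_coprime (x := y)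
        (Nat.coprime_two_left.2 (hodd.of_dvd_nat (V.orderOf_dvd_natCard hy)))
      refine ⟨⟨y ^ j, pow_mem hy j⟩, ?_⟩
      rw [hφ]
      show y ^ j * (a * y ^ j * a⁻¹) = y
      have hc : Commute y a := mem_centralizer_singleton_iff.1 hya
      rw [(hc.pow_left j).symm.eq, mul_inv_cancel_right, ← pow_add, ← two_mul, pow_mul]
      exact hj
  have hker : Nat.card φ.ker = Nat.card (invPart V hab a) :=
    Nat.card_congr
      { toFun := fun x => ⟨(x : V), (x : V).2, eq_inv_of_mul_eq_one_right x.2⟩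
        invFun := fun x => ⟨⟨x, x.2.1⟩, by
          show (x : X) * (a * x * a⁻¹) = 1
          rw [x.2.2, mul_inv_cancel]⟩
        left_inv := fun x => rfl
        right_inv := fun x => rfl }
  rw [← hrange, ← Subgroup.index_ker, ← hker, mul_comm, card_mul_index]

/-- The order formula for two commuting involutions. -/
theorem card_four {V : Subgroup X} (hab : ∀ x ∈ V, ∀ y ∈ V, x * y = y * x)
    (hodd : Odd (Nat.card V)) {a b : X} (ha : a * a = 1) (hb : b * b = 1) (hc : Commute a b)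
    (haV : ∀ x ∈ V, a * x * a⁻¹ ∈ V) (hbV : ∀ x ∈ V, b * x * b⁻¹ ∈ V) :
    Nat.card ↥(V ⊓ centralizer ({a} : Set X)) * Nat.card ↥(V ⊓ centralizer ({b} : Set X)) *
        Nat.card ↥(V ⊓ centralizer ({a * b} : Set X)) =
      Nat.card V * Nat.card ↥(V ⊓ centralizer ({a} : Set X) ⊓ centralizer ({b} : Set X)) ^ 2 := by
  have habb : a * b * (a * b) = 1 := by
    rw [mul_assoc, ← mul_assoc b, hc.symm.eq, mul_assoc a b, hb, mul_one, ha]
  have hcc : Commute a (a * b) := (Commute.refl a).mul_right hc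
  have sub : ∀ {W : Subgroup X}, W ≤ V → ∀ x ∈ W, ∀ y ∈ W, x * y = y * x :=
    fun hW x hx y hy => hab x (hW hx) y (hW hy)
  have oddW : ∀ {W : Subgroup X}, W ≤ V → Odd (Nat.card W) :=
    fun hW => hodd.of_dvd_nat (card_dvd_of_le hW)
  have conjC : ∀ {g h x : X}, Commute g h → x ∈ centralizer ({h} : Set X) →
      g * x * g⁻¹ ∈ centralizer ({h} : Set X) := by
    intro g h x hgh hx
    refine mem_centralizer_singleton_iff.2 ?_
    have hx' : Commute x h := mem_centralizer_singleton_iff.1 hx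
    exact ((hgh.mul_left hx').mul_left hgh.inv_left).eq
  -- split the centralizers of `b` and `a b` by `a`, and the inverted part of `a` by `b`
  have hB := card_split (sub (W := V ⊓ centralizer ({b} : Set X)) inf_le_left) (oddW inf_le_left) ha
    fun x hx => ⟨haV x hx.1, conjC hc hx.2⟩
  have hAB := card_split (sub (W := V ⊓ centralizer ({a * b} : Set X)) inf_le_left)
    (oddW inf_le_left) ha fun x hx => ⟨haV x hx.1, conjC hcc hx.2⟩
  have hI : ∀ x ∈ invPart V hab a, b * x * b⁻¹ ∈ invPart V hab a := fun x hx =>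
    ⟨hbV x hx.1, by
      calc a * (b * x * b⁻¹) * a⁻¹ = (a * b) * x * (a * b)⁻¹ := by group
        _ = b * (a * x * a⁻¹) * b⁻¹ := by rw [hc.eq]; group
        _ = _ := by rw [hx.2]; group⟩
  have hIb := card_split (sub (W := invPart V hab a) fun _ h => h.1) (oddW fun _ h => h.1) hb hI
  have hA := card_split hab hodd ha haV
  have e1 : V ⊓ centralizer ({b} : Set X) ⊓ centralizer ({a} : Set X) =
      V ⊓ centralizer ({a} : Set X) ⊓ centralizer ({b} : Set X) := inf_right_comm _ _ _
  have e2 : V ⊓ centralizer ({a * b} : Set X) ⊓ centralizer ({a} : Set X) =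
      V ⊓ centralizer ({a} : Set X) ⊓ centralizer ({b} : Set X) := by
    ext x
    refine ⟨fun ⟨⟨hx, hxab⟩, hxa⟩ => ⟨⟨hx, hxa⟩, ?_⟩, fun ⟨⟨hx, hxa⟩, hxb⟩ => ⟨⟨hx, ?_⟩, hxa⟩⟩
    · have h1 : Commute x a := mem_centralizer_singleton_iff.1 hxa
      have h2 : Commute x (a * b) := mem_centralizer_singleton_iff.1 hxab
      have h3 := h1.inv_right.mul_right h2
      rw [inv_mul_cancel_left] at h3
      exact mem_centralizer_singleton_iff.2 h3.eq
    · exact mem_centralizer_singleton_iff.2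
        ((show Commute x a from mem_centralizer_singleton_iff.1 hxa).mul_right
          (mem_centralizer_singleton_iff.1 hxb)).eq
  have e3 : invPart (V ⊓ centralizer ({b} : Set X)) (sub inf_le_left) a =
      invPart V hab a ⊓ centralizer ({b} : Set X) := by
    ext x
    exact ⟨fun ⟨⟨h1, h2⟩, h3⟩ => ⟨⟨h1, h3⟩, h2⟩, fun ⟨⟨h1, h3⟩, h2⟩ => ⟨⟨h1, h2⟩, h3⟩⟩
  have e4 : invPart (V ⊓ centralizer ({a * b} : Set X)) (sub inf_le_left) a =
      invPart (invPart V hab a) (sub fun _ h => h.1) b := by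
    ext x
    constructor
    · rintro ⟨⟨h1, h2⟩, h3⟩
      refine ⟨⟨h1, h3⟩, ?_⟩
      have h4 : a * b * x * (a * b)⁻¹ = x :=
        mul_inv_eq_iff_eq_mul.2 (mem_centralizer_singleton_iff.1 h2).symm
      calc b * x * b⁻¹ = a⁻¹ * (a * b * x * (a * b)⁻¹) * a := by group
        _ = a⁻¹ * x * a := by rw [h4]
        _ = a * x * a⁻¹ := by rw [inv_eq_of_mul_eq_one_right ha]
        _ = x⁻¹ := h3
    · rintro ⟨⟨h1, h3⟩, h2⟩
      refine ⟨⟨h1, mem_centralizer_singleton_iff.2 (mul_inv_eq_iff_eq_mul.1 ?_).symm⟩, h3⟩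
      calc a * b * x * (a * b)⁻¹ = a * (b * x * b⁻¹) * a⁻¹ := by group
        _ = (a * x * a⁻¹)⁻¹ := by rw [h2]; group
        _ = x := by rw [h3, inv_inv]
  rw [e1, e3] at hB
  rw [e2, e4] at hAB
  rw [← hA, ← hIb, ← hB, ← hAB]
  ring

/-- The product formula for an elementary abelian 2-group. -/
theorem prod_card_centralizer [Fintype X] [DecidableEq X] (B V : Subgroup X)
    [DecidablePred (· ∈ B)] (hab : ∀ x ∈ V, ∀ y ∈ V, x * y = y * x) (hodd : Odd (Nat.card V))
    (hB2 : ∀ b ∈ B, b * b = 1) (hBV : ∀ b ∈ B, ∀ x ∈ V, b * x * b⁻¹ ∈ V) :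
    ∏ b ∈ Finset.univ.filter (· ∈ B), Nat.card ↥(V ⊓ centralizer ({b} : Set X)) ^ 2 =
      (Nat.card V * Nat.card ↥(V ⊓ centralizer (B : Set X))) ^ Nat.card B := by
  classical
  induction hn : Nat.card B using Nat.strong_induction_on generalizing B V with
  | _ n ih =>
  subst hn
  have hcomm : ∀ x ∈ B, ∀ y ∈ B, Commute x y := fun x hx y hy => by
    have h := hB2 _ (mul_mem hx hy)
    have h' := inv_eq_of_mul_eq_one_right h
    rw [mul_inv_rev, inv_eq_of_mul_eq_one_right (hB2 x hx),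
      inv_eq_of_mul_eq_one_right (hB2 y hy)] at h'
    exact h'.symm
  rcases B.bot_or_exists_ne_one with rfl | ⟨a, ha, ha1⟩
  · have hf : Finset.univ.filter (· ∈ (⊥ : Subgroup X)) = {1} := by ext; simp [mem_bot]
    rw [hf, Finset.prod_singleton, Subgroup.card_bot, pow_one, sq]
    have h1 : centralizer ({1} : Set X) = ⊤ := (eq_top_iff' _).2 fun x =>
      mem_centralizer_singleton_iff.2 (by rw [one_mul, mul_one])
    have h2 : centralizer ((⊥ : Subgroup X) : Set X) = ⊤ := (eq_top_iff' _).2 fun x =>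
      mem_centralizer_iff.2 fun y hy => by rw [mem_bot.1 hy, one_mul, mul_one]
    rw [h1, h2, inf_top_eq]
  obtain ⟨C, ⟨hCB, haC⟩, hmax⟩ := Set.Finite.exists_maximal (s := {C : Subgroup X | C ≤ B ∧ a ∉ C})
    (Set.toFinite _) ⟨⊥, bot_le, fun h => ha1 (mem_bot.1 h)⟩
  have haV := hBV a ha
  have hout : ∀ x ∈ B, x ∉ C → a * x ∈ C := by
    intro x hx hxC
    have hax : a ∈ C ⊔ zpowers x := by
      by_contra h
      exact hxC (hmax ⟨sup_le hCB (zpowers_le.2 hx), h⟩ le_sup_left
        (mem_sup_right (mem_zpowers x)))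
    have hle : zpowers x ≤ normalizer (C : Set X) := by
      refine zpowers_le.2 (centralizer_le_normalizer _ (mem_centralizer_iff.2 fun y hy => ?_))
      exact hcomm y (hCB hy) x hx
    have hm : a ∈ ((C ⊔ zpowers x : Subgroup X) : Set X) := hax
    rw [coe_mul_of_right_le_normalizer_left _ _ hle] at hm
    obtain ⟨c, hc, w, hw, hcw⟩ := hm
    change c * w = a at hcw
    obtain ⟨k, rfl⟩ := mem_zpowers_iff.1 hw
    have hxx : x ^ k = 1 ∨ x ^ k = x := by
      have h2 : x ^ (2 : ℤ) = 1 := by rw [show (2 : ℤ) = ((2 : ℕ) : ℤ) from rfl, zpow_natCast, sq, hB2 x hx]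
      rcases Int.even_or_odd k with ⟨j, rfl⟩ | ⟨j, rfl⟩
      · left; rw [← two_mul, zpow_mul, h2, one_zpow]
      · right; rw [zpow_add, zpow_mul, h2, one_zpow, one_mul, zpow_one]
    rcases hxx with h | h <;> rw [h] at hcw
    · rw [mul_one] at hcw
      exact absurd (hcw ▸ hc) haC
    · rw [← hcw, mul_assoc, hB2 x hx, mul_one]
      exact hc
  set F := Finset.univ.filter (· ∈ B) with hF
  set E := Finset.univ.filter (· ∈ C) with hE
  have hsplit : F = E ∪ E.image (a * ·) := by
    ext x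
    simp only [hF, hE, Finset.mem_filter, Finset.mem_univ, true_and, Finset.mem_union,
      Finset.mem_image]
    constructor
    · intro hx
      by_cases hxC : x ∈ C
      · exact Or.inl hxC
      · exact Or.inr ⟨a * x, hout x hx hxC, by rw [← mul_assoc, hB2 a ha, one_mul]⟩
    · rintro (h | ⟨y, hy, rfl⟩)
      exacts [hCB h, mul_mem ha (hCB hy)]
  have hdisj : Disjoint E (E.image (a * ·)) := by
    rw [Finset.disjoint_left]
    intro x hx hx'
    simp only [hE, Finset.mem_filter, Finset.mem_univ, true_and, Finset.mem_image] at hx hx'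
    obtain ⟨y, hy, rfl⟩ := hx'
    exact haC (by simpa using mul_mem hx (inv_mem hy))
  have hcardE : E.card = Nat.card C := by
    rw [Nat.card_eq_fintype_card, Fintype.card_subtype]
  have hcardB : Nat.card B = Nat.card C + Nat.card C := by
    rw [← hcardE, Nat.card_eq_fintype_card, Fintype.card_subtype]
    show F.card = _
    rw [hsplit, Finset.card_union_of_disjoint hdisj,
      Finset.card_image_of_injective _ (mul_right_injective a)]
  set U := V ⊓ centralizer ({a} : Set X) with hU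
  have hCU : ∀ b ∈ C, ∀ x ∈ U, b * x * b⁻¹ ∈ U := fun b hb x hx =>
    ⟨hBV b (hCB hb) x hx.1, mem_centralizer_singleton_iff.2
      (((hcomm b (hCB hb) a ha).mul_left (mem_centralizer_singleton_iff.1 hx.2)).mul_left
        (hcomm b (hCB hb) a ha).inv_left).eq⟩
  have hIH := ih (Nat.card C) (by rw [hcardB]; have := Nat.card_pos (α := C); omega) C U
    (fun x hx y hy => hab x hx.1 y hy.1) (hodd.of_dvd_nat (card_dvd_of_le inf_le_left))
    (fun b hb => hB2 b (hCB hb)) hCU rfl
  rw [← hE] at hIH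
  have hUC : U ⊓ centralizer (C : Set X) = V ⊓ centralizer (B : Set X) := by
    refine le_antisymm (fun x ⟨⟨hx, hxa⟩, hxC⟩ => ⟨hx, mem_centralizer_iff.2 fun b hb => ?_⟩)
      (fun x ⟨hx, hxB⟩ => ⟨⟨hx, centralizer_le (Set.singleton_subset_iff.2 ha) hxB⟩,
        centralizer_le hCB hxB⟩)
    by_cases hbC : b ∈ C
    · exact mem_centralizer_iff.1 hxC b hbC
    · have hb' := hout b hb hbC
      have h1 : Commute a x := (mem_centralizer_singleton_iff.1 hxa).symm
      have h2 : Commute (a * b) x := mem_centralizer_iff.1 hxC _ hb'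
      have h3 := h1.mul_left h2
      rw [← mul_assoc, hB2 a ha, one_mul] at h3
      exact h3.eq
  rw [hUC] at hIH
  set cA := Nat.card ↥(V ⊓ centralizer (B : Set X)) with hcA
  have hfour : ∀ x ∈ E, Nat.card U ^ 2 *
      (Nat.card ↥(V ⊓ centralizer ({x} : Set X)) ^ 2 *
        Nat.card ↥(V ⊓ centralizer ({a * x} : Set X)) ^ 2) =
      Nat.card V ^ 2 * (Nat.card ↥(U ⊓ centralizer ({x} : Set X)) ^ 2) ^ 2 := by
    intro x hx
    simp only [hE, Finset.mem_filter, Finset.mem_univ, true_and] at hx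
    rw [← mul_pow, ← mul_pow, ← mul_assoc, card_four hab hodd (hB2 a ha) (hB2 x (hCB hx))
      (hcomm a ha x (hCB hx)) haV (hBV x (hCB hx)), mul_pow]
  have hprod := Finset.prod_congr rfl hfour
  rw [Finset.prod_mul_distrib, Finset.prod_mul_distrib, Finset.prod_mul_distrib,
    Finset.prod_const, Finset.prod_const, Finset.prod_pow E 2
      (fun x => Nat.card ↥(U ⊓ centralizer ({x} : Set X)) ^ 2), hIH, hcardE] at hprod
  rw [hsplit, Finset.prod_union hdisj, Finset.prod_image fun x _ y _ h => mul_left_cancel h]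
  refine Nat.eq_of_mul_eq_mul_left (pow_pos (Nat.card_pos (α := U)) (2 * Nat.card C)) ?_
  rw [hcardB, pow_mul, hprod]
  ring

/-- If all involutions of `B` have equally many fixed points, they move much of `V`. -/
theorem card_dvd_two_mul (B V : Subgroup X) {r : ℕ} [Fact r.Prime] (hV : IsPGroup r V)
    (hr2 : r ≠ 2) (hab : ∀ x ∈ V, ∀ y ∈ V, x * y = y * x)
    (hB2 : ∀ b ∈ B, b * b = 1) (hBV : ∀ b ∈ B, ∀ x ∈ V, b * x * b⁻¹ ∈ V)
    {a : X} (hav : ∃ x ∈ V, a * x * a⁻¹ ≠ x)
    (heq : ∀ b ∈ B, b ≠ 1 → Nat.card ↥(V ⊓ centralizer ({b} : Set X)) =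
      Nat.card ↥(V ⊓ centralizer ({a} : Set X))) :
    ∃ e, 0 < e ∧ (centralizer ({a} : Set X)).relIndex V = r ^ e ∧ Nat.card B ∣ 2 * e := by
  classical
  haveI := Fintype.ofFinite X
  have hr := (Fact.out : r.Prime)
  have hodd : Odd (Nat.card V) := by
    obtain ⟨d, hd⟩ := IsPGroup.iff_card.1 hV
    rw [hd]
    exact (hr.odd_of_ne_two hr2).pow
  obtain ⟨d, hd⟩ := IsPGroup.iff_card.1 hV
  obtain ⟨c, hc⟩ := IsPGroup.iff_card.1
    (hV.to_le (inf_le_left : V ⊓ centralizer ({a} : Set X) ≤ V))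
  obtain ⟨f, hf⟩ := IsPGroup.iff_card.1
    (hV.to_le (inf_le_left : V ⊓ centralizer (B : Set X) ≤ V))
  have hcd : c < d := by
    obtain ⟨x, hx, hxa⟩ := hav
    have hlt : Nat.card ↥(V ⊓ centralizer ({a} : Set X)) < Nat.card V :=
      lt_of_le_of_ne (card_le_of_le inf_le_left) fun h =>
        hxa (mul_inv_eq_iff_eq_mul.2 (mem_centralizer_singleton_iff.1
          ((eq_of_le_of_card_ge inf_le_left h.ge).ge hx).2).symm)
    rw [hc, hd] at hlt
    exact (Nat.pow_lt_pow_iff_right hr.one_lt).1 hlt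
  refine ⟨d - c, by omega, ?_, ?_⟩
  · have h := card_inf_mul_relIndex (centralizer ({a} : Set X)) V
    rw [hc, hd, ← Nat.add_sub_cancel' hcd.le, pow_add] at h
    exact Nat.eq_of_mul_eq_mul_left (pow_pos hr.pos c) h
  · have hp := prod_card_centralizer B V hab hodd hB2 hBV
    have h1 : (1 : X) ∈ Finset.univ.filter (· ∈ B) := by simp [one_mem]
    rw [← Finset.mul_prod_erase _ _ h1,
      show centralizer ({1} : Set X) = ⊤ from (eq_top_iff' _).2 fun x =>
        mem_centralizer_singleton_iff.2 (by rw [one_mul, mul_one]),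
      inf_top_eq, Finset.prod_congr rfl (g := fun _ => (r ^ c) ^ 2) (fun b hb => by
        simp only [Finset.mem_erase, Finset.mem_filter, Finset.mem_univ, true_and] at hb
        rw [heq b hb.2 hb.1, hc]),
      Finset.prod_const, Finset.card_erase_of_mem h1, hd, hf, ← Fintype.card_subtype,
      ← Nat.card_eq_fintype_card, ← pow_mul, ← pow_mul, ← pow_mul, ← pow_add, ← pow_add,
      ← pow_mul] at hp
    have hpe := Nat.pow_right_injective hr.two_le hp
    obtain ⟨m, hm⟩ : ∃ m, Nat.card B = m + 1 :=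
      ⟨Nat.card B - 1, by have := Nat.card_pos (α := B); omega⟩
    have hm' : Nat.card {x // x ∈ B} = m + 1 := hm
    rw [hm', Nat.add_sub_cancel] at hpe
    rw [hm', ← Int.natCast_dvd_natCast]
    refine ⟨(f : ℤ) + d - 2 * c, ?_⟩
    push_cast [Nat.cast_sub hcd.le]
    have hz : (d : ℤ) * 2 + c * 2 * m = (d + f) * (m + 1) := by rw [mul_assoc]; exact_mod_cast hpe
    linarith

end Formula

namespace Ctx

variable {G : Type u} [Group G] [Finite G] {Ω : Type v} [MulAction G Ω] (c : Ctx G Ω)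

/-- The conjugates of an element under a subgroup. -/
theorem card_conjSet (H : Subgroup G) (a : G) :
    Nat.card ↑{t : G | ∃ w ∈ H, w * a * w⁻¹ = t} = (centralizer ({a} : Set G)).relIndex H := by
  have hiff : ∀ v w : G, v⁻¹ * w ∈ centralizer ({a} : Set G) ↔ v * a * v⁻¹ = w * a * w⁻¹ := by
    intro v w
    rw [mem_centralizer_singleton_iff]
    constructor
    · intro e
      calc v * a * v⁻¹ = v * (a * (v⁻¹ * w)) * w⁻¹ := by group
        _ = _ := by rw [← e]; group
    · intro e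
      calc v⁻¹ * w * a = v⁻¹ * (w * a * w⁻¹) * w := by group
        _ = _ := by rw [← e]; group
  rw [relIndex, Subgroup.index_eq_card]
  refine (Nat.card_eq_of_bijective (Quotient.lift
    (fun w : H => (⟨_, w, w.2, rfl⟩ : {t : G | ∃ w ∈ H, w * a * w⁻¹ = t}))
    fun v w e => Subtype.ext ((hiff v w).1 (mem_subgroupOf.1 (QuotientGroup.leftRel_apply.1 e))))
    ⟨?_, ?_⟩).symm
  · rintro ⟨v⟩ ⟨w⟩ e
    exact QuotientGroup.eq.2 (mem_subgroupOf.2 ((hiff v w).2 (congrArg Subtype.val e)))
  · rintro ⟨_, w, hw, rfl⟩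
    exact ⟨QuotientGroup.mk ⟨w, hw⟩, rfl⟩

/-- The `r`-part of a conjugacy class of `W`, bounded below by that of a normal subgroup. -/
theorem relIndex_dvd_of_normalized {W P C : Subgroup G} (hPW : P ≤ W) (hCW : C ≤ W)
    (hN : C ≤ normalizer (P : Set G)) : C.relIndex P ∣ C.relIndex W := by
  haveI : ((P : Subgroup G).subgroupOf (C ⊔ P)).Normal :=
    normal_subgroupOf_of_le_normalizer (sup_le hN le_normalizer)
  refine dvd_trans ?_ (dvd_of_eq (relIndex_mul_relIndex C (C ⊔ P) W le_sup_left (sup_le hCW hPW)))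
  refine dvd_mul_of_dvd_left ?_ _
  have h1 : P.relIndex (C ⊔ P) = P.relIndex C := by
    have := relIndex_sup_right (H := C.subgroupOf (C ⊔ P)) (K := P.subgroupOf (C ⊔ P))
    rwa [← subgroupOf_sup le_sup_left le_sup_right, subgroupOf_self, relIndex_top_right,
      relIndex_subgroupOf le_sup_left] at this
  have h2 : (P ⊓ C).relIndex P * P.relIndex (C ⊔ P) = (P ⊓ C).relIndex C * C.relIndex (C ⊔ P) := by
    rw [relIndex_mul_relIndex _ _ _ inf_le_left le_sup_right,
      relIndex_mul_relIndex _ _ _ inf_le_right le_sup_left]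
  rw [h1, inf_relIndex_right, inf_relIndex_left, mul_comm (P.relIndex C)] at h2
  have h0 : P.relIndex C ≠ 0 := index_ne_zero_of_finite
  exact dvd_of_eq (Nat.eq_of_mul_eq_mul_right (Nat.pos_of_ne_zero h0) h2)

/-- **COUNT**: if `A z` does not centralize an `r`-subgroup of `W z` normalized by the stabilizer,
every further point is fixed by an element of order `r` of `W z`. -/
theorem exists_order_fixing [IsSimpleGroup G] {z y : Ω} (hy : y ≠ z) {r : ℕ} [Fact r.Prime]
    {P : Subgroup G} (hP : IsPGroup r P) (hPW : P ≤ c.W z)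
    (hN : MulAction.stabilizer G z ≤ normalizer (P : Set G))
    (hne : ¬ ∀ a ∈ c.A z, ∀ x ∈ P, Commute a x) :
    ∃ w ∈ c.W z, orderOf w = r ∧ w • y = y := by
  classical
  haveI : Fact (Nat.Prime 2) := ⟨Nat.prime_two⟩
  have hr := (Fact.out : r.Prime)
  set S := c.syl z with hSdef
  have hh : Hyp S := c.hyp z
  set D := pairStab G z y with hD
  by_contra hno
  have hDW : ¬ r ∣ Nat.card ↥(D ⊓ c.W z) := fun hd => by
    obtain ⟨w, hw⟩ := exists_prime_orderOf_dvd_card' (G := ↥(D ⊓ c.W z)) r hd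
    exact hno ⟨w, w.2.2, by rwa [Subgroup.orderOf_coe], (mem_pairStab.1 w.2.1).2⟩
  have hDz : D ≤ MulAction.stabilizer G z := fun d hd => (mem_pairStab.1 hd).1
  have hDmid : D ≤ mid S := hDz.trans (c.stab z).le
  have hDodd : Odd (Nat.card D) := odd_pairStab c.fix hy.symm
  have hconj : ∀ s ∈ c.A z, ∀ t ∈ c.A z, s ≠ 1 → t ≠ 1 → ∃ d ∈ D, d * s * d⁻¹ = t :=
    fun s hs t ht hs1 ht1 => exists_conj_fix c.fix hy.symm (c.A_mem hs hs1) (c.A_mem ht ht1)
  -- the action of `D` on the image of `A`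
  haveI hn0 := hh.normal_oddPart
  haveI := hh.omegaBar_normal
  let ψ : D →* MulAut (omegaBar S) :=
    (MulAut.conjNormal.comp (toBar S)).comp (Subgroup.inclusion hDmid)
  have hψ : ∀ (d : D) (v : omegaBar S), ((ψ d v : omegaBar S) : MidQuot S) =
      toBar S (Subgroup.inclusion hDmid d) * v * (toBar S (Subgroup.inclusion hDmid d))⁻¹ :=
    fun d v => MulAut.conjNormal_apply _ _
  have hker : Nat.card ψ.ker = Nat.card ↥(D ⊓ c.W z) := by
    have he : ψ.ker = (D ⊓ c.W z).subgroupOf D := by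
      ext d
      rw [MonoidHom.mem_ker, mem_subgroupOf, mem_inf]
      constructor
      · intro hd
        refine ⟨d.2, hh.mem_oddPart_of_odd (hh.mem_of_cent_omegaBar
          (g := Subgroup.inclusion hDmid d) fun v hv => ?_)
          (hDodd.of_dvd_nat (D.orderOf_dvd_natCard d.2))⟩
        rw [← hψ d ⟨v, hv⟩, hd]
        rfl
      · rintro ⟨-, hd⟩
        refine MulEquiv.ext fun v => Subtype.ext ?_
        rw [hψ, show toBar S (Subgroup.inclusion hDmid d) = 1 from toBar_eq_one.2 hd]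
        simp
    rw [he, Nat.card_congr (subgroupOfEquivOfLe inf_le_left).toEquiv]
  obtain ⟨n, hn⟩ := IsPGroup.iff_card.1 (S.isPGroup'.to_le (omegaS_le S))
  have hn3 : 3 ≤ n := (Nat.pow_le_pow_iff_right (a := 2) one_lt_two).1 (hn ▸ hh.rank3)
  obtain ⟨p, hp⟩ := exists_goodPrime hn3
  haveI : Fact p.Prime := ⟨hp.prime⟩
  have hV : Nat.card (omegaBar S) = 2 ^ n := hh.card_omegaBar.trans hn
  have htr : ∀ v w : omegaBar S, v ≠ 1 → w ≠ 1 → ∃ d : D, ψ d v = w := by
    intro v w hv hw
    obtain ⟨b, hb, hbv⟩ := v.2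
    obtain ⟨b', hb', hbw⟩ := w.2
    have hne1 : ∀ (b : mid S) (v : omegaBar S), toBar S b = v → v ≠ 1 → (b : G) ≠ 1 :=
      fun b v hbv hv e => hv (Subtype.ext (by
        rw [← hbv, show b = 1 from Subtype.ext e, map_one]; rfl))
    obtain ⟨d, hd, hdb⟩ := hconj b (mem_subgroupOf.1 hb) b' (mem_subgroupOf.1 hb')
      (hne1 b v hbv hv) (hne1 b' w hbw hw)
    refine ⟨⟨d, hd⟩, Subtype.ext ?_⟩
    rw [hψ, ← hbv, ← hbw, ← map_inv, ← map_mul, ← map_mul]
    exact congrArg (toBar S) (Subtype.ext hdb)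
  have hfacts : Facts ψ.range.subtype n p := facts hn3 hp
    (hDodd.of_dvd_nat (Subgroup.card_range_dvd ψ)) hh.omegaBar_exp hV _
    (Subgroup.subtype_injective _) fun v w hv hw => by
      obtain ⟨d, hd⟩ := htr v w hv hw
      exact ⟨⟨ψ d, d, rfl⟩, hd⟩
  have hX : Nat.card ψ.range ∣ (2 ^ n - 1) * n := by
    haveI : Nontrivial (omegaBar S) := by
      rw [← Finite.one_lt_card_iff_nontrivial, hV]
      exact Nat.one_lt_two_pow (by omega)
    obtain ⟨v, hv⟩ := exists_ne (1 : omegaBar S)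
    have horb : MulAction.orbit ψ.range v = {w | w ≠ 1} := by
      ext w
      constructor
      · rintro ⟨g, rfl⟩ he
        exact hv ((g : MulAut _).injective (he.trans (map_one _).symm))
      · intro hw
        obtain ⟨k, hk⟩ := htr v w hv hw
        exact ⟨⟨ψ k, k, rfl⟩, hk⟩
    have h1 : Nat.card (MulAction.orbit ψ.range v) ∣ Nat.card ψ.range := by
      rw [Nat.card_congr (MulAction.orbitEquivQuotientStabilizer ψ.range v),
        ← Subgroup.index_eq_card]
      exact index_dvd_card _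
    haveI := Fintype.ofFinite (omegaBar S)
    have h2 : Nat.card {w : omegaBar S | w ≠ 1} = 2 ^ n - 1 := by
      rw [Nat.card_eq_fintype_card]
      simp only [Set.coe_ofPred, Fintype.card_subtype_compl, Fintype.card_subtype_eq]
      rw [← Nat.card_eq_fintype_card, hV]
    rw [horb, h2] at h1
    obtain ⟨j, hj⟩ := exists_prime_orderOf_dvd_card' (G := ψ.range) p (hp.dvd.trans h1)
    exact (hfacts.card_dvd j hj).trans (Nat.mul_dvd_mul_right (hfacts.cent_card j hj) n)
  have hDcard : Nat.card D = Nat.card ↥(D ⊓ c.W z) * Nat.card ψ.range := by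
    rw [← hker, ← Subgroup.index_ker, card_mul_index]
  -- the involutions at `z`
  obtain ⟨a, ha, ha1⟩ : ∃ a ∈ c.A z, a ≠ 1 := by
    by_contra h
    push Not at h
    exact hne fun a ha x _ => by rw [h a ha]; exact Commute.one_left x
  let O : G → Set G := fun b => {t | ∃ w ∈ c.W z, w * b * w⁻¹ = t}
  have hOcard : ∀ b ∈ c.A z, b ≠ 1 →
      Nat.card (O b) = (centralizer ({a} : Set G)).relIndex (c.W z) := by
    intro b hb hb1
    obtain ⟨d, hd, hdb⟩ := hconj a ha b hb ha1 hb1
    have hnor := c.stab_le_normalizer_W z (hDz hd)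
    have h0 : Nat.card (O a) = (centralizer ({a} : Set G)).relIndex (c.W z) := card_conjSet _ a
    rw [← h0]
    refine (Nat.card_congr ((MulAut.conj d).toEquiv.subtypeEquiv fun t => ?_)).symm
    constructor
    · rintro ⟨w, hw, rfl⟩
      refine ⟨d * w * d⁻¹, (mem_normalizer_iff.1 hnor w).1 hw, ?_⟩
      show _ = d * (w * a * w⁻¹) * d⁻¹
      rw [← hdb]; group
    · rintro ⟨w, hw, hwt⟩
      refine ⟨d⁻¹ * w * d, by simpa using (mem_normalizer_iff.1 (inv_mem hnor) w).1 hw, ?_⟩
      change _ = d * t * d⁻¹ at hwt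
      calc d⁻¹ * w * d * a * (d⁻¹ * w * d)⁻¹ = d⁻¹ * (w * (d * a * d⁻¹) * w⁻¹) * d := by group
        _ = t := by rw [hdb, hwt]; group
  have hJdvd : (2 ^ n - 1) * (centralizer ({a} : Set G)).relIndex (c.W z) ∣ Nat.card D := by
    let F : (Σ b : {b : c.A z // b ≠ 1}, O (b.1 : G)) → invMap (G := G) z z := fun q => ⟨q.2.1, by
      obtain ⟨w, hw, he⟩ := q.2.2
      rw [← he]
      exact conj_mem_invMap (c.W_le_stab z hw)
        (c.A_mem q.1.1.2 fun e => q.1.2 (Subtype.ext e))⟩
    have hFb : Function.Bijective F := by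
      constructor
      · rintro ⟨⟨b, hb1⟩, t, w, hw, rfl⟩ ⟨⟨b', hb'1⟩, t', w', hw', rfl⟩ he
        have he' : w * (b : G) * w⁻¹ = w' * (b' : G) * w'⁻¹ := congrArg Subtype.val he
        have hbb : b = b' := by
          have key : toBar S (⟨w, mem_sup_left hw⟩ * ⟨b, omegaS_le_mid S b.2⟩ *
              (⟨w, mem_sup_left hw⟩ : mid S)⁻¹) = toBar S (⟨w', mem_sup_left hw'⟩ *
              ⟨b', omegaS_le_mid S b'.2⟩ * (⟨w', mem_sup_left hw'⟩ : mid S)⁻¹) :=
            congrArg (toBar S) (Subtype.ext he')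
          have h1 : ∀ (x : G) (hx : x ∈ c.W z), toBar S ⟨x, mem_sup_left hx⟩ = 1 :=
            fun x hx => toBar_eq_one.2 hx
          rw [map_mul, map_mul, map_inv, map_mul, map_mul, map_inv, h1 w hw, h1 w' hw'] at key
          simp only [one_mul, mul_one, inv_one] at key
          exact Subtype.ext (congrArg (fun x : mid S => (x : G)) (hh.toBar_injOn b.2 b'.2 key))
        subst hbb
        exact Sigma.ext rfl (heq_of_eq (Subtype.ext he'))
      · rintro ⟨t, ht⟩
        obtain ⟨w, hw, hwA⟩ := c.exists_conj_A ht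
        refine ⟨⟨⟨⟨_, hwA⟩, fun e => ?_⟩, t, w⁻¹, inv_mem hw, by group⟩, rfl⟩
        have e' : w * t * w⁻¹ = 1 := congrArg Subtype.val e
        have h2 := (CfsgLib.Small.orderOf_conj_eq w t).trans ht.1
        rw [e', orderOf_one] at h2
        omega
    haveI := Fintype.ofFinite (c.A z)
    have hJ : Nat.card (invMap (G := G) z z) =
        (2 ^ n - 1) * (centralizer ({a} : Set G)).relIndex (c.W z) := by
      rw [← Nat.card_eq_of_bijective F hFb, Nat.card_sigma, Finset.sum_congr rfl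
        (fun b _ => hOcard b.1 b.1.2 fun e => b.2 (Subtype.ext e)), Finset.sum_const,
        smul_eq_mul, Finset.card_univ, Fintype.card_subtype_compl, Fintype.card_subtype_eq,
        ← Nat.card_eq_fintype_card]
      exact congrArg (fun m => (m - 1) * _) hn
    have horb : {t : G | ∃ d ∈ D, d * a * d⁻¹ = t} = invMap (G := G) z z := by
      ext t
      constructor
      · rintro ⟨d, hd, rfl⟩
        exact conj_mem_invMap (hDz hd) (c.A_mem ha ha1)
      · exact fun ht => exists_conj_fix c.fix hy.symm (c.A_mem ha ha1) ht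
    rw [← hJ, ← horb, card_conjSet]
    exact index_dvd_card _
  -- the Frattini quotient of `P`
  set N := normalizer (P : Set G) with hNdef
  have hPN : P ≤ N := le_normalizer
  have hAN : c.A z ≤ N := (c.A_le_stab z).trans hN
  set Φ := (frattini P).map P.subtype with hΦdef
  have hΦP : Φ ≤ P := map_subtype_le _
  haveI hΦn : (Φ.subgroupOf N).Normal := normal_subgroupOf_of_le_normalizer
    (CfsgLib.Components.normalizer_le_normalizer_map_subtype P (frattini P))
  set f := QuotientGroup.mk' (Φ.subgroupOf N) with hf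
  have hf1 : ∀ x : N, f x = 1 ↔ (x : G) ∈ Φ := fun x =>
    (QuotientGroup.eq_one_iff x).trans mem_subgroupOf
  set V := (P.subgroupOf N).map f with hVdef
  set B := ((c.A z).subgroupOf N).map f with hBdef
  have hodd : Odd (Nat.card P) := (c.odd_W z).of_dvd_nat (card_dvd_of_le hPW)
  have hr2 : r ≠ 2 := by
    rintro rfl
    obtain ⟨k, hk⟩ := IsPGroup.iff_card.1 hP
    rcases k with - | k
    · have hbot : P = ⊥ := eq_bot_of_card_eq _ (by rw [hk, pow_zero])
      exact hne fun a _ x hx => by rw [mem_bot.1 (hbot.le hx)]; exact Commute.one_right a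
    · rw [hk] at hodd
      exact Nat.not_odd_iff_even.2 (even_two.pow_of_ne_zero k.succ_ne_zero) hodd
  have hVr : IsPGroup r V := (hP.comap_subtype (K := N)).map f
  have hab : ∀ x ∈ V, ∀ y ∈ V, x * y = y * x := by
    rintro _ ⟨u, hu, rfl⟩ _ ⟨v, hv, rfl⟩
    rw [← commutatorElement_eq_one_iff_mul_comm, ← map_commutatorElement, hf1]
    have h : ⁅(⟨u, hu⟩ : P), ⟨v, hv⟩⁆ ∈ _root_.commutator P := by
      rw [_root_.commutator_def]
      exact commutator_mem_commutator (mem_top _) (mem_top _)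
    exact ⟨_, CfsgLib.Solvable.commutator_le_frattini hP h, rfl⟩
  have hAmem : ∀ b ∈ B, ∃ s : N, (s : G) ∈ c.A z ∧ f s = b := fun b hb => by
    obtain ⟨s, hs, rfl⟩ := hb
    exact ⟨s, mem_subgroupOf.1 hs, rfl⟩
  have hB2 : ∀ b ∈ B, b * b = 1 := fun b hb => by
    obtain ⟨s, hs, rfl⟩ := hAmem b hb
    rw [← map_mul, show s * s = 1 from Subtype.ext (hh.mem_omegaS.1 hs).2, map_one]
  have hnormV : ∀ g : N, ∀ x ∈ V, f g * x * (f g)⁻¹ ∈ V := by
    rintro g _ ⟨u, hu, rfl⟩
    refine ⟨g * u * g⁻¹, ?_, by rw [map_mul, map_mul, map_inv]⟩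
    exact (mem_normalizer_iff.1 g.2 (u : G)).1 hu
  have hBV : ∀ b ∈ B, ∀ x ∈ V, b * x * b⁻¹ ∈ V := fun b hb x hx => by
    obtain ⟨s, -, rfl⟩ := hAmem b hb
    exact hnormV s x hx
  have hBc : Nat.card B = 2 ^ n := by
    refine Eq.trans ?_ ((Nat.card_congr (subgroupOfEquivOfLe hAN).toEquiv).trans hn)
    refine (Nat.card_eq_of_bijective (fun s : (c.A z).subgroupOf N =>
      (⟨f s.1, mem_map_of_mem f s.2⟩ : B)) ⟨fun s t he => ?_, fun b => ?_⟩).symm
    · refine Subtype.ext (inv_mul_eq_one.1 (Subtype.ext ?_))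
      have h1 : ((s.1⁻¹ * t.1 : N) : G) ∈ Φ := by
        rw [← hf1, map_mul, map_inv, show f s.1 = f t.1 from congrArg Subtype.val he,
          inv_mul_cancel]
      exact hh.eq_one_of_mem
        (omegaS_le S (mul_mem (inv_mem (mem_subgroupOf.1 s.2)) (mem_subgroupOf.1 t.2)))
        (hPW (hΦP h1))
    · obtain ⟨s, hs, hsb⟩ := b.2
      exact ⟨⟨s, hs⟩, Subtype.ext hsb⟩
  set a' : N := ⟨a, hAN ha⟩ with ha'def
  have ha' : f a' ∈ B := mem_map_of_mem f (mem_subgroupOf.2 ha)
  have heq : ∀ b ∈ B, b ≠ 1 → Nat.card ↥(V ⊓ centralizer ({b} : Set _)) =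
      Nat.card ↥(V ⊓ centralizer ({f a'} : Set _)) := by
    intro b hb hb1
    obtain ⟨s, hs, rfl⟩ := hAmem b hb
    have hs1 : (s : G) ≠ 1 := fun e => hb1 (by rw [show s = 1 from Subtype.ext e, map_one])
    obtain ⟨d, hd, hds⟩ := hconj a ha s hs ha1 hs1
    set g := f ⟨d, hN (hDz hd)⟩ with hg
    have hgs : g * f a' * g⁻¹ = f s := by
      rw [hg, ← map_inv, ← map_mul, ← map_mul]
      exact congrArg f (Subtype.ext hds)
    refine (Nat.card_congr ((MulAut.conj g).toEquiv.subtypeEquiv fun x => ?_)).symm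
    show x ∈ V ⊓ centralizer ({f a'} : Set _) ↔ g * x * g⁻¹ ∈ V ⊓ centralizer ({f s} : Set _)
    rw [mem_inf, mem_inf, mem_centralizer_singleton_iff, mem_centralizer_singleton_iff, ← hgs]
    refine and_congr ⟨fun hx => hnormV _ x hx, fun hx => ?_⟩ ?_
    · have := hnormV (⟨d, hN (hDz hd)⟩ : N)⁻¹ _ hx
      rw [map_inv] at this
      simpa [hg, mul_assoc] using this
    · constructor
      · intro h
        calc g * x * g⁻¹ * (g * f a' * g⁻¹) = g * (x * f a') * g⁻¹ := by group
          _ = _ := by rw [h]; group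
      · intro h
        calc x * f a' = g⁻¹ * (g * x * g⁻¹ * (g * f a' * g⁻¹)) * g := by group
          _ = _ := by rw [h]; group
  have hav : ∃ x ∈ V, f a' * x * (f a')⁻¹ ≠ x := by
    by_contra hc
    push Not at hc
    refine hne fun b hb x hx => ?_
    have hcop : (Nat.card (c.A z)).Coprime (Nat.card (frattini P)) := by
      rw [hn]
      exact (Nat.coprime_two_left.2 (hodd.of_dvd_nat (card_subgroup_dvd_card _))).pow_left n
    refine (mem_centralizer_iff.1 (CfsgLib.Coprime.le_centralizer_of_commutator_le_frattini hAN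
      hcop ?_ hb) x hx).symm
    rw [Subgroup.commutator_le]
    intro u hu s hs
    set u' : N := ⟨u, hPN hu⟩ with hu'def
    set s' : N := ⟨s, hAN hs⟩ with hs'def
    suffices h : ((⁅u', s'⁆ : N) : G) ∈ Φ by exact h
    rw [← hf1, map_commutatorElement, commutatorElement_eq_one_iff_mul_comm]
    have hfu : f u' ∈ V := mem_map_of_mem f (mem_subgroupOf.2 hu)
    by_cases hb1 : f s' = 1
    · rw [hb1, one_mul, mul_one]
    have hsB : f s' ∈ B := mem_map_of_mem f (mem_subgroupOf.2 hs)
    have hall : V ≤ centralizer ({f s'} : Set _) := by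
      have hcd : V ⊓ centralizer ({f a'} : Set _) = V := inf_eq_left.2 fun x hx =>
        mem_centralizer_singleton_iff.2 (mul_inv_eq_iff_eq_mul.1 (hc x hx)).symm
      exact inf_eq_left.1 (eq_of_le_of_card_ge inf_le_left (by rw [heq _ hsB hb1, hcd]))
    exact mem_centralizer_singleton_iff.1 (hall hfu)
  obtain ⟨e, he0, he, hqe⟩ := card_dvd_two_mul B V hVr hr2 hab hB2 hBV hav heq
  have h1 : r ^ e ∣ (centralizer ({a} : Set G)).relIndex (c.W z) := by
    rw [← he]
    have h2 : (centralizer ({f a'} : Set _)).relIndex V ∣ (centralizer ({a} : Set G)).relIndex P := by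
      rw [hVdef, ← relIndex_comap]
      refine dvd_trans (relIndex_dvd_of_le_left (P.subgroupOf N)
        (show (centralizer ({a} : Set G)).subgroupOf N ≤ (centralizer ({f a'} : Set _)).comap f
          from fun x hx => ?_)) (dvd_of_eq (relIndex_subgroupOf hPN))
      rw [mem_comap, mem_centralizer_singleton_iff, ← map_mul, ← map_mul]
      exact congrArg f (Subtype.ext (mem_centralizer_singleton_iff.1 (mem_subgroupOf.1 hx)))
    refine h2.trans ?_
    have h3 := relIndex_dvd_of_normalized (C := c.W z ⊓ centralizer ({a} : Set G)) hPW inf_le_left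
      (inf_le_left.trans ((c.W_le_stab z).trans hN))
    have h4 : (c.W z ⊓ centralizer ({a} : Set G)).relIndex P =
        (centralizer ({a} : Set G)).relIndex P := by
      rw [← inf_relIndex_right, ← inf_relIndex_right (centralizer ({a} : Set G))]
      congr 1
      rw [inf_comm (c.W z), inf_assoc, inf_eq_right.2 hPW]
    rwa [inf_relIndex_left, h4] at h3
  have h2 : r ^ e * (2 ^ n - 1) ∣ Nat.card ↥(D ⊓ c.W z) * n * (2 ^ n - 1) := by
    refine dvd_trans ?_ ((hJdvd.trans (dvd_of_eq hDcard)).trans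
      (dvd_trans (Nat.mul_dvd_mul_left _ hX) (dvd_of_eq (by ring))))
    rw [mul_comm (2 ^ n - 1)]
    exact Nat.mul_dvd_mul_right h1 _
  have h3 : r ^ e ∣ n := (((hr.coprime_iff_not_dvd.2 hDW).pow_left e).dvd_of_dvd_mul_left
    (Nat.dvd_of_mul_dvd_mul_right (by
      have := Nat.one_lt_two_pow (show n ≠ 0 by omega); omega) h2))
  rw [hBc] at hqe
  have h4 := Nat.le_of_dvd (by omega) hqe
  have h5 := Nat.le_of_dvd (by omega) h3
  have h6 := Nat.lt_pow_self hr.one_lt (n := e)
  have h7 : 2 * n < 2 ^ n := by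
    have : ∀ m, 2 * (m + 3) < 2 ^ (m + 3) := by
      intro m
      induction m with
      | zero => norm_num
      | succ m ihm => rw [show m + 1 + 3 = m + 3 + 1 by ring, pow_succ]; omega
    have := this (n - 3)
    rwa [Nat.sub_add_cancel hn3] at this
  omega

end Ctx

end CfsgLib.AbelSolvCent
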