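import Cfsg.Agent.AbelSolvCent.Signalizer
import Cfsg.Agent.OneClassInvolutions.Sylow
import Cfsg.Agent.Inv53.AbelianEight
import Cfsg.Agent.GW.Classification
import Cfsg.Agent.CharSimple.Basic
import Cfsg.Agent.PLocal.Constraint
import Cfsg.Agent.Small.NormalFour
import Cfsg.Agent.Linear.Basic
import Cfsg.Agent.MinNonCA.Basic
import Cfsg.Agent.S0949

/-!
# Abelian Sylow 2-subgroups and solvable involution centralizers: the reduction

`classification_of_simple` reduces the classification to simple groups of 2-rank at least three: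
modulo the odd core a nonsolvable group has a simple normal subgroup with trivial centralizer; in
2-rank at most two this is `PSL₂(q)`, `q ≡ 3, 5 (mod 8)`, by transfer, Brauer's theorem on homocyclic
Sylow 2-subgroups and the Gorenstein–Walter theorem.
-/

set_option autoImplicit false
set_option linter.style.haveILetI false
set_option linter.unusedSectionVars false

namespace CfsgLib.AbelSolvCent

open Subgroup CfsgLib.ZCGroup

universe u

/-- The fields of the conclusion. -/
def GoodField (F : Type) [Fintype F] : Prop :=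
  ((Fintype.card F % 8 = 3 ∨ Fintype.card F % 8 = 5) ∧ 5 ≤ Fintype.card F) ∨
    (∃ n : ℕ, 2 ≤ n ∧ Fintype.card F = 2 ^ n)

/-- The case of 2-rank at least three up to order `n`, to be supplied. -/
def RankThreeClassified (n : ℕ) : Prop :=
  ∀ (H : Type u) [Group H] [Finite H], Nat.card H ≤ n → IsSimpleGroup H → ¬ IsMulCommutative H →
    ∀ S : Sylow 2 H, Hyp S → ∃ (F : Type) (_ : Field F) (_ : Fintype F) (n : ℕ),
      2 ≤ n ∧ Fintype.card F = 2 ^ n ∧
        Nonempty (H ≃* Matrix.ProjectiveSpecialLinearGroup (Fin 2) F)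

variable {G : Type*} [Group G] [Finite G]

/-- A group of odd order is solvable. -/
theorem isSolvable_of_odd_card {H : Type*} [Group H] [Finite H] (h : Odd (Nat.card H)) :
    Group.IsSolvable H :=
  @Group.isSolvable_of_surjective _ _ _ _
    (Subgroup.topEquiv.toMonoidHom) (MulEquiv.surjective _)
    (CfsgLib.MinNonCA.isSolvable_of_odd (G := H) ⊤ (by rwa [Subgroup.card_top]))

theorem solvableCentralizers_subgroup (hC : SolvableCentralizers G) (M : Subgroup G) :
    SolvableCentralizers ↥M := by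
  intro t ht
  haveI := hC (t : G) (by rwa [Subgroup.orderOf_coe])
  let f : ↥(centralizer ({t} : Set M)) →* ↥(centralizer ({(t : G)} : Set G)) :=
    { toFun := fun c => ⟨((c : M) : G), mem_centralizer_singleton_iff.mpr
        (congrArg Subtype.val (mem_centralizer_singleton_iff.mp c.2))⟩
      map_one' := rfl
      map_mul' := fun _ _ => rfl }
  exact Group.isSolvable_of_isSolvable_injective (f := f)
    fun a b e => Subtype.ext (Subtype.ext (congrArg Subtype.val e :))

theorem abelian_sylow_subgroup (S : Sylow 2 G) (hS : IsMulCommutative (S : Subgroup G))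
    (M : Subgroup G) (P : Sylow 2 M) : IsMulCommutative (P : Subgroup M) := by
  haveI : Fact (Nat.Prime 2) := ⟨Nat.prime_two⟩
  obtain ⟨Q, hQ⟩ := (P.isPGroup'.map M.subtype).exists_le_sylow
  haveI : IsMulCommutative (Q : Subgroup G) := ⟨⟨fun a b => by
    apply (S.equiv Q).symm.injective
    rw [map_mul, map_mul]
    exact mul_comm' _ _⟩⟩
  refine ⟨⟨fun a b => Subtype.ext (Subtype.ext ?_)⟩⟩
  have h := congrArg Subtype.val
    (mul_comm' (⟨_, hQ ⟨a.1, a.2, rfl⟩⟩ : (Q : Subgroup G)) ⟨_, hQ ⟨b.1, b.2, rfl⟩⟩)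
  simpa using h

/-- Modulo a normal subgroup of odd order involution centralizers remain solvable. -/
theorem solvableCentralizers_quotient (hC : SolvableCentralizers G) (N : Subgroup G) [N.Normal]
    (hN : Odd (Nat.card N)) : SolvableCentralizers (G ⧸ N) := by
  haveI : Fact (Nat.Prime 2) := ⟨Nat.prime_two⟩
  intro x hx
  obtain ⟨g, rfl⟩ := QuotientGroup.mk'_surjective N x
  obtain ⟨k, m, hm, hgm⟩ := Nat.exists_eq_two_pow_mul_odd (orderOf_pos g).ne'
  set f := QuotientGroup.mk' N with hf
  have hft : f (g ^ m) = f g := by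
    obtain ⟨l, hl⟩ := hm
    rw [map_pow, hl, pow_succ, pow_mul, show f g ^ 2 = 1 by rw [← hx]; exact pow_orderOf_eq_one _,
      one_pow, one_mul]
  have htN : (g ^ m) ^ 2 ∈ N := (QuotientGroup.eq_one_iff _).1 (by
    change f ((g ^ m) ^ 2) = 1
    rw [map_pow, hft, ← hx]; exact pow_orderOf_eq_one _)
  have ht2 : (g ^ m) ^ 2 = 1 := by
    refine orderOf_eq_one_iff.1 (Nat.eq_one_of_dvd_coprimes (a := 2 ^ k) (b := Nat.card N) ?_ ?_
      (N.orderOf_dvd_natCard htN))
    · exact (Nat.coprime_two_left.2 hN).pow_left k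
    · refine orderOf_dvd_of_pow_eq_one ?_
      rw [← pow_mul, ← pow_mul, show m * (2 * 2 ^ k) = 2 ^ k * m * 2 by ring, ← hgm, pow_mul,
        pow_orderOf_eq_one, one_pow]
  have ht1 : g ^ m ≠ 1 := fun e => by
    rw [e, map_one] at hft
    rw [← hft, orderOf_one] at hx
    omega
  have hto : orderOf (g ^ m) = 2 := orderOf_eq_two (by rw [← sq]; exact ht2) ht1
  haveI := hC _ hto
  have h := CfsgLib.PLocal.centralizer_map_mk'_eq N (p := 2) (Nat.coprime_two_right.2 hN)
    (isPGroup_zpowers_of_orderOf hto)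
  rw [MonoidHom.map_zpowers, hft] at h
  have h1 : centralizer ({f g} : Set (G ⧸ N)) =
      (centralizer ({g ^ m} : Set G)).map f := by
    rw [← centralizer_closure ({f g} : Set (G ⧸ N)), ← zpowers_eq_closure,
      ← centralizer_closure ({g ^ m} : Set G), ← zpowers_eq_closure]
    exact h
  rw [h1]
  exact Group.isSolvable_of_surjective (f.subgroupMap_surjective (centralizer ({g ^ m} : Set G)))

theorem two_dvd_of_nonsolvable {H : Type*} [Group H] [Finite H] (h : ¬ Group.IsSolvable H) :
    2 ∣ Nat.card H := by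
  by_contra h2
  exact h (isSolvable_of_odd_card (Nat.not_even_iff_odd.1 fun he => h2 he.two_dvd))

/-- In a simple group with abelian Sylow 2-subgroup of rank two, `N(S)` is transitive on
involutions of `S`. -/
theorem transitive_of_rank_two [IsSimpleGroup G] (hG : ¬ IsMulCommutative G) (S : Sylow 2 G)
    [IsMulCommutative (S : Subgroup G)] {A : Subgroup G} (hAS : A ≤ (S : Subgroup G))
    (hA : ∀ x ∈ (S : Subgroup G), x ∈ A ↔ x * x = 1) (h4 : Nat.card A = 4) {a b : G}
    (ha : a ∈ A) (ha1 : a ≠ 1) (hb : b ∈ A) (hb1 : b ≠ 1) :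
    ∃ n ∈ normalizer ((S : Subgroup G) : Set G), n * a * n⁻¹ = b := by
  classical
  haveI : Fact (Nat.Prime 2) := ⟨Nat.prime_two⟩
  obtain ⟨n, hn, hne⟩ := CfsgLib.Inv53.exists_moves hG S (hAS ha) ha1
  have hmem : ∀ x ∈ A, n * x * n⁻¹ ∈ A := fun x hx => by
    have hxS : n * x * n⁻¹ ∈ (S : Subgroup G) := (mem_normalizer_iff.1 hn x).1 (hAS hx)
    refine (hA _ hxS).2 ?_
    rw [show n * x * n⁻¹ * (n * x * n⁻¹) = n * (x * x) * n⁻¹ by group, (hA x (hAS hx)).1 hx,
      mul_one, mul_inv_cancel]
  set c := n * a * n⁻¹ with hc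
  have hcA : c ∈ A := hmem a ha
  have hc1 : c ≠ 1 := fun e => ha1 (by rw [hc, mul_inv_eq_one] at e; simpa using e)
  have ha2 : a * a = 1 := (hA a (hAS ha)).1 ha
  have hac : a * c ≠ 1 := fun e => hne (by
    rw [eq_inv_of_mul_eq_one_right e, inv_eq_of_mul_eq_one_right ha2])
  have hall : ∀ x ∈ A, x = 1 ∨ x = a ∨ x = c ∨ x = a * c := by
    have h4' : ({1, a, c, a * c} : Finset G).card = 4 := by
      rw [Finset.card_insert_of_notMem, Finset.card_insert_of_notMem,
        Finset.card_insert_of_notMem, Finset.card_singleton]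
      · simpa using fun e : c = a * c => ha1 (by simpa using e.symm)
      · simp only [Finset.mem_insert, Finset.mem_singleton, not_or]
        exact ⟨Ne.symm hne, fun e => hc1 (by simpa using e.symm)⟩
      · simp only [Finset.mem_insert, Finset.mem_singleton, not_or]
        exact ⟨Ne.symm ha1, Ne.symm hc1, Ne.symm hac⟩
    intro x hx
    have hsub : (({1, a, c, a * c} : Finset G) : Set G) ⊆ (A : Set G) := by
      intro y hy
      simp only [Finset.coe_insert, Finset.coe_singleton, Set.mem_insert_iff,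
        Set.mem_singleton_iff] at hy
      rcases hy with rfl | rfl | rfl | rfl
      exacts [one_mem _, ha, hcA, mul_mem ha hcA]
    have heq := Set.eq_of_subset_of_ncard_le hsub (by
      rw [Set.ncard_coe_finset, h4', ← Nat.card_coe_set_eq]
      exact h4.le) (Set.toFinite _)
    have hx' : x ∈ (({1, a, c, a * c} : Finset G) : Set G) := heq.symm ▸ hx
    simpa using hx'
  have hd : n * c * n⁻¹ = a * c := by
    rcases hall _ (hmem c hcA) with e | e | e | e
    · exact absurd (by rw [mul_inv_eq_one] at e; simpa using e) hc1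
    · exfalso
      have hsq : Commute (n * n) a := by
        show n * n * a = a * (n * n)
        calc n * n * a = n * (n * a * n⁻¹) * n⁻¹ * (n * n) := by group
          _ = a * (n * n) := by rw [← hc, e]
      exact hne (mul_inv_eq_iff_eq_mul.2 (CfsgLib.Inv53.fix_of_sq_fix S hn (hAS ha) hsq))
    · exact absurd (by
        have : n * c * n⁻¹ = n * a * n⁻¹ := e.trans hc
        simpa using this) (fun e' : c = a => hne e')
    · exact e
  rcases hall b hb with e | e | e | e
  · exact absurd e hb1
  · exact ⟨1, one_mem _, by rw [e]; group⟩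
  · exact ⟨n, hn, e.symm⟩
  · exact ⟨n * n, mul_mem hn hn, by rw [e, ← hd, hc]; group⟩

/-- The number of elements of order at most two in a power of a cyclic 2-group. -/
theorem card_sq_eq_one_pi (m r : ℕ) (hm : 1 ≤ m) :
    Nat.card {x : Fin r → Multiplicative (ZMod (2 ^ m)) // x * x = 1} = 2 ^ r := by
  haveI : NeZero (2 ^ m) := ⟨by positivity⟩
  have hc : Nat.card {y : Multiplicative (ZMod (2 ^ m)) // y * y = 1} = 2 := by
    have h := IsCyclic.card_powMonoidHom_ker (Multiplicative (ZMod (2 ^ m))) 2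
    rw [Nat.card_congr Multiplicative.toAdd, Nat.card_zmod,
      Nat.gcd_eq_right (dvd_pow_self 2 (by omega))] at h
    refine Eq.trans (Nat.card_congr (Equiv.subtypeEquivRight fun y => ?_)) h
    rw [MonoidHom.mem_ker, powMonoidHom_apply, sq]
  let e : {x : Fin r → Multiplicative (ZMod (2 ^ m)) // x * x = 1} ≃
      (Fin r → {y : Multiplicative (ZMod (2 ^ m)) // y * y = 1}) :=
    { toFun := fun x i => ⟨x.1 i, congrFun x.2 i⟩
      invFun := fun f => ⟨fun i => (f i).1, funext fun i => (f i).2⟩
      left_inv := fun _ => rfl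
      right_inv := fun _ => rfl }
  rw [Nat.card_congr e, Nat.card_pi, Finset.prod_congr rfl (fun _ _ => hc), Finset.prod_const, Finset.card_univ,
    Fintype.card_fin]

/-- The simple groups of 2-rank at most two. -/
theorem simple_small_rank {M : Type u} [Group M] [Finite M] [IsSimpleGroup M]
    (hM : ¬ IsMulCommutative M) (S : Sylow 2 M) (hS : IsMulCommutative (S : Subgroup M))
    (hr : Nat.card (Cfsg.omegaOne 2 (S : Subgroup M)) < 2 ^ 3) :
    ∃ (F : Type) (_ : Field F) (_ : Fintype F), GoodField F ∧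
      Nonempty (M ≃* Matrix.ProjectiveSpecialLinearGroup (Fin 2) F) := by
  classical
  haveI : Fact (Nat.Prime 2) := ⟨Nat.prime_two⟩
  have hns : ¬ Group.IsSolvable M := fun h => hM
    ⟨⟨fun a b => (IsSimpleGroup.comm_iff_isSolvable.2 h) a b⟩⟩
  have hO : ∀ N : Subgroup M, N.Normal → Odd (Nat.card N) → N = ⊥ := fun N hN hodd =>
    (IsSimpleGroup.eq_bot_or_eq_top_of_normal N hN).resolve_right fun e => by
      subst e
      rw [Subgroup.card_top] at hodd
      exact hns (isSolvable_of_odd_card hodd)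
  have h2 := two_dvd_of_nonsolvable hns
  have hbot : Cfsg.oddCore M = ⊥ := hO _ inferInstance (Nat.coprime_two_right.1
    (CfsgLib.PLocal.coprime_card_pPrimeCore 2 M))
  set A := Cfsg.omegaOne 2 (S : Subgroup M) with hAdef
  have hAel : Cfsg.IsElementaryAbelian 2 A := CfsgLib.PLocal.isElementaryAbelian_omegaOne hS
  have hAS : A ≤ (S : Subgroup M) := CfsgLib.PLocal.omegaOne_le _ _
  have hA : ∀ x ∈ (S : Subgroup M), x ∈ A ↔ x * x = 1 := fun x hx =>
    ⟨fun h => by rw [← sq]; exact hAel.2 x h,
      fun h => CfsgLib.PLocal.mem_omegaOne hx (by rw [sq, h])⟩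
  have h4le : 4 ≤ Nat.card A := by
    by_contra hlt
    have hcyc : IsCyclic (S : Subgroup M) := CfsgLib.Small.isCyclic_of_unique_invol S.isPGroup'
      (fun x y => hS.is_comm.comm x y) fun x y hx hy => by
        by_contra hxy
        have hmem : ∀ z : (S : Subgroup M), orderOf z = 2 → (z : M) ∈ A ∧ (z : M) ≠ 1 :=
          fun z hz => ⟨(hA _ z.2).2 (congrArg Subtype.val (mul_self_of_orderOf hz)),
            fun e => ne_one_of_orderOf hz (Subtype.ext e)⟩
        have h3 : ({1, (x : M), (y : M)} : Set M) ⊆ (A : Set M) := by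
          rintro z (rfl | rfl | rfl)
          exacts [one_mem _, (hmem x hx).1, (hmem y hy).1]
        have h5 := Set.ncard_le_ncard h3 (Set.toFinite _)
        rw [Set.ncard_eq_three.2 ⟨1, (x : M), (y : M), (hmem x hx).2.symm, (hmem y hy).2.symm,
          fun e => hxy (Subtype.ext e), rfl⟩, ← Nat.card_coe_set_eq] at h5
        obtain ⟨k, hk⟩ := IsPGroup.iff_card.1 (S.isPGroup'.to_le hAS)
        have h6 : 3 ≤ Nat.card A := h5
        rcases k with _ | _ | k <;> simp [hk] at h6 hlt
        have : 1 ≤ 2 ^ k := Nat.one_le_two_pow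
        rw [pow_succ, pow_succ] at hlt
        omega
    have hp := CfsgLib.GW.isPGroup_of_cyclic_sylow S hcyc hbot
    haveI := hp.isNilpotent
    exact hns inferInstance
  have h4 : Nat.card A = 4 := by
    obtain ⟨k, hk⟩ := IsPGroup.iff_card.1 (S.isPGroup'.to_le hAS)
    rw [hk] at h4le hr ⊢
    have h1 : k < 3 := (Nat.pow_lt_pow_iff_right (by norm_num)).1 hr
    interval_cases k <;> simp_all
  -- homocyclic
  letI : CommGroup (S : Subgroup M) :=
    { (inferInstance : Group (S : Subgroup M)) with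
      mul_comm := fun a b => hS.is_comm.comm a b }
  haveI : Nontrivial (S : Subgroup M) := (Subgroup.nontrivial_iff_ne_bot _).2 fun e => by
    have := card_dvd_of_le hAS
    rw [e, card_bot, h4] at this
    omega
  obtain ⟨m, r, ⟨e⟩⟩ := CfsgLib.OneClassInvolutions.homocyclic_of_transitive
    (A := (S : Subgroup M)) S.isPGroup' fun x y hx hx2 hy hy2 => by
      have hxA : (x : M) ∈ A := (hA _ x.2).2 (by rw [← sq]; exact congrArg Subtype.val hx2)
      have hyA : (y : M) ∈ A := (hA _ y.2).2 (by rw [← sq]; exact congrArg Subtype.val hy2)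
      obtain ⟨n, hn, hnxy⟩ := transitive_of_rank_two hM S hAS hA h4 hxA
        (fun e => hx (Subtype.ext e)) hyA (fun e => hy (Subtype.ext e))
      exact ⟨MulAut.conjNormal (H := ((S : Subgroup M).subgroupOf
        (normalizer ((S : Subgroup M) : Set M)))) ⟨n, hn⟩ |> fun φ =>
          ((subgroupOfEquivOfLe le_normalizer).symm.trans φ).trans (subgroupOfEquivOfLe le_normalizer),
        Subtype.ext hnxy⟩
  have hm : 1 ≤ m := by
    by_contra hm
    obtain rfl : m = 0 := by omega
    haveI : Subsingleton (Multiplicative (ZMod (2 ^ 0))) :=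
      inferInstanceAs (Subsingleton (Multiplicative (ZMod 1)))
    haveI := e.toEquiv.subsingleton
    exact not_subsingleton (S : Subgroup M) inferInstance
  obtain rfl : r = 2 := by
    have h := card_sq_eq_one_pi m r hm
    have heq : Nat.card A = Nat.card {x : (S : Subgroup M) // x * x = 1} :=
      Nat.card_congr
        { toFun := fun x => ⟨⟨x, hAS x.2⟩, Subtype.ext ((hA _ (hAS x.2)).1 x.2)⟩
          invFun := fun x => ⟨x.1, (hA _ x.1.2).2 (congrArg Subtype.val x.2)⟩
          left_inv := fun _ => rfl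
          right_inv := fun _ => rfl }
    rw [h4, Nat.card_congr (e.toEquiv.subtypeEquiv (q := fun y => y * y = 1) fun x => by
      rw [show (e.toEquiv x) * (e.toEquiv x) = e (x * x) from (map_mul e x x).symm,
        EmbeddingLike.map_eq_one_iff]), h] at heq
    exact (Nat.pow_right_injective (le_refl 2) (show 2 ^ 2 = 2 ^ r from heq)).symm
  let e2 : (S : Subgroup M) ≃* Multiplicative (ZMod (2 ^ m) × ZMod (2 ^ m)) :=
    (e.trans
      { piFinTwoEquiv fun _ : Fin 2 => Multiplicative (ZMod (2 ^ m)) with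
        map_mul' := fun _ _ => rfl }).trans (MulEquiv.prodMultiplicative (ZMod (2 ^ m)) (ZMod (2 ^ m))).symm
  -- `m = 1`
  have hm1 : m = 1 := by
    by_contra hne
    obtain ⟨hn, -, -⟩ := Cfsg.Agent.S0949.result S m (by omega) e2 hO
    rcases IsSimpleGroup.eq_bot_or_eq_top_of_normal _ hn with h | h
    · exact Subgroup.nontrivial_iff_ne_bot _ |>.1 ‹_› h
    · have hp : IsPGroup 2 M := (h ▸ S.isPGroup').of_equiv Subgroup.topEquiv
      haveI := hp.isNilpotent
      exact hns inferInstance
  subst hm1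
  have hScard : Nat.card (S : Subgroup M) = 4 := by
    rw [Nat.card_congr e2.toEquiv, Nat.card_congr Multiplicative.toAdd, Nat.card_prod,
      Nat.card_zmod]
    norm_num
  haveI : IsKleinFour (S : Subgroup M) := by
    refine ⟨hScard, ?_⟩
    refine (Monoid.exponent_eq_prime_iff Nat.prime_two).2 fun g hg => ?_
    refine orderOf_eq_prime (p := 2) ?_ hg
    have hgA : (g : M) ∈ A := by
      rw [Subgroup.eq_of_le_of_card_ge hAS (by rw [hScard, h4])]
      exact g.2
    exact Subtype.ext (hAel.2 _ hgA)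
  obtain ⟨eD⟩ := IsKleinFour.nonempty_mulEquiv (G₁ := (S : Subgroup M)) (G₂ := DihedralGroup 2)
  have hodd : ¬ 8 ∣ Nat.card M := fun h8 => by
    have h8' : 2 ^ 3 ∣ Nat.card (S : Subgroup M) := by
      have := Sylow.pow_dvd_card_of_pow_dvd_card S (n := 3) (by simpa using h8)
      simpa using this
    rw [hScard] at h8'
    norm_num at h8'
  rcases CfsgLib.GW.simple_dihedral S 2 le_rfl ⟨eD⟩ with ⟨F, _, _, hFodd, hF3, ⟨eF⟩⟩ | h7
  · refine ⟨F, inferInstance, inferInstance, Or.inl ⟨?_, ?_⟩, ⟨eF⟩⟩
    · by_contra hbad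
      push Not at hbad
      apply hodd
      have hc := CfsgLib.Linear.card_PSL_two_odd (F := F) hFodd
      rw [← Nat.card_congr eF.toEquiv] at hc
      have h16 : 16 ∣ Fintype.card F ^ 2 - 1 := by
        obtain ⟨j, hj⟩ : ∃ j, Fintype.card F = 8 * j + 1 ∨ Fintype.card F = 8 * j + 7 := by
          obtain ⟨w, hw⟩ := hFodd
          exact ⟨Fintype.card F / 8, by omega⟩
        rcases hj with hj | hj <;> rw [hj]
        · exact ⟨4 * j * j + j, by ring_nf; omega⟩
        · exact ⟨4 * j * j + 7 * j + 3, by ring_nf; omega⟩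
      have := h16.mul_left (Fintype.card F)
      rw [← hc] at this
      omega
    · obtain ⟨w, hw⟩ := hFodd
      omega
  · exfalso
    obtain ⟨e7⟩ := h7
    apply hodd
    rw [Nat.card_congr e7.toEquiv, nat_card_alternatingGroup, Nat.card_eq_fintype_card,
      Fintype.card_fin]
    decide

/-- The classification modulo the case of rank at least three: the simple groups. -/
theorem simple_classified {n : ℕ} (h : RankThreeClassified.{u} n) {M : Type u} [Group M] [Finite M]
    [IsSimpleGroup M] (hle : Nat.card M ≤ n) (hM : ¬ IsMulCommutative M) (hC : SolvableCentralizers M) (S : Sylow 2 M)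
    (hS : IsMulCommutative (S : Subgroup M)) :
    ∃ (F : Type) (_ : Field F) (_ : Fintype F), GoodField F ∧
      Nonempty (M ≃* Matrix.ProjectiveSpecialLinearGroup (Fin 2) F) := by
  by_cases hr : Nat.card (Cfsg.omegaOne 2 (S : Subgroup M)) < 2 ^ 3
  · exact simple_small_rank hM S hS hr
  · obtain ⟨F, hF, hF', n, hn, hcard, he⟩ := h M hle ‹_› hM S ⟨hS, hC, not_lt.1 hr⟩
    exact ⟨F, hF, hF', Or.inr ⟨n, hn, hcard⟩, he⟩

/-- With trivial odd core a nonsolvable group has a simple normal subgroup with trivial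
centralizer. -/
theorem exists_simple_normal {Q : Type u} [Group Q] [Finite Q] (hC : SolvableCentralizers Q)
    (S : Sylow 2 Q) (hS : IsMulCommutative (S : Subgroup Q)) (hO : Cfsg.oddCore Q = ⊥)
    (hns : ¬ Group.IsSolvable Q) :
    ∃ M : Subgroup Q, M.Normal ∧ IsSimpleGroup M ∧ ¬ IsMulCommutative M ∧
      centralizer (M : Set Q) = ⊥ := by
  classical
  haveI : Fact (Nat.Prime 2) := ⟨Nat.prime_two⟩
  haveI : Nontrivial Q := by
    by_contra hnt
    rw [not_nontrivial_iff_subsingleton] at hnt
    exact hns inferInstance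
  obtain ⟨M, ⟨hMn, hMne⟩, hMmin⟩ := (Set.toFinite {K : Subgroup Q | K.Normal ∧ K ≠ ⊥}).exists_minimal
    ⟨⊤, inferInstance, top_ne_bot⟩
  have hmin : ∀ L : Subgroup Q, L.Normal → L ≤ M → L = ⊥ ∨ L = M := fun L hL hLM => by
    by_contra hc
    push Not at hc
    exact hc.2 (le_antisymm hLM (hMmin ⟨hL, hc.1⟩ hLM))
  haveI := hMn
  have hodd : ∀ K : Subgroup Q, K.Normal → ¬ 2 ∣ Nat.card K → K = ⊥ := fun K hK h2 => by
    rw [eq_bot_iff, ← hO]
    exact CfsgLib.PLocal.le_pPrimeCore (hN := hK) (CfsgLib.PLocal.not_dvd_iff_coprime.2 h2)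
  have hMeven : 2 ∣ Nat.card M := by_contra fun h2 => hMne (hodd M hMn h2)
  obtain ⟨z, hz⟩ := exists_prime_orderOf_dvd_card' (G := M) 2 hMeven
  by_cases hab : IsMulCommutative M
  · -- an abelian minimal normal subgroup: the centralizer is solvable of odd index
    exfalso
    let E : Subgroup Q := {
      carrier := {x | x ∈ M ∧ x * x = 1}
      one_mem' := ⟨one_mem M, one_mul 1⟩
      mul_mem' := by
        rintro a b ⟨ha, ha2⟩ ⟨hb, hb2⟩
        refine ⟨mul_mem ha hb, ?_⟩
        have hc : b * a = a * b := congrArg Subtype.val (mul_comm' (⟨b, hb⟩ : M) ⟨a, ha⟩)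
        rw [mul_assoc, ← mul_assoc b, hc, mul_assoc a b, hb2, mul_one, ha2]
      inv_mem' := by
        rintro a ⟨ha, ha2⟩
        exact ⟨inv_mem ha, by rw [← mul_inv_rev, ha2, inv_one]⟩ }
    have hEn : E.Normal := ⟨fun x hx g => ⟨hMn.conj_mem x hx.1 g, by
      rw [show g * x * g⁻¹ * (g * x * g⁻¹) = g * (x * x) * g⁻¹ by group, hx.2, mul_one,
        mul_inv_cancel]⟩⟩
    have hEM : E = M := (hmin E hEn fun y hy => hy.1).resolve_left fun hb => by
      have hzE : (z : Q) ∈ E := ⟨z.2, congrArg Subtype.val (mul_self_of_orderOf hz)⟩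
      rw [hb, Subgroup.mem_bot] at hzE
      exact ne_one_of_orderOf hz (Subtype.ext hzE)
    have hM2 : IsPGroup 2 M := fun a => ⟨1, Subtype.ext (by
      simpa [pow_two] using ((hEM.symm ▸ a.2 : (a : Q) ∈ E)).2)⟩
    have hMS : M ≤ (S : Subgroup Q) := (CfsgLib.PLocal.le_pCore hM2).trans (CfsgLib.PLocal.pCore_le_sylow S)
    haveI := hC (z : Q) (by rwa [Subgroup.orderOf_coe])
    have hcle : centralizer (M : Set Q) ≤ centralizer ({(z : Q)} : Set Q) :=
      centralizer_le (by simp)
    haveI : Group.IsSolvable (centralizer (M : Set Q)) :=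
      Group.isSolvable_of_isSolvable_injective (inclusion_injective hcle)
    have hSc : (S : Subgroup Q) ≤ centralizer (M : Set Q) := fun s hs =>
      mem_centralizer_iff.2 fun x hx =>
        congrArg Subtype.val (mul_comm' (⟨x, hMS hx⟩ : (S : Subgroup Q)) ⟨s, hs⟩)
    haveI : Group.IsSolvable (Q ⧸ centralizer (M : Set Q)) := isSolvable_of_odd_card (by
      rw [← Subgroup.index_eq_card, ← Nat.not_even_iff_odd]
      exact fun he => S.not_dvd_index (he.two_dvd.trans (index_dvd_of_le hSc)))
    exact hns ((Group.isSolvable_iff_subgroup_quotient _).2 ⟨‹_›, ‹_›⟩)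
  obtain ⟨T, _, _, m, hm, hTs, hTc, ⟨eM⟩⟩ :=
    CfsgLib.CharSimple.exists_equiv_pi hMn hMne hmin hab
  haveI := hTs
  have hTns : ¬ Group.IsSolvable T := fun h => hTc
    ⟨⟨fun a b => (IsSimpleGroup.comm_iff_isSolvable.2 h) a b⟩⟩
  have hm1 : m = 1 := by
    by_contra hne
    let i : Fin m := ⟨0, by omega⟩
    let j : Fin m := ⟨1, by omega⟩
    have hij : i ≠ j := by simp [i, j, Fin.ext_iff]
    obtain ⟨w, hw⟩ := exists_prime_orderOf_dvd_card' (G := T) 2 (two_dvd_of_nonsolvable hTns)
    let ι : Fin m → T →* Q := fun k =>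
      M.subtype.comp (eM.symm.toMonoidHom.comp (MonoidHom.mulSingle (fun _ : Fin m => T) k))
    have hι : ∀ k, Function.Injective (ι k) := fun k =>
      M.subtype_injective.comp (eM.symm.injective.comp
        (Pi.mulSingle_injective (M := fun _ : Fin m => T) k))
    haveI := hC (ι i w) (by rw [orderOf_injective _ (hι i), hw])
    let f : T →* centralizer ({ι i w} : Set Q) := (ι j).codRestrict _ fun x =>
      mem_centralizer_singleton_iff.2 (by
        have hcm : Commute (Pi.mulSingle (M := fun _ : Fin m => T) j x)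
            (Pi.mulSingle (M := fun _ : Fin m => T) i w) :=
          Pi.mulSingle_commute (f := fun _ : Fin m => T) hij.symm x w
        exact (hcm.map (M.subtype.comp eM.symm.toMonoidHom)).eq)
    exact hTns (Group.isSolvable_of_isSolvable_injective (f := f)
      fun a b e => hι j (congrArg Subtype.val e :))
  subst hm1
  have eT : M ≃* T := eM.trans (MulEquiv.piUnique fun _ : Fin 1 => T)
  haveI : Nontrivial M := eT.toEquiv.nontrivial
  haveI : IsSimpleGroup M :=
    IsSimpleGroup.isSimpleGroup_of_surjective eT.symm.toMonoidHom eT.symm.surjective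
  refine ⟨M, hMn, ‹_›, hab, hodd _ inferInstance fun h2 => ?_⟩
  obtain ⟨x, hx⟩ := exists_prime_orderOf_dvd_card' (G := centralizer (M : Set Q)) 2 h2
  haveI := hC (x : Q) (by rwa [Subgroup.orderOf_coe])
  have hle : M ≤ centralizer ({(x : Q)} : Set Q) := fun y hy =>
    mem_centralizer_singleton_iff.2 (mem_centralizer_iff.1 x.2 y hy)
  haveI : Group.IsSolvable M := Group.isSolvable_of_isSolvable_injective (inclusion_injective hle)
  exact hTns (Group.isSolvable_of_surjective (f := eT.toMonoidHom) eT.surjective)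

/-- **The reduction**: the classification follows from the simple groups of rank at least three. -/
theorem classification_of_simple {G : Type u} [Group G] [Finite G]
    (h : RankThreeClassified.{u} (Nat.card G)) (S : Sylow 2 G) (hS : IsMulCommutative (S : Subgroup G)) (hC : SolvableCentralizers G) :
    Group.IsSolvable G ∨
      ∃ (F : Type) (_ : Field F) (_ : Fintype F), GoodField F ∧
        ∃ N : Subgroup (G ⧸ Cfsg.oddCore G), N.Normal ∧
          Nonempty (↥N ≃* Matrix.ProjectiveSpecialLinearGroup (Fin 2) F) ∧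
          centralizer (N : Set (G ⧸ Cfsg.oddCore G)) = ⊥ := by
  haveI : Fact (Nat.Prime 2) := ⟨Nat.prime_two⟩
  have hOodd : Odd (Nat.card (Cfsg.oddCore G)) :=
    Nat.coprime_two_right.1 (CfsgLib.PLocal.coprime_card_pPrimeCore 2 G)
  by_cases hns : Group.IsSolvable (G ⧸ Cfsg.oddCore G)
  · refine Or.inl ?_
    haveI : Group.IsSolvable (Cfsg.oddCore G) := isSolvable_of_odd_card hOodd
    exact (Group.isSolvable_iff_subgroup_quotient _).2 ⟨‹_›, hns⟩
  refine Or.inr ?_
  set S' : Sylow 2 (G ⧸ Cfsg.oddCore G) :=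
    S.mapSurjective (QuotientGroup.mk'_surjective (Cfsg.oddCore G)) with hS'
  have hS'ab : IsMulCommutative (S' : Subgroup (G ⧸ Cfsg.oddCore G)) := by
    rw [hS', Sylow.coe_mapSurjective]; exact inferInstance
  have hC' := solvableCentralizers_quotient hC (Cfsg.oddCore G) hOodd
  obtain ⟨M, hMn, hMs, hMc, hcent⟩ := exists_simple_normal hC' S' hS'ab
    (CfsgLib.PLocal.pPrimeCore_quotient_pPrimeCore_eq_bot 2 G) hns
  obtain ⟨P⟩ : Nonempty (Sylow 2 M) := inferInstance
  haveI := hMs
  obtain ⟨F, hF, hF', hgood, he⟩ := simple_classified h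
    ((Nat.le_of_dvd Nat.card_pos (card_subgroup_dvd_card M)).trans
      (Nat.le_of_dvd Nat.card_pos (Cfsg.oddCore G).card_quotient_dvd_card)) hMc
    (solvableCentralizers_subgroup hC' M) P (abelian_sylow_subgroup S' hS'ab M P)
  exact ⟨F, hF, hF', hgood, M, hMn, he, hcent⟩

end CfsgLib.AbelSolvCent
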