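import Cfsg.Agent.AbelSolvCent.Semiregular
import Cfsg.Agent.AbelSolvCent.Reduction

/-!
# The context for the semiregularity of `W`

`Ctx G Ω`: `G` acts on `Ω` with unique fixed points of involutions; every point `z` carries an
abelian Sylow 2-subgroup `syl z` satisfying `Hyp` whose `mid` is the stabilizer of `z`, so
`W z = O(G_z)` and `A z = Ω₁(syl z)`; proper subgroups satisfy the classification (`SubClassified`).

All later lemmas are stated for an arbitrary point, so no translation to the base point is needed.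
-/

set_option autoImplicit false
set_option linter.style.haveILetI false
set_option linter.unusedSectionVars false

namespace CfsgLib.AbelSolvCent

open Subgroup CfsgLib.SEmbed

universe u v

/-- The classification for the proper subgroups. -/
def SubClassified (G : Type u) [Group G] [Finite G] : Prop :=
  ∀ Y : Subgroup G, Y ≠ ⊤ → ¬ Group.IsSolvable Y →
    ∃ (F : Type) (_ : Field F) (_ : Fintype F), GoodField F ∧
      ∃ N : Subgroup (Y ⧸ Cfsg.oddCore Y), N.Normal ∧
        Nonempty (↥N ≃* Matrix.ProjectiveSpecialLinearGroup (Fin 2) F) ∧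
        centralizer (N : Set (Y ⧸ Cfsg.oddCore Y)) = ⊥

/-- The context. -/
structure Ctx (G : Type u) [Group G] [Finite G] (Ω : Type v) [MulAction G Ω] where
  fix : UniqueFix G Ω
  nontriv : ∀ z : Ω, ∃ y, y ≠ z
  syl : Ω → Sylow 2 G
  hyp : ∀ z, Hyp (syl z)
  stab : ∀ z, MulAction.stabilizer G z = mid (syl z)
  conj : ∀ (g : G) (z : Ω),
    oddPart (syl (g • z)) = (oddPart (syl z)).map (MulAut.conj g).toMonoidHom
  sub : SubClassified G

variable {G : Type u} [Group G] [Finite G]

theorem map_omegaS_conj (S : Sylow 2 G) (g : G) :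
    omegaS (g • S) = (omegaS S).map (MulAut.conj g).toMonoidHom := by
  show Subgroup.closure _ = (Subgroup.closure _).map _
  rw [MonoidHom.map_closure]
  refine congrArg Subgroup.closure (Set.ext fun x => ⟨fun hx => ?_, ?_⟩)
  · obtain ⟨hxS, hx2⟩ := hx
    rw [Sylow.coe_subgroup_smul] at hxS
    obtain ⟨s, hs, rfl⟩ := hxS
    refine ⟨s, ⟨hs, ?_⟩, rfl⟩
    exact (MulAut.conj g).injective (by rw [map_pow, map_one]; exact hx2)
  · rintro ⟨s, ⟨hs, hs2⟩, rfl⟩
    refine ⟨?_, ?_⟩
    · rw [Sylow.coe_subgroup_smul]; exact ⟨s, hs, rfl⟩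
    · show (MulAut.conj g s) ^ 2 = 1
      rw [← map_pow, hs2, map_one]

theorem oddPart_conj (S : Sylow 2 G) (g : G) :
    oddPart (g • S) = (oddPart S).map (MulAut.conj g).toMonoidHom := by
  show CfsgLib.ZCGroup.cl (omegaS (g • S)) = _
  rw [map_omegaS_conj, CfsgLib.ZCGroup.closure_conj]

theorem mem_mid_conj {S : Sylow 2 G} {g x : G} :
    x ∈ mid (g • S) ↔ g⁻¹ * x * g ∈ mid S := by
  have h : mid (g • S) = (mid S).map (MulAut.conj g).toMonoidHom := by
    show oddPart (g • S) ⊔ normalizer ((g • S : Sylow 2 G) : Set G) = _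
    rw [Subgroup.map_sup, oddPart_conj]
    congr 1
    rw [show ((g • S : Sylow 2 G) : Set G) =
      (((S : Subgroup G).map (MulAut.conj g).toMonoidHom : Subgroup G) : Set G) from rfl]
    exact (Subgroup.map_equiv_normalizer_eq (S : Subgroup G) (MulAut.conj g)).symm
  rw [h, Subgroup.mem_map]
  constructor
  · rintro ⟨y, hy, rfl⟩
    simpa [mul_assoc] using hy
  · intro hx
    exact ⟨_, hx, by simp [mul_assoc]⟩

theorem Hyp.conj {S : Sylow 2 G} (h : Hyp S) (g : G) : Hyp (g • S) := by
  refine ⟨?_, h.solv, ?_⟩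
  · rw [Sylow.coe_subgroup_smul]
    haveI := h.ab
    exact inferInstanceAs (IsMulCommutative ((S : Subgroup G).map (MulAut.conj g).toMonoidHom))
  · show 2 ^ 3 ≤ Nat.card (omegaS (g • S))
    rw [map_omegaS_conj, card_map_of_injective (MulAut.conj g).injective]
    exact h.rank3

/-- The context of a simple group with `Hyp S`. -/
noncomputable def Ctx.ofHyp {S : Sylow 2 G} (h : Hyp S) (hM : mid S ≠ ⊤)
    (hsub : SubClassified G) : Ctx G (G ⧸ mid S) where
  fix := uniqueFix (h.stronglyEmbedded hM)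
  nontriv := fun z => by
    haveI := nontrivial_cosets (h.stronglyEmbedded hM)
    exact exists_ne z
  syl := fun z => z.out • S
  hyp := fun z => h.conj _
  stab := fun z => by
    ext x
    rw [stabilizer_eq_atPoint, mem_atPoint, mem_mid_conj]
  conj := fun g z => by
    obtain ⟨m, hm⟩ := QuotientGroup.mk_out_eq_mul (mid S) (g * z.out)
    have he : g • z = ((g * z.out : G) : G ⧸ mid S) := by
      conv_lhs => rw [← QuotientGroup.out_eq' z]
      rfl
    rw [oddPart_conj, oddPart_conj, he, hm, map_map]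
    have hn : (oddPart S).map (MulAut.conj (m : G)).toMonoidHom = oddPart S :=
      mem_normalizer_iff_map_conj_eq.1 (h.mid_le_normalizer m.2)
    conv_lhs => rw [show (MulAut.conj (g * z.out * (m : G))).toMonoidHom =
      ((MulAut.conj g).toMonoidHom.comp (MulAut.conj z.out).toMonoidHom).comp
        (MulAut.conj (m : G)).toMonoidHom from MonoidHom.ext fun x => by simp [mul_assoc],
      ← map_map, hn]
  sub := hsub

namespace Ctx

variable {Ω : Type v} [MulAction G Ω] (c : Ctx G Ω)

/-- The odd core of the stabilizer of `z`. -/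
abbrev W (z : Ω) : Subgroup G := oddPart (c.syl z)

/-- `Ω₁` of the chosen Sylow 2-subgroup at `z`. -/
abbrev A (z : Ω) : Subgroup G := omegaS (c.syl z)

/-- The case that `A` centralizes `W` at every point. -/
def Central : Prop := ∀ z, ∀ a ∈ c.A z, ∀ w ∈ c.W z, Commute a w

/-- `r` is good: normalizers of `A`-invariant `r`-subgroups stay in the stabilizer. -/
def Good (r : ℕ) : Prop :=
  ∀ z, ∀ T : Subgroup G, T ≠ ⊥ → IsPGroup r T → c.A z ≤ normalizer (T : Set G) →
    normalizer (T : Set G) ≤ MulAction.stabilizer G z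

theorem mem_W_smul {g x : G} {z : Ω} : x ∈ c.W (g • z) ↔ g⁻¹ * x * g ∈ c.W z := by
  show x ∈ oddPart (c.syl (g • z)) ↔ _
  rw [c.conj, Subgroup.mem_map]
  constructor
  · rintro ⟨y, hy, rfl⟩
    simpa [mul_assoc] using hy
  · intro hx
    exact ⟨_, hx, by simp [mul_assoc]⟩

theorem odd_W (z : Ω) : Odd (Nat.card (c.W z)) := (c.hyp z).odd_oddPart

theorem W_le_stab (z : Ω) : c.W z ≤ MulAction.stabilizer G z := by
  rw [c.stab]; exact le_sup_left

theorem A_le_stab (z : Ω) : c.A z ≤ MulAction.stabilizer G z := by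
  rw [c.stab]; exact omegaS_le_mid _

theorem stab_le_normalizer_W (z : Ω) :
    MulAction.stabilizer G z ≤ normalizer (c.W z : Set G) := by
  rw [c.stab]; exact (c.hyp z).mid_le_normalizer

theorem A_mem {z : Ω} {a : G} (ha : a ∈ c.A z) (h1 : a ≠ 1) :
    a ∈ invMap (G := G) z z :=
  ⟨(c.hyp z).orderOf_mem ha h1, c.A_le_stab z ha⟩

theorem A_comm {z : Ω} {a b : G} (ha : a ∈ c.A z) (hb : b ∈ c.A z) : Commute a b :=
  (c.hyp z).comm (omegaS_le _ ha) (omegaS_le _ hb)

theorem le_W {z : Ω} {X : Subgroup G} (hX : Odd (Nat.card X))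
    (hA : c.A z ≤ normalizer (X : Set G)) : X ≤ c.W z :=
  (c.hyp z).le_oddPart hX hA

include c in
theorem centralizer_le_stab {z : Ω} {t : G} (ht : t ∈ invMap (G := G) z z) :
    centralizer ({t} : Set G) ≤ MulAction.stabilizer G z :=
  SEmbed.centralizer_le_stabilizer c.fix ht

/-- Every involution at `z` is conjugate under `W z` to one in `A z`. -/
theorem exists_conj_A {z : Ω} {t : G} (ht : t ∈ invMap (G := G) z z) :
    ∃ w ∈ c.W z, w * t * w⁻¹ ∈ c.A z := by
  have h := c.hyp z
  have htm : t ∈ mid (c.syl z) := (c.stab z).le ht.2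
  obtain ⟨m, hm, hmA⟩ := h.exists_conj_omegaS htm ht.1
  have hm' : m ∈ ((oddPart (c.syl z) ⊔ normalizer ((c.syl z : Subgroup G) : Set G) :
      Subgroup G) : Set G) := hm
  rw [Subgroup.coe_mul_of_right_le_normalizer_left _ _ h.normalizer_le] at hm'
  obtain ⟨w, hw, n, hn, rfl⟩ := hm'
  refine ⟨n⁻¹ * w * n, ?_, ?_⟩
  · simpa [mul_assoc] using (mem_normalizer_iff.1 (h.normalizer_le (inv_mem hn)) w).1 hw
  · have := h.omegaS_conj (inv_mem hn) hmA
    simpa [mul_assoc] using this

theorem Central.mem_A {c : Ctx G Ω} (hc : c.Central) {z : Ω} {t : G}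
    (ht : t ∈ invMap (G := G) z z) : t ∈ c.A z := by
  obtain ⟨w, hw, hwA⟩ := c.exists_conj_A ht
  have h := (hc z _ hwA w hw).eq
  have : t = w * t * w⁻¹ := by
    calc t = w⁻¹ * (w * t * w⁻¹ * w) := by group
      _ = w⁻¹ * (w * (w * t * w⁻¹)) := by rw [h]
      _ = _ := by group
  rwa [this]

end Ctx

end CfsgLib.AbelSolvCent
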