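import Cfsg.Agent.AbelSolvCent.Sylows
import Cfsg.Agent.Coprime.Action
import Cfsg.Agent.SEmbed.Swap
import Cfsg.Agent.Solvable.Fitting

/-!
# Good primes

`exists_bad_sylow`: for a bad odd prime `r` some `A`-invariant maximal `r`-subgroup of `W z` has
normalizer outside the stabilizer.  `Good.eq_of_fix`: if `r` is good and `A` does not centralize a
normal `r`-subgroup of the stabilizer in `W z`, no nontrivial `r`-element of `W z` fixes a second
point.  `good_of_fitting`: if `F(W z)` is an `r`-group, `r` is good.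
-/

set_option autoImplicit false
set_option linter.style.haveILetI false
set_option linter.unusedSectionVars false

namespace CfsgLib.AbelSolvCent

open Subgroup CfsgLib.SEmbed
open CfsgLib.LocalEven.LocallyFree (good_of_le)

universe u v

variable {G : Type u} [Group G] [Finite G] {Ω : Type v} [MulAction G Ω]

namespace Ctx

variable (c : Ctx G Ω)

/-- `A` at another point is a conjugate of `A`. -/
theorem exists_conj_A_smul (g : G) (z : Ω) :
    ∃ h : G, h • z = g • z ∧ (c.A z).map (MulAut.conj h).toMonoidHom = c.A (g • z) := by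
  haveI : Fact (Nat.Prime 2) := ⟨Nat.prime_two⟩
  have h1 : ((g • c.syl z : Sylow 2 G) : Subgroup G) ≤ MulAction.stabilizer G (g • z) := by
    rw [Sylow.coe_subgroup_smul]
    rintro _ ⟨s, hs, rfl⟩
    show (g * s * g⁻¹) • g • z = g • z
    rw [smul_smul, inv_mul_cancel_right, mul_smul,
      show s • z = z from (c.stab z).ge (sylow_le_mid _ hs)]
  have h2 : (c.syl (g • z) : Subgroup G) ≤ MulAction.stabilizer G (g • z) :=
    (sylow_le_mid _).trans (c.stab _).ge
  obtain ⟨l, hl, hle⟩ := exists_conj_of_card_eq (p := 2) h2 h1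
    (card_of_max h2 (c.syl (g • z)).isPGroup' fun P hP hle _ => (c.syl (g • z)).is_maximal' hP hle)
    (card_of_max h1 (g • c.syl z).isPGroup' fun P hP hle _ => (g • c.syl z).is_maximal' hP hle)
  refine ⟨l * g, by rw [mul_smul, show l • g • z = g • z from hl], ?_⟩
  have hS : l • g • c.syl z = c.syl (g • z) := Sylow.ext (by
    rw [Sylow.coe_subgroup_smul]; exact hle)
  show _ = omegaS (c.syl (g • z))
  rw [← hS, ← mul_smul, map_omegaS_conj]

variable [IsSimpleGroup G]

include c in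
theorem normalizer_ne_top_of_le {z : Ω} {T : Subgroup G} (hT : T ≠ ⊥)
    (hTz : T ≤ MulAction.stabilizer G z) : normalizer (T : Set G) ≠ ⊤ := by
  intro htop
  haveI : T.Normal := normalizer_eq_top_iff.1 htop
  rcases IsSimpleGroup.eq_bot_or_eq_top_of_normal T inferInstance with h | h
  · exact hT h
  · obtain ⟨y, hy⟩ := c.nontriv z
    obtain ⟨g, hg⟩ := c.fix.transitive z y
    exact hy (hg ▸ hTz (h ▸ mem_top g))

/-- In a proper subgroup containing `A` and moving `z` the part in `W z` is normal. -/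
theorem le_normalizer_inf_W {z : Ω} {Y : Subgroup G} (hY : Y ≠ ⊤) (hA : c.A z ≤ Y)
    (hm : ¬ Y ≤ MulAction.stabilizer G z) : Y ≤ normalizer ((Y ⊓ c.W z : Subgroup G) : Set G) := by
  have hover := c.over_A hY hA hm
  obtain ⟨g₀, hg₀, hg₀z⟩ := hover.exists_moves
  set K := Y ⊓ ⨅ g : Y, MulAction.stabilizer G ((g : G) • z) with hK
  have hmem : ∀ x : G, x ∈ K ↔ x ∈ Y ∧ ∀ g ∈ Y, x • g • z = g • z := fun x => by
    rw [hK, mem_inf, mem_iInf]
    exact and_congr_right fun _ => ⟨fun h g hg => h ⟨g, hg⟩, fun h g => h g g.2⟩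
  have hYK : Y ≤ normalizer (K : Set G) := by
    intro y hy
    have hconj : ∀ y ∈ Y, ∀ x ∈ K, y * x * y⁻¹ ∈ K := fun y hy x hx => by
      obtain ⟨hxY, hx⟩ := (hmem x).1 hx
      refine (hmem _).2 ⟨mul_mem (mul_mem hy hxY) (inv_mem hy), fun g hg => ?_⟩
      have h := hx (y⁻¹ * g) (mul_mem (inv_mem hy) hg)
      rw [mul_smul, mul_smul, ← mul_smul y⁻¹ g z, h, ← mul_smul, mul_inv_cancel_left]
    rw [mem_normalizer_iff]
    refine fun x => ⟨hconj y hy x, fun hx => ?_⟩
    have := hconj y⁻¹ (inv_mem hy) _ hx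
    simpa [mul_assoc] using this
  have hKodd : Odd (Nat.card K) := by
    by_contra h
    obtain ⟨t, ht, hto⟩ := CfsgLib.Small.exists_invol_mem (Nat.not_odd_iff_even.1 h)
    obtain ⟨-, htf⟩ := (hmem t).1 ht
    exact hg₀z (c.fix.unique t hto _ _ (htf g₀ hg₀) (by simpa using htf 1 (one_mem Y)))
  have hKE : K = Y ⊓ c.W z := le_antisymm (le_inf inf_le_left (c.le_W hKodd (hA.trans hYK)))
    fun x hx => (hmem x).2 ⟨hx.1, fun g hg => hover.smul_eq_of_mem_W hx.1 hx.2 hg⟩
  rwa [hKE] at hYK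

variable {r : ℕ} [Fact r.Prime]

/-- A bad prime has an invariant maximal subgroup of `W z` with a large normalizer. -/
theorem exists_bad_sylow (hr : r ≠ 2) (hbad : ¬ c.Good r) (z : Ω) :
    ∃ P0 : Subgroup G, P0 ≠ ⊥ ∧ IsPGroup r P0 ∧ P0 ≤ c.W z ∧
      (∀ R : Subgroup G, IsPGroup r R → R ≤ c.W z → P0 ≤ R → R = P0) ∧
      c.A z ≤ normalizer (P0 : Set G) ∧
      ¬ normalizer (P0 : Set G) ≤ MulAction.stabilizer G z := by
  obtain ⟨z₀, T₀, hT₀, hT₀p, hT₀A, hT₀N⟩ : ∃ z₀, ∃ T : Subgroup G, T ≠ ⊥ ∧ IsPGroup r T ∧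
      c.A z₀ ≤ normalizer (T : Set G) ∧ ¬ normalizer (T : Set G) ≤ MulAction.stabilizer G z₀ := by
    by_contra h
    push Not at h
    exact hbad h
  obtain ⟨g, rfl⟩ := c.fix.transitive z₀ z
  obtain ⟨h, hh, hhA⟩ := c.exists_conj_A_smul g z₀
  obtain ⟨T, ⟨hT, hTp, hTA, hTN⟩, hTmax⟩ :=
    (Set.toFinite {T : Subgroup G | T ≠ ⊥ ∧ IsPGroup r T ∧ c.A (g • z₀) ≤ normalizer (T : Set G) ∧
      ¬ normalizer (T : Set G) ≤ MulAction.stabilizer G (g • z₀)}).exists_maximal
      ⟨T₀.map (MulAut.conj h).toMonoidHom,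
        fun e => hT₀ ((map_eq_bot_iff_of_injective T₀ (MulAut.conj h).injective).1 e), hT₀p.map _,
        by rw [← hhA]; exact (map_mono hT₀A).trans (le_normalizer_map _),
        fun hle => hT₀N fun n hn => by
          have h1 : (h * n * h⁻¹) • g • z₀ = g • z₀ :=
            hle ((le_normalizer_map (MulAut.conj h).toMonoidHom) ⟨n, hn, rfl⟩)
          rw [← hh, smul_smul, inv_mul_cancel_right, mul_smul, smul_left_cancel_iff] at h1
          exact h1⟩
  set z := g • z₀
  set Y := normalizer (T : Set G) with hYdef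
  have hTW : T ≤ c.W z := c.le_W (odd_of_pow hr hTp) hTA
  have hY : Y ≠ ⊤ := c.normalizer_ne_top_of_le hT (hTW.trans (c.W_le_stab z))
  set E := Y ⊓ c.W z with hE
  have hYE := c.le_normalizer_inf_W hY hTA hTN
  obtain ⟨P, hTP, hPA⟩ := CfsgLib.Coprime.exists_invariant_sylow_ge (p := r)
    (hTA.trans hYE)
    (CfsgLib.Transitivity.coprime_card_of_elab (c.hyp z).elab
      ((c.odd_W z).of_dvd_nat (card_dvd_of_le inf_le_right)).not_two_dvd_nat)
    (Or.inr (isSolvable_of_odd_card ((c.odd_W z).of_dvd_nat (card_dvd_of_le inf_le_right)))) (le_inf le_normalizer hTW) hTp hTA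
  set R := (P : Subgroup E).map E.subtype with hR
  have hRE : R ≤ E := map_subtype_le _
  have hRc : Nat.card R = r ^ (Nat.card E).factorization r := by
    rw [hR, card_map_of_injective E.subtype_injective, P.card_eq_multiplicity]
  have hRN : ¬ normalizer (R : Set G) ≤ MulAction.stabilizer G z := by
    intro hle
    refine hTN fun y hy => ?_
    obtain ⟨e, he, hen⟩ := exists_mul_normalizer (hYE hy) hRE hRc
    have h1 : (e⁻¹ * y) • z = z := hle hen
    rw [mul_smul, inv_smul_eq_iff] at h1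
    show y • z = z
    rw [h1]; exact c.W_le_stab z he.2
  have hRT : R = T := le_antisymm (hTmax ⟨fun e => hT (le_bot_iff.1 (e ▸ hTP)),
    P.isPGroup'.map _, hPA, hRN⟩ hTP) hTP
  refine ⟨T, hT, hTp, hTW, fun Q hQ hQW hTQ => ?_, hTA, hTN⟩
  by_contra hne
  have hlt : T < Q := lt_of_le_of_ne hTQ fun e => hne e.symm
  have h1 := CfsgLib.ConjFunctor.lt_inf_normalizer hQ hlt
  have h2 : Q ⊓ Y ≤ E := le_inf inf_le_right (inf_le_left.trans hQW)
  obtain ⟨k, hk⟩ := IsPGroup.iff_card.1 (hQ.to_le (inf_le_left : Q ⊓ Y ≤ Q))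
  have h3 := factorization_le_of_le (p := r) h2
  rw [hk, (Fact.out : r.Prime).factorization_pow, Finsupp.single_eq_same] at h3
  refine h1.ne (eq_of_le_of_card_ge h1.le ?_)
  rw [hk, ← hRT, hRc]
  exact Nat.pow_le_pow_right (Fact.out : r.Prime).pos h3

section Good

variable {z : Ω} {P : Subgroup G}

/-- The normalizer of `Z(J(R))` for a Sylow subgroup `R` of the stabilizer. -/
theorem Good.normalizer_zj_le {c : Ctx G Ω} (hgood : c.Good r) (hr : r ≠ 2) (hPp : IsPGroup r P)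
    (hPW : P ≤ c.W z) (hPn : MulAction.stabilizer G z ≤ normalizer (P : Set G))
    (hPA : ¬ c.A z ≤ centralizer (P : Set G)) {R : Subgroup G}
    (hRM : R ≤ MulAction.stabilizer G z) (hRp : IsPGroup r R)
    (hmax : ∀ Q : Subgroup G, IsPGroup r Q → R ≤ Q → Q ≤ MulAction.stabilizer G z → Q = R) :
    normalizer (Cfsg.centerThompsonAOf R : Set G) ≤ MulAction.stabilizer G z := by
  haveI : Fact (Nat.Prime 2) := ⟨Nat.prime_two⟩
  set M := MulAction.stabilizer G z with hM
  haveI : Group.IsSolvable M := hM ▸ (c.stab z).symm ▸ (c.hyp z).isSolvable_mid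
  set O := (Cfsg.pPrimeCore r M).map M.subtype with hO
  set Z := Cfsg.centerThompsonAOf R with hZ
  have hOM : O ≤ M := map_subtype_le _
  have hMO : M ≤ normalizer (O : Set G) := by
    refine le_trans ?_ (le_normalizer_map M.subtype)
    rw [normalizer_eq_top, ← MonoidHom.range_eq_map, range_subtype]
  have hOc : (Nat.card O).Coprime r := by
    rw [hO, card_map_of_injective M.subtype_injective]
    exact CfsgLib.PLocal.coprime_card_pPrimeCore r M
  have hPO : ∀ o ∈ O, ∀ x ∈ P, o * x = x * o := fun o ho x hx => by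
    have hxM : x ∈ M := c.W_le_stab z (hPW hx)
    have h1 : o * x * o⁻¹ * x⁻¹ ∈ P ⊓ O := by
      refine ⟨P.mul_mem ((mem_normalizer_iff.1 (hPn (hOM ho)) x).1 hx) (P.inv_mem hx), ?_⟩
      rw [mul_assoc, mul_assoc, ← mul_assoc x]
      exact O.mul_mem ho ((mem_normalizer_iff.1 (hMO hxM) o⁻¹).1 (O.inv_mem ho))
    rw [CfsgLib.PLocal.disjoint_of_isPGroup_of_coprime hPp hOc, mem_bot,
      mul_inv_eq_one, mul_inv_eq_iff_eq_mul] at h1
    exact h1
  have hOodd : Odd (Nat.card O) := by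
    by_contra h
    obtain ⟨t, ht, hto⟩ := CfsgLib.Small.exists_invol_mem (Nat.not_odd_iff_even.1 h)
    obtain ⟨y, hy⟩ := c.nontriv z
    refine hPA fun a ha => mem_centralizer_iff.2 fun x hx => ?_
    by_cases ha1 : a = 1
    · rw [ha1, one_mul, mul_one]
    obtain ⟨d, hd, hda⟩ := SEmbed.exists_conj_fix c.fix hy.symm ⟨hto, hOM ht⟩ (c.A_mem ha ha1)
    have haO : a ∈ O := hda ▸ (mem_normalizer_iff.1 (hMO hd.1) t).1 ht
    exact (hPO a haO x hx).symm
  have hP : P ≠ ⊥ := fun e => hPA fun a _ => mem_centralizer_iff.2 fun x hx => by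
    rw [e] at hx
    rw [mem_bot.1 hx, one_mul, mul_one]
  have hR : R ≠ ⊥ := fun e => hP (hmax P hPp (e ▸ bot_le) (hPW.trans (c.W_le_stab z)) |>.trans e)
  set N := normalizer (Z : Set G) ⊓ M with hN
  have hfac : M ≤ O ⊔ N := c.le_core_sup z hr hRM hRp hmax
  have hsup : N ⊔ O = M := le_antisymm (sup_le inf_le_right hOM) (sup_comm O N ▸ hfac)
  have hcard := CfsgLib.PLocal.card_sup_mul_card_inf ((inf_le_right : N ≤ M).trans hMO)
  rw [hsup] at hcard
  set v := (Nat.card M).factorization 2 with hv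
  have hdvd : 2 ^ v ∣ Nat.card N := by
    refine (Nat.Coprime.pow_left v (Nat.coprime_two_left.2 hOodd)).dvd_of_dvd_mul_right ?_
    exact hcard ▸ (Nat.ordProj_dvd _ _).mul_right _
  obtain ⟨Q, hQ⟩ := Sylow.exists_subgroup_card_pow_prime 2 hdvd
  have hSM : (c.syl z : Subgroup G) ≤ M := (sylow_le_mid _).trans (c.stab z).ge
  obtain ⟨l, hl, hlS⟩ := exists_conj_le (H := M) (A := (c.syl z : Subgroup G))
    (Q := Q.map N.subtype) (X := normalizer (Z : Set G)) hSM
    ((map_subtype_le _).trans inf_le_right) ((map_subtype_le _).trans inf_le_left) hv.symm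
    (card_of_max hSM (c.syl z).isPGroup' fun S hS hle _ => (c.syl z).is_maximal' hS hle)
    (by rw [card_map_of_injective N.subtype_injective, hQ])
  set Z' := Z.map (MulAut.conj l⁻¹).toMonoidHom with hZ'
  have hZp : IsPGroup r Z := hRp.to_le (CfsgLib.PLocal.centerThompsonAOf_le _)
  have hmapN : ∀ n, n ∈ normalizer (Z : Set G) → l⁻¹ * n * l ∈ normalizer (Z' : Set G) := fun n hn => by
    rw [show l⁻¹ * n * l = (MulAut.conj l⁻¹).toMonoidHom n by simp]
    exact le_normalizer_map (MulAut.conj l⁻¹).toMonoidHom ⟨n, hn, rfl⟩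
  have hA' : c.A z ≤ normalizer (Z' : Set G) := fun a ha => by
    have h := hmapN _ (hlS a (omegaS_le _ ha))
    simpa [mul_assoc] using h
  have hN' := hgood z Z'
    (fun e => CfsgLib.PLocal.centerThompsonAOf_ne_bot hRp hR
      ((map_eq_bot_iff_of_injective Z (MulAut.conj l⁻¹).injective).1 e)) (hZp.map _) hA'
  intro n hn
  have h1 : l⁻¹ * n * l ∈ M := hN' (hmapN n hn)
  simpa [mul_assoc] using mul_mem (mul_mem hl h1) (inv_mem hl)

/-- A Sylow subgroup of `G` inside the stabilizer. -/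
theorem Good.exists_sylow {c : Ctx G Ω} (hgood : c.Good r) (hr : r ≠ 2) (hPp : IsPGroup r P)
    (hPW : P ≤ c.W z) (hPn : MulAction.stabilizer G z ≤ normalizer (P : Set G))
    (hPA : ¬ c.A z ≤ centralizer (P : Set G)) :
    ∃ S : Sylow r G, (S : Subgroup G) ≤ MulAction.stabilizer G z ∧
      CfsgLib.LocalEven.LocallyFree.zjNorm S ≤ MulAction.stabilizer G z := by
  obtain ⟨R, ⟨hRp, hRM⟩, hRmax⟩ :=
    (Set.toFinite {R : Subgroup G | IsPGroup r R ∧ R ≤ MulAction.stabilizer G z}).exists_maximal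
      ⟨P, hPp, hPW.trans (c.W_le_stab z)⟩
  have hmax : ∀ Q : Subgroup G, IsPGroup r Q → R ≤ Q → Q ≤ MulAction.stabilizer G z → Q = R :=
    fun Q hQ hRQ hQM => le_antisymm (hRmax ⟨hQ, hQM⟩ hRQ) hRQ
  have hN := hgood.normalizer_zj_le hr hPp hPW hPn hPA hRM hRp hmax
  obtain ⟨S, hS⟩ := exists_sylow_of_max hRp hmax
    ((CfsgLib.PLocal.normalizer_le_normalizer_centerThompsonAOf R).trans hN)
  refine ⟨S, hS ▸ hRM, ?_⟩
  show normalizer (Cfsg.centerThompsonAOf (S : Subgroup G) : Set G) ≤ _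
  rwa [hS]

end Good

include c in
/-- Control of fusion by the stabilizer: a subgroup with centralizer in the stabilizer of `z` fixes
no other point. -/
theorem eq_of_centralizer_le (hr : r ≠ 2) {z y : Ω} {S : Sylow r G}
    (hS : (S : Subgroup G) ≤ MulAction.stabilizer G z)
    (hZ : CfsgLib.LocalEven.LocallyFree.zjNorm S ≤ MulAction.stabilizer G z) {T : Subgroup G}
    (hTp : IsPGroup r T) (hTz : T ≤ MulAction.stabilizer G z)
    (hTy : T ≤ MulAction.stabilizer G y)
    (hC : centralizer (T : Set G) ≤ MulAction.stabilizer G z) : y = z := by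
  set M := MulAction.stabilizer G z with hM
  have hinto : ∀ U : Subgroup G, IsPGroup r U → U ≤ M →
      ∃ m ∈ M, U.map (MulAut.conj m).toMonoidHom ≤ (S : Subgroup G) := by
    intro U hU hUM
    obtain ⟨Q, hQ⟩ := (hU.of_equiv (subgroupOfEquivOfLe hUM).symm).exists_le_sylow
    obtain ⟨m, hm⟩ := MulAction.exists_smul_eq M Q (S.subtype hS)
    refine ⟨m, m.2, ?_⟩
    rintro _ ⟨x, hx, rfl⟩
    have h1 : m * ⟨x, hUM hx⟩ * m⁻¹ ∈ (S.subtype hS : Subgroup M) := by
      rw [← hm, Sylow.coe_subgroup_smul]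
      exact ⟨_, hQ (mem_subgroupOf.2 hx), rfl⟩
    exact mem_subgroupOf.1 h1
  obtain ⟨g, hg⟩ := c.fix.transitive z y
  have hT'M : T.map (MulAut.conj g⁻¹).toMonoidHom ≤ M := by
    rintro _ ⟨x, hx, rfl⟩
    show (g⁻¹ * x * g⁻¹⁻¹) • z = z
    rw [inv_inv, mul_smul, mul_smul, hg, show x • y = y from hTy hx, inv_smul_eq_iff, hg]
  obtain ⟨m₁, hm₁, hle₁⟩ := hinto T hTp hTz
  obtain ⟨m₂, hm₂, hle₂⟩ := hinto _ (hTp.map _) hT'M
  have hle : (T.map (MulAut.conj m₁).toMonoidHom).map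
      (MulAut.conj (m₂ * g⁻¹ * m₁⁻¹)).toMonoidHom ≤ (S : Subgroup G) := by
    rintro _ ⟨_, ⟨x, hx, rfl⟩, rfl⟩
    have h := hle₂ ⟨g⁻¹ * x * g⁻¹⁻¹, ⟨x, hx, rfl⟩, rfl⟩
    simpa [mul_assoc] using h
  obtain ⟨n, hn, hnA⟩ := good_of_le hr (fun Q _ _ => c.free z hr Q) hle₁ hle
  have hcT : m₁⁻¹ * n⁻¹ * (m₂ * g⁻¹) ∈ centralizer (T : Set G) := by
    refine mem_centralizer_iff.2 fun x hx => ?_
    have h := hnA _ ⟨x, hx, rfl⟩
    change n * (m₁ * x * m₁⁻¹) * n⁻¹ =
      m₂ * g⁻¹ * m₁⁻¹ * (m₁ * x * m₁⁻¹) * (m₂ * g⁻¹ * m₁⁻¹)⁻¹ at h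
    have h' : m₂ * g⁻¹ * x * g * m₂⁻¹ = n * (m₁ * x * m₁⁻¹) * n⁻¹ := by rw [h]; group
    calc x * (m₁⁻¹ * n⁻¹ * (m₂ * g⁻¹))
        = m₁⁻¹ * n⁻¹ * (n * (m₁ * x * m₁⁻¹) * n⁻¹) * (m₂ * g⁻¹) := by group
      _ = m₁⁻¹ * n⁻¹ * (m₂ * g⁻¹) * x := by rw [← h']; group
  have hgM : g ∈ M := by
    have h := mul_mem (mul_mem (inv_mem (hC hcT)) (mul_mem (inv_mem hm₁) (inv_mem (hZ hn)))) hm₂
    simpa [mul_assoc] using h
  exact hg ▸ hgM

/-- **Good primes**: no nontrivial `r`-element of `W z` fixes a second point. -/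
theorem Good.eq_of_fix {c : Ctx G Ω} (hgood : c.Good r) (hr : r ≠ 2) {z : Ω} {P : Subgroup G}
    (hPp : IsPGroup r P)
    (hPW : P ≤ c.W z) (hPn : MulAction.stabilizer G z ≤ normalizer (P : Set G))
    (hPA : ¬ c.A z ≤ centralizer (P : Set G)) {w : G} (hw : w ∈ c.W z) (hw1 : w ≠ 1)
    (hwr : IsPGroup r (zpowers w)) {y : Ω} (hwy : w • y = y) : y = z := by
  by_contra hy
  set M := MulAction.stabilizer G z with hM
  obtain ⟨R, hwR, hR⟩ := exists_isMaxPair (a := z) hwr hy
    (zpowers_le.2 (mem_pairStab.2 ⟨c.W_le_stab z hw, hwy⟩))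
  obtain ⟨y', hy', hRD⟩ := hR.exists_second
  set R₁ := R ⊓ c.W z with hR₁
  have hw₁ : w ∈ R₁ := ⟨hwR (mem_zpowers w), hw⟩
  have hR₁p : IsPGroup r R₁ := hR.isPGroup.to_le inf_le_left
  obtain ⟨S, hSM, hSZ⟩ := hgood.exists_sylow hr hPp hPW hPn hPA
  by_cases hin : Inside R z
  · obtain ⟨i, hiR, hiz⟩ := hin
    set D := pairStab G z y' with hD
    set E := c.W z ⊓ D with hE
    have hDM : D ≤ M := inf_le_left
    have hR₁E : R₁ ≤ E := le_inf inf_le_right (inf_le_left.trans hRD)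
    have hDE : D ≤ normalizer (E : Set G) :=
      (le_inf (hDM.trans (c.stab_le_normalizer_W z)) le_normalizer).trans
        inf_normalizer_le_normalizer_inf
    have hR₁c : Nat.card R₁ = r ^ (Nat.card E).factorization r := by
      rw [show R₁ = R ⊓ E from le_antisymm (le_inf inf_le_left hR₁E)
        (inf_le_inf_left R inf_le_left)]
      exact card_inf_of_max inf_le_right hDE hRD hR.isPGroup
        fun Q hQ hRQ hQD => hR.max Q hQ y' hy' hQD hRQ
    have hiR₁ : i ∈ normalizer (R₁ : Set G) :=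
      inf_normalizer_le_normalizer_inf ⟨hiR, c.stab_le_normalizer_W z hiz.2⟩
    obtain ⟨l, hl, hlA⟩ := c.exists_conj_A_normalizer hy' hR₁E hR₁c hiR₁ hiz
    set T := R₁.map (MulAut.conj l⁻¹).toMonoidHom with hT
    have hmapN : ∀ n, n ∈ normalizer (R₁ : Set G) → l⁻¹ * n * l ∈ normalizer (T : Set G) :=
      fun n hn => by
        rw [show l⁻¹ * n * l = (MulAut.conj l⁻¹).toMonoidHom n by simp]
        exact le_normalizer_map (MulAut.conj l⁻¹).toMonoidHom ⟨n, hn, rfl⟩
    have hTN := hgood z T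
      (fun e => hw1 (mem_bot.1
        ((map_eq_bot_iff_of_injective R₁ (MulAut.conj l⁻¹).injective).1 e ▸ hw₁)))
      (hR₁p.map _) fun a ha => by
        have h := hmapN _ (hlA a ha)
        simpa [mul_assoc] using h
    have hN₁ : normalizer (R₁ : Set G) ≤ M := fun n hn => by
      have h1 : l⁻¹ * n * l ∈ M := hTN (hmapN n hn)
      rw [show n = l * (l⁻¹ * n * l) * l⁻¹ by group]
      exact M.mul_mem (M.mul_mem hl h1) (M.inv_mem hl)
    exact hy' (c.eq_of_centralizer_le hr hSM hSZ hR₁p (inf_le_left.trans (hRD.trans inf_le_left))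
      (inf_le_left.trans (hRD.trans inf_le_right)) ((centralizer_le_normalizer _).trans hN₁))
  · obtain ⟨b, -, -, hmax⟩ := hR.outside c.fix hr hin
    have hN := hgood.normalizer_zj_le hr hPp hPW hPn hPA (hRD.trans inf_le_left) hR.isPGroup hmax
    obtain ⟨u, hu, huo⟩ := hR.exists_swap c.fix
      (fun x hx => (mem_pairStab.1 (hRD hx)).2 : y' ∈ fixSet (Ω := Ω) R) hy'
    have huz : u • z = z := hN (CfsgLib.PLocal.normalizer_le_normalizer_centerThompsonAOf R hu)
    exact hy' (huo.2.symm.trans huz)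

/-- If `F(W z)` is an `r`-group then `r` is good. -/
theorem good_of_fitting (hr : r ≠ 2) {z : Ω}
    (hF : ∀ q : ℕ, q.Prime → q ≠ r → Cfsg.pCore q ↥(c.W z) = ⊥) : c.Good r := by
  by_contra hbad
  obtain ⟨P0, hP0, hP0p, hP0W, hmax, -, hP0N⟩ := c.exists_bad_sylow hr hbad z
  refine hP0N ?_
  set W := c.W z with hW
  haveI : Group.IsSolvable W := (c.hyp z).oddPart_solvable
  have hO : Cfsg.pPrimeCore r W = ⊥ := by
    by_contra hne
    set O := Cfsg.pPrimeCore r W with hOdef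
    haveI : Nontrivial O := (Subgroup.nontrivial_iff_ne_bot O).2 hne
    haveI : Group.IsSolvable O := Group.isSolvable_of_isSolvable_injective O.subtype_injective
    haveI : (Cfsg.fittingSubgroup O).Characteristic :=
      CfsgLib.Solvable.fittingSubgroup_characteristic
    haveI : ((Cfsg.fittingSubgroup O).map O.subtype).Normal := inferInstance
    have hFne := CfsgLib.Solvable.fittingSubgroup_ne_bot (G := O)
    rw [CfsgLib.Solvable.fittingSubgroup_eq_iSup] at hFne
    obtain ⟨q, hq⟩ : ∃ q : Nat.Primes, Cfsg.pCore (q : ℕ) O ≠ ⊥ := by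
      by_contra h
      push Not at h
      exact hFne (by simp [h])
    haveI := Fact.mk q.2
    haveI : (Cfsg.pCore (q : ℕ) O).Characteristic := CfsgLib.Solvable.pCore_characteristic _
    haveI : ((Cfsg.pCore (q : ℕ) O).map O.subtype).Normal := inferInstance
    by_cases hqr : (q : ℕ) = r
    · refine hq (eq_bot_of_card_eq _ (Nat.eq_one_of_dvd_coprimes
        (CfsgLib.PLocal.coprime_card_pPrimeCore r W) (card_subgroup_dvd_card _) ?_))
      obtain ⟨k, hk⟩ := IsPGroup.iff_card.1 (CfsgLib.PLocal.isPGroup_pCore (q : ℕ) O)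
      rw [hk, hqr]
      rcases Nat.eq_zero_or_pos k with rfl | hk0
      · simp
      · exfalso
        have h1 := card_subgroup_dvd_card (Cfsg.pCore (q : ℕ) O)
        rw [hk, hqr] at h1
        exact ((Fact.out : r.Prime).coprime_iff_not_dvd.1
          (CfsgLib.PLocal.coprime_card_pPrimeCore r W).symm) ((dvd_pow_self r hk0.ne').trans h1)
    · refine hq ((map_eq_bot_iff_of_injective _ O.subtype_injective).1 (le_bot_iff.1 ?_))
      rw [← hF q q.2 hqr]
      exact CfsgLib.PLocal.le_pCore ((CfsgLib.PLocal.isPGroup_pCore (q : ℕ) O).map _)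
  have hfac := c.le_core_sup z hr hP0W hP0p fun Q hQ hle hQW => hmax Q hQ hQW hle
  rw [hO, Subgroup.map_bot, bot_sup_eq] at hfac
  set Z := Cfsg.centerThompsonAOf P0 with hZ
  have hZW : Z ≤ W := (CfsgLib.PLocal.centerThompsonAOf_le _).trans hP0W
  have hWZ : W ≤ normalizer (Z : Set G) := hfac.trans inf_le_left
  have hP0c := card_of_max hP0W hP0p fun Q hQ hle hQW => hmax Q hQ hQW hle
  have hMZ : MulAction.stabilizer G z ≤ normalizer (Z : Set G) := by
    intro m hm
    obtain ⟨e, he, hn⟩ := exists_mul_normalizer (c.stab_le_normalizer_W z hm) hP0W hP0c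
    have h1 := CfsgLib.PLocal.normalizer_le_normalizer_centerThompsonAOf P0 hn
    simpa using mul_mem (hWZ he) h1
  exact (CfsgLib.PLocal.normalizer_le_normalizer_centerThompsonAOf P0).trans
    (c.normalizer_eq_stab (CfsgLib.PLocal.centerThompsonAOf_ne_bot hP0p hP0) hZW hMZ).le

end Ctx

end CfsgLib.AbelSolvCent
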