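import Cfsg.Agent.AbelSolvCent.BenderPair
import Cfsg.Agent.AbelSolvCent.GoodPrime
import Cfsg.Agent.HallEight.Eigen

/-!
# A bad prime: `A` centralizes the `r`-part of the Fitting subgroup

If `r` is bad and some other part `Fp q z` is nontrivial, a plane of `Fp r z` whose centralizers lie
in the stabilizer carries the other parts at `z` and `g • z` to the other point each, where `g` moves
`z` and normalizes a large `r`-subgroup of `W z`; `false_of_pair` finishes.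
-/

set_option autoImplicit false
set_option linter.style.haveILetI false
set_option linter.unusedSectionVars false

namespace CfsgLib.AbelSolvCent

open Subgroup CfsgLib.SEmbed
open scoped commutatorElement

universe u v

variable {G : Type u} [Group G] [Finite G] {Ω : Type v} [MulAction G Ω]

/-- The products of powers of two commuting elements. -/
def pairSpan {u v : G} (h : Commute u v) : Subgroup G where
  carrier := {x | ∃ i j : ℤ, x = u ^ i * v ^ j}
  one_mem' := ⟨0, 0, by simp⟩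
  mul_mem' := by
    rintro _ _ ⟨i, j, rfl⟩ ⟨k, l, rfl⟩
    exact ⟨i + k, j + l, by rw [zpow_add, zpow_add]; exact (h.zpow_zpow k j).symm.mul_mul_mul_comm _ _⟩
  inv_mem' := by
    rintro _ ⟨i, j, rfl⟩
    exact ⟨-i, -j, by rw [mul_inv_rev, zpow_neg, zpow_neg, ((h.zpow_zpow i j).inv_inv).eq]⟩

theorem mem_pairSpan {u v : G} {h : Commute u v} {x : G} :
    x ∈ pairSpan h ↔ ∃ i j : ℤ, x = u ^ i * v ^ j := Iff.rfl

theorem pairSpan_le {u v : G} {h : Commute u v} {H : Subgroup G} (hu : u ∈ H) (hv : v ∈ H) :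
    pairSpan h ≤ H := fun _ ⟨i, j, hx⟩ => hx ▸ mul_mem (zpow_mem hu i) (zpow_mem hv j)

theorem left_mem_pairSpan {u v : G} (h : Commute u v) : u ∈ pairSpan h := ⟨1, 0, by simp⟩

theorem right_mem_pairSpan {u v : G} (h : Commute u v) : v ∈ pairSpan h := ⟨0, 1, by simp⟩

theorem pairSpan_comm {u v : G} (h : Commute u v) {x y : G} (hx : x ∈ pairSpan h)
    (hy : y ∈ pairSpan h) : x * y = y * x := by
  obtain ⟨i, j, rfl⟩ := hx
  obtain ⟨k, l, rfl⟩ := hy
  have h1 : Commute (u ^ i) (u ^ k * v ^ l) :=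
    ((Commute.refl u).zpow_zpow i k).mul_right (h.zpow_zpow i l)
  have h2 : Commute (v ^ j) (u ^ k * v ^ l) :=
    (h.zpow_zpow k j).symm.mul_right ((Commute.refl v).zpow_zpow j l)
  exact (h1.mul_left h2).eq

theorem pairSpan_not_isCyclic {u v : G} (h : Commute u v) {r : ℕ} [hr : Fact r.Prime]
    (hu : u ^ r = 1) (hv : v ^ r = 1) (hu1 : u ≠ 1) (hvu : v ∉ zpowers u) :
    ¬ IsCyclic (pairSpan h) := by
  intro hc
  obtain ⟨x, hx⟩ := hc.exists_generator
  have hxr : x ^ r = 1 := by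
    obtain ⟨i, j, hij⟩ := x.2
    refine Subtype.ext ?_
    rw [SubgroupClass.coe_pow, hij, (h.zpow_zpow i j).mul_pow, ← zpow_natCast (u ^ i),
      ← zpow_natCast (v ^ j), ← zpow_mul, ← zpow_mul, mul_comm i, mul_comm j, zpow_mul, zpow_mul,
      zpow_natCast, zpow_natCast, hu, hv, one_zpow, one_zpow, one_mul]
    rfl
  have hle : Nat.card (pairSpan h) ≤ r := by
    rw [← orderOf_eq_card_of_forall_mem_zpowers hx]
    exact orderOf_le_of_pow_eq_one hr.out.pos hxr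
  have heq : zpowers u = pairSpan h := eq_of_le_of_card_ge (zpowers_le.2 (left_mem_pairSpan h)) (by
    rwa [Nat.card_zpowers, orderOf_eq_prime hu hu1])
  exact hvu (heq ▸ right_mem_pairSpan h)

/-- The normalizer of a subgroup normalizes its centralizer. -/
theorem normalizer_le_normalizer_inf_centralizer (X : Subgroup G) :
    normalizer (X : Set G) ≤ normalizer ((X ⊓ centralizer (X : Set G) : Subgroup G) : Set G) := by
  have key : ∀ g ∈ normalizer (X : Set G), ∀ x ∈ X ⊓ centralizer (X : Set G),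
      g * x * g⁻¹ ∈ X ⊓ centralizer (X : Set G) := fun g hg x hx =>
    ⟨(mem_normalizer_iff.1 hg x).1 hx.1, mem_centralizer_iff.2 fun y hy => by
      have h1 := mem_centralizer_iff.1 hx.2 _ ((mem_normalizer_iff''.1 hg y).1 hy)
      calc y * (g * x * g⁻¹) = g * ((g⁻¹ * y * g) * x) * g⁻¹ := by group
        _ = g * (x * (g⁻¹ * y * g)) * g⁻¹ := by rw [h1]
        _ = _ := by group⟩
  intro g hg
  rw [mem_normalizer_iff]
  refine fun x => ⟨key g hg x, fun hx => ?_⟩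
  simpa [mul_assoc] using key g⁻¹ (inv_mem hg) _ hx

/-- An involution centralizing a subgroup on which coprime automorphisms are faithful centralizes
the whole group. -/
theorem commute_of_faithful {r : ℕ} [hr : Fact r.Prime] (hr2 : r ≠ 2) {P : Subgroup G}
    {Q : Subgroup P}
    (hf : ∀ a : MulAut P, (orderOf a).Coprime r → (∀ x ∈ Q, a x = x) → a = 1) {t : G}
    (ht : t * t = 1) (htP : t ∈ normalizer (P : Set G))
    (hfix : ∀ x ∈ Q.map P.subtype, Commute t x) {x : G} (hx : x ∈ P) : Commute t x := by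
  let a : MulAut P := MulAut.conjNormal (H := P.subgroupOf (normalizer (P : Set G)))
    (⟨t, htP⟩ : normalizer (P : Set G)) |> fun f =>
      ((subgroupOfEquivOfLe le_normalizer).symm.trans f).trans (subgroupOfEquivOfLe le_normalizer)
  have hav : ∀ x : P, ((a x : P) : G) = t * x * t⁻¹ := fun x => rfl
  have hti : t⁻¹ = t := inv_eq_of_mul_eq_one_right ht
  have ha2 : a ^ 2 = 1 := by
    refine MulEquiv.ext fun x => Subtype.ext ?_
    rw [pow_two, MulAut.mul_apply, hav, hav, MulAut.one_apply, hti, ← mul_assoc, ← mul_assoc, ht,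
      one_mul, mul_assoc, ht, mul_one]
  have ha : a = 1 := by
    refine hf a (Nat.Coprime.coprime_dvd_left (orderOf_dvd_of_pow_eq_one ha2)
      ((Nat.coprime_primes Nat.prime_two hr.out).2 hr2.symm)) fun x hx => Subtype.ext ?_
    rw [hav]
    exact mul_inv_eq_iff_eq_mul.2 (hfix x ⟨x, hx, rfl⟩).eq
  have h1 := congrArg (fun f : MulAut P => ((f ⟨x, hx⟩ : P) : G)) ha
  simp only [hav, MulAut.one_apply] at h1
  exact mul_inv_eq_iff_eq_mul.1 h1

theorem conj_conj (a b x : G) : a * b * x * (a * b)⁻¹ = a * (b * x * b⁻¹) * a⁻¹ := by group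

theorem ne_inv_of_odd {x : G} (hx : x ≠ 1) (ho : Odd (orderOf x)) : x⁻¹ ≠ x := fun e =>
  hx (orderOf_eq_one_iff.1 (Nat.eq_one_of_dvd_coprimes (a := 2) (Nat.coprime_two_left.2 ho)
    (orderOf_dvd_of_pow_eq_one (by rw [sq]; exact mul_eq_one_iff_eq_inv.2 e.symm)) dvd_rfl))

theorem mem_zpowers_of_zpow {r : ℕ} [hr : Fact r.Prime] {x y : G} (hx : x ^ r = 1)
    (hy : y ∈ zpowers x) (hy1 : y ≠ 1) : x ∈ zpowers y := by
  obtain ⟨i, rfl⟩ := hy
  have hy' : (x ^ i) ^ r = 1 := by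
    rw [← zpow_natCast, ← zpow_mul, mul_comm, zpow_mul, zpow_natCast, hx, one_zpow]
  have hx1 : x ≠ 1 := fun e => hy1 (by rw [e]; exact one_zpow i)
  have h := eq_of_le_of_card_ge (zpowers_le.2 (zpow_mem (mem_zpowers x) i) : zpowers (x ^ i) ≤ _)
    (by rw [Nat.card_zpowers, Nat.card_zpowers, orderOf_eq_prime hx hx1, orderOf_eq_prime hy' hy1])
  show x ∈ zpowers (x ^ i)
  rw [h]
  exact mem_zpowers x

namespace Ctx

variable (c : Ctx G Ω)

theorem commute_mul_self {z : Ω} {a : G} (ha : a ∈ c.A z) : a * a = 1 :=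
  ((c.hyp z).mem_omegaS.1 ha).2

theorem inf_W_A (z : Ω) {x : G} (hA : x ∈ c.A z) (hW : x ∈ c.W z) : x = 1 := by
  by_contra h
  exact absurd ((c.odd_W z).of_dvd_nat (Subgroup.orderOf_dvd_natCard _ hW))
    (Nat.not_odd_iff_even.2 (by rw [(c.A_mem hA h).1]; exact even_two))

theorem odd_orderOf {z : Ω} {x : G} (hx : x ∈ c.W z) : Odd (orderOf x) :=
  (c.odd_W z).of_dvd_nat (Subgroup.orderOf_dvd_natCard _ hx)

theorem exists_mem_A_not_mem (z : Ω) {s : Set G} (hs : s.ncard ≤ 4) : ∃ b ∈ c.A z, b ∉ s := by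
  by_contra hc
  push Not at hc
  have h1 := Set.ncard_le_ncard (s := (c.A z : Set G)) (t := s) hc (Set.toFinite _)
  have h3 := c.eight_le_card_A z
  have h4 : (c.A z : Set G).ncard = Nat.card (c.A z) := (Nat.card_coe_set_eq _).symm
  omega

/-- A pair in `A` fixing or inverting `e`, one inverting it, keeps the centralizer at `z`. -/
theorem centralizer_le_of_inverted {z : Ω} {a b e : G} (ha : a ∈ c.A z) (hb : b ∈ c.A z)
    (hb1 : b ≠ 1) (hab : a ≠ b) (he : e ∈ c.W z) (he1 : e ≠ 1) (hae : a * e * a⁻¹ = e⁻¹)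
    (hbe : b * e * b⁻¹ = e ∨ b * e * b⁻¹ = e⁻¹) :
    centralizer ({e} : Set G) ≤ MulAction.stabilizer G z := by
  have ho := c.odd_orderOf he
  have ha1 : a ≠ 1 := fun h => ne_inv_of_odd he1 ho (by rw [← hae, h]; group)
  have hnorm : ∀ t : G, (t * e * t⁻¹ = e ∨ t * e * t⁻¹ = e⁻¹) →
      t ∈ normalizer (zpowers e : Set G) := by
    intro t ht
    refine CfsgLib.Transfer.mem_normalizer_of_map_conj_eq ?_
    rw [MonoidHom.map_zpowers]
    rcases ht with h | h
    · simp only [MulEquiv.coe_toMonoidHom, MulAut.conj_apply, h]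
    · simp only [MulEquiv.coe_toMonoidHom, MulAut.conj_apply, h, zpowers_inv]
  have hV : IsFour (closure ({a, b} : Set G)) :=
    isFour_closure_pair (c.A_mem ha ha1).1 (c.A_mem hb hb1).1 hab (c.A_comm ha hb)
  have hVz : closure ({a, b} : Set G) ≤ MulAction.stabilizer G z := (closure_le _).2 (by
    rintro x (rfl | rfl)
    · exact c.A_le_stab z ha
    · exact c.A_le_stab z hb)
  have hVN : closure ({a, b} : Set G) ≤ normalizer (zpowers e : Set G) := (closure_le _).2 (by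
    rintro x (rfl | rfl)
    · exact hnorm _ (Or.inr hae)
    · exact hnorm _ hbe)
  refine le_trans (fun x hx => centralizer_le_normalizer _ (mem_centralizer_iff.2 ?_))
    (c.normalizer_zpowers_le hV hVz he1 ho hVN (subset_closure (Or.inl rfl)) hae)
  rintro _ ⟨i, rfl⟩
  exact ((show Commute e x from (mem_centralizer_singleton_iff.1 hx).symm).zpow_left i).eq

/-- An element of `W z` fixed or inverted by each element of `A z`. -/
theorem centralizer_le_of_eigen {z : Ω} {e : G} (he : e ∈ c.W z) (he1 : e ≠ 1)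
    (heig : CfsgLib.HallEight.IsEigen (c.A z) e)
    (halpha : (∀ a ∈ c.A z, Commute a e) →
      centralizer ({e} : Set G) ≤ MulAction.stabilizer G z) :
    centralizer ({e} : Set G) ≤ MulAction.stabilizer G z := by
  by_cases h : ∀ a ∈ c.A z, Commute a e
  · exact halpha h
  push Not at h
  obtain ⟨a, ha, hae⟩ := h
  have hae' := (heig a ha).resolve_left fun h => hae (mul_inv_eq_iff_eq_mul.1 h)
  obtain ⟨b, hb, hb2⟩ := c.exists_mem_A_not_mem z (s := ({1, a} : Set G))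
    (((Set.ncard_insert_le _ _).trans (by simp)).trans (by norm_num : 2 ≤ 4))
  simp only [Set.mem_insert_iff, Set.mem_singleton_iff, not_or] at hb2
  exact c.centralizer_le_of_inverted ha hb hb2.1 (Ne.symm hb2.2) he he1 hae' (heig b hb)

variable [IsSimpleGroup G] {r : ℕ} [hr : Fact r.Prime]

/-- A plane in a subgroup `P` normal in the stabilizer. -/
theorem exists_plane (hr2 : r ≠ 2) {z : Ω} {P : Subgroup G} (hP : IsPGroup r P)
    (hPW : P ≤ c.W z) (hPN : MulAction.stabilizer G z ≤ normalizer (P : Set G))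
    (hnc : ∃ a ∈ c.A z, ∃ x ∈ P, ¬ Commute a x)
    (halpha : ∀ e ∈ P, e ≠ 1 → (∀ a ∈ c.A z, Commute a e) →
      centralizer ({e} : Set G) ≤ MulAction.stabilizer G z) :
    ∃ u ∈ P, ∃ v ∈ P, ∃ h : Commute u v, u ^ r = 1 ∧ v ^ r = 1 ∧ u ≠ 1 ∧ v ∉ zpowers u ∧
      ∀ e ∈ pairSpan h, e ≠ 1 → centralizer ({e} : Set G) ≤ MulAction.stabilizer G z := by
  classical
  haveI : Nontrivial Ω := let ⟨y, hy⟩ := c.nontriv z; ⟨⟨y, z, hy⟩⟩
  have hh : Hyp (c.syl z) := c.hyp z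
  obtain ⟨Q, hQc, hQexp, hQcl, hQf⟩ := CfsgLib.OddOrder.BG4.exists_critical_exponent hr2 hP
  haveI := hQc
  set Q' := Q.map P.subtype with hQ'
  have hQP : Q' ≤ P := map_subtype_le _
  have hQN : MulAction.stabilizer G z ≤ normalizer (Q' : Set G) :=
    hPN.trans (CfsgLib.Components.normalizer_le_normalizer_map_subtype P Q)
  have hpow : ∀ x ∈ Q', x ^ r = 1 := by
    rintro _ ⟨x, hx, rfl⟩
    rw [← map_pow, hQexp x hx, map_one]
  have hoddle : ∀ {X : Subgroup G}, X ≤ P → Odd (Nat.card X) := fun {X} hX =>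
    (c.odd_W z).of_dvd_nat (card_dvd_of_le (hX.trans hPW))
  have hAcomm : ∀ a ∈ c.A z, ∀ b ∈ c.A z, a * b = b * a := fun a ha b hb => (c.A_comm ha hb).eq
  have hAsq : ∀ a ∈ c.A z, a * a = 1 := fun a ha => c.commute_mul_self ha
  obtain ⟨a₀, ha₀, x₀, hx₀, hnc₀⟩ := hnc
  have hQnc : ∃ x ∈ Q', ¬ Commute a₀ x := by
    by_contra! h
    exact hnc₀ (commute_of_faithful hr2 hQf (hAsq a₀ ha₀) (hPN (c.A_le_stab z ha₀)) h hx₀)
  set U := Q' ⊓ centralizer (Q' : Set G) with hU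
  have hUQ : U ≤ Q' := inf_le_left
  have hUP : U ≤ P := hUQ.trans hQP
  have hUN : MulAction.stabilizer G z ≤ normalizer (U : Set G) :=
    hQN.trans (normalizer_le_normalizer_inf_centralizer Q')
  have hUab : ∀ x ∈ U, ∀ y ∈ U, x * y = y * x := fun x hx y hy =>
    (mem_centralizer_iff.1 hy.2) x hx.1
  have hUA : c.A z ≤ normalizer (U : Set G) := (c.A_le_stab z).trans hUN
  by_cases hb : ∃ f ∈ U, CfsgLib.HallEight.IsEigen (c.A z) f ∧ ∃ a ∈ c.A z, ¬ Commute a f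
  · obtain ⟨f, hfU, hfe, a₁, ha₁, ha₁f⟩ := hb
    have hf1 : f ≠ 1 := fun h => ha₁f (h ▸ Commute.one_right _)
    have hfo := c.odd_orderOf (hPW (hUP hfU))
    have hinv : ∀ a ∈ c.A z, ¬ Commute a f → a * f * a⁻¹ = f⁻¹ := fun a ha h =>
      (hfe a ha).resolve_left fun e => h (mul_inv_eq_iff_eq_mul.1 e)
    obtain ⟨a₂, ha₂, ha₂1, ha₂f⟩ : ∃ a ∈ c.A z, a ≠ 1 ∧ Commute a f := by
      by_contra hall
      push Not at hall
      obtain ⟨b, hb, hb2⟩ := c.exists_mem_A_not_mem z (s := ({1, a₁} : Set G))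
        (((Set.ncard_insert_le _ _).trans (by simp)).trans (by norm_num : 2 ≤ 4))
      simp only [Set.mem_insert_iff, Set.mem_singleton_iff, not_or] at hb2
      refine hall (a₁ * b) (mul_mem ha₁ hb) (fun h => hb2.2 ?_) (mul_inv_eq_iff_eq_mul.1 ?_)
      · rw [← inv_eq_of_mul_eq_one_right h, inv_eq_of_mul_eq_one_right (hAsq a₁ ha₁)]
      · rw [conj_conj, hinv b hb (hall b hb hb2.1), ← conj_inv, hinv a₁ ha₁ ha₁f, inv_inv]
    have hI2 := c.A_mem ha₂ ha₂1
    have hI1 := c.A_mem ha₁ fun h => ha₁f (h ▸ Commute.one_left f)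
    obtain ⟨g, hg⟩ := isConj_iff.1 (SEmbed.isConj_invol c.fix hI2.1 hI1.1)
    have hgz : g • z = z := c.fix.unique a₁ hI1.1 _ _
      (by rw [← hg, smul_smul, inv_mul_cancel_right, mul_smul, hI2.2]) hI1.2
    have hgm : g ∈ ((oddPart (c.syl z) ⊔ normalizer ((c.syl z : Subgroup G) : Set G) :
        Subgroup G) : Set G) := (c.stab z).le hgz
    rw [Subgroup.coe_mul_of_right_le_normalizer_left _ _ hh.normalizer_le] at hgm
    obtain ⟨w, hw, n, hn, rfl⟩ := hgm
    have hnA : ∀ a ∈ c.A z, n * a * n⁻¹ ∈ c.A z := fun a ha => hh.omegaS_conj hn ha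
    have hnA' : ∀ a ∈ c.A z, n⁻¹ * a * n ∈ c.A z := fun a ha => by
      simpa using hh.omegaS_conj (inv_mem hn) ha
    have hnz : n ∈ MulAction.stabilizer G z := (c.stab z).ge (mem_sup_right hn)
    set a' := n * a₂ * n⁻¹ with ha'
    have hwa : w * a' * w⁻¹ = a₁ := by rw [← hg, ha']; group
    have haa : a' = a₁ := by
      have h1 : w * a' * w⁻¹ * a'⁻¹ ∈ c.W z := by
        rw [show w * a' * w⁻¹ * a'⁻¹ = w * (a' * w⁻¹ * a'⁻¹) by group]
        exact mul_mem hw ((mem_normalizer_iff.1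
          (c.stab_le_normalizer_W z (c.A_le_stab z (hnA a₂ ha₂))) _).1 (inv_mem hw))
      rw [hwa] at h1
      have h2 := c.inf_W_A z (mul_mem ha₁ (inv_mem (hnA a₂ ha₂))) h1
      exact (mul_inv_eq_one.1 h2).symm
    set f' := n * f * n⁻¹ with hf'
    have hf'U : f' ∈ U := (mem_normalizer_iff.1 (hUN hnz) f).1 hfU
    have hf'1 : f' ≠ 1 := fun h => hf1 (conj_eq_one_iff.1 h)
    have ha₁f' : Commute a₁ f' := by
      rw [← haa, ha', hf']
      exact mul_inv_eq_iff_eq_mul.1 (by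
        calc n * a₂ * n⁻¹ * (n * f * n⁻¹) * (n * a₂ * n⁻¹)⁻¹ = n * (a₂ * f * a₂⁻¹) * n⁻¹ := by group
          _ = _ := by rw [mul_inv_eq_iff_eq_mul.2 ha₂f.eq])
    have hf'e : CfsgLib.HallEight.IsEigen (c.A z) f' := by
      intro s hs
      rcases hfe _ (hnA' s hs) with h | h
      · left
        calc s * f' * s⁻¹ = n * (n⁻¹ * s * n * f * (n⁻¹ * s * n)⁻¹) * n⁻¹ := by rw [hf']; group
          _ = f' := by rw [h]
      · right
        calc s * f' * s⁻¹ = n * (n⁻¹ * s * n * f * (n⁻¹ * s * n)⁻¹) * n⁻¹ := by rw [hf']; group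
          _ = f'⁻¹ := by rw [h, hf']; group
    have hinv' : ∀ a ∈ c.A z, ¬ Commute a f' → a * f' * a⁻¹ = f'⁻¹ := fun a ha h =>
      (hf'e a ha).resolve_left fun e => h (mul_inv_eq_iff_eq_mul.1 e)
    have hff : Commute f f' := hUab f hfU f' hf'U
    have hf'f : f' ∉ zpowers f := by
      intro h
      obtain ⟨i, hi⟩ := mem_zpowers_of_zpow (hpow f (hUQ hfU)) h hf'1
      exact ha₁f (hi ▸ ha₁f'.zpow_right i)
    have hfix : ∀ {a x : G}, Commute a x → a * x * a⁻¹ = x := fun h => mul_inv_eq_iff_eq_mul.2 h.eq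
    obtain ⟨a, ha, haf, haf'⟩ : ∃ a ∈ c.A z, a * f * a⁻¹ = f⁻¹ ∧ a * f' * a⁻¹ = f'⁻¹ := by
      obtain ⟨a₃, ha₃, ha₃f'⟩ : ∃ a ∈ c.A z, ¬ Commute a f' := by
        refine ⟨n * a₁ * n⁻¹, hnA a₁ ha₁, fun h => ha₁f (mul_inv_eq_iff_eq_mul.1 ?_)⟩
        calc a₁ * f * a₁⁻¹
            = n⁻¹ * (n * a₁ * n⁻¹ * f' * (n * a₁ * n⁻¹)⁻¹) * n := by rw [hf']; group
          _ = f := by rw [hfix h, hf']; group
      by_cases h3 : Commute a₃ f
      · refine ⟨a₁ * a₃, mul_mem ha₁ ha₃, ?_, ?_⟩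
        · rw [conj_conj, hfix h3, hinv a₁ ha₁ ha₁f]
        · rw [conj_conj, hinv' a₃ ha₃ ha₃f', ← conj_inv, hfix ha₁f']
      · exact ⟨a₃, ha₃, hinv a₃ ha₃ h3, hinv' a₃ ha₃ ha₃f'⟩
    obtain ⟨b, hb, hb1, hbf, hbf'⟩ :
        ∃ b ∈ c.A z, b ≠ 1 ∧ b * f * b⁻¹ = f ∧ b * f' * b⁻¹ = f' := by
      obtain ⟨d, hd, hd4⟩ := c.exists_mem_A_not_mem z (s := ({1, a₁, a, a₁ * a} : Set G)) (by
        have e1 := Set.ncard_insert_le (1 : G) {a₁, a, a₁ * a}
        have e2 := Set.ncard_insert_le a₁ {a, a₁ * a}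
        have e3 := Set.ncard_insert_le a {a₁ * a}
        rw [Set.ncard_singleton] at e3
        omega)
      simp only [Set.mem_insert_iff, Set.mem_singleton_iff, not_or] at hd4
      have hne : ∀ k ∈ c.A z, d ≠ k → d * k ≠ 1 := fun k hk h e =>
        h (by rw [eq_inv_of_mul_eq_one_left e, inv_eq_of_mul_eq_one_right (hAsq k hk)])
      by_cases h1 : Commute d f <;> by_cases h2 : Commute d f'
      · exact ⟨d, hd, hd4.1, hfix h1, hfix h2⟩
      · refine ⟨d * (a₁ * a), mul_mem hd (mul_mem ha₁ ha), hne _ (mul_mem ha₁ ha) hd4.2.2.2, ?_, ?_⟩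
        · rw [conj_conj, conj_conj a₁ a, haf, ← conj_inv, hinv a₁ ha₁ ha₁f, inv_inv, hfix h1]
        · rw [conj_conj, conj_conj a₁ a, haf', ← conj_inv, hfix ha₁f', ← conj_inv,
            hinv' d hd h2, inv_inv]
      · refine ⟨d * a₁, mul_mem hd ha₁, hne a₁ ha₁ hd4.2.1, ?_, ?_⟩
        · rw [conj_conj, hinv a₁ ha₁ ha₁f, ← conj_inv, hinv d hd h1, inv_inv]
        · rw [conj_conj, hfix ha₁f', hfix h2]
      · refine ⟨d * a, mul_mem hd ha, hne a ha hd4.2.2.1, ?_, ?_⟩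
        · rw [conj_conj, haf, ← conj_inv, hinv d hd h1, inv_inv]
        · rw [conj_conj, haf', ← conj_inv, hinv' d hd h2, inv_inv]
    refine ⟨f, hUP hfU, f', hUP hf'U, hff, hpow f (hUQ hfU), hpow f' (hUQ hf'U), hf1, hf'f, ?_⟩
    rintro e ⟨i, j, rfl⟩ he1
    refine c.centralizer_le_of_inverted ha hb hb1 ?_
      (hPW (mul_mem (zpow_mem (hUP hfU) i) (zpow_mem (hUP hf'U) j))) he1 ?_ (Or.inl ?_)
    · rintro rfl
      exact ne_inv_of_odd hf1 hfo (haf.symm.trans hbf)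
    · rw [← conj_mul, ← conj_zpow, ← conj_zpow, haf, haf', inv_zpow, inv_zpow, mul_inv_rev,
        ((hff.zpow_zpow i j).inv_inv).eq]
    · rw [← conj_mul, ← conj_zpow, ← conj_zpow, hbf, hbf']
  -- now `A` centralizes `U`
  have hUc : ∀ x ∈ U, ∀ a ∈ c.A z, Commute a x := by
    by_contra hne
    obtain ⟨f, hfU, hfB, hfe⟩ := CfsgLib.HallEight.exists_eigen
      (B := U ⊓ centralizer (c.A z : Set G)) hAcomm hAsq hUA hUab (hoddle hUP) fun hle => hne
        fun x hx a ha => mem_centralizer_iff.1 (hle hx).2 a ha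
    push Not at hb
    exact hfB ⟨hfU, mem_centralizer_iff.2 fun a ha => (hb f hfU hfe a ha).eq⟩
  have hUne : U ≠ ⊥ := by
    intro hbot
    obtain ⟨x, hx, hxa⟩ := hQnc
    haveI : Nontrivial Q' := ⟨⟨⟨x, hx⟩, 1, fun h => hxa (by
      rw [show x = 1 from congrArg Subtype.val h]; exact Commute.one_right _)⟩⟩
    haveI := (hP.to_le hQP).center_nontrivial
    obtain ⟨y, hy⟩ := exists_ne (1 : center Q')
    have hyU : ((y : Q') : G) ∈ U := ⟨(y : Q').2, mem_centralizer_iff.2 fun q hq =>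
      congrArg Subtype.val (mem_center_iff.1 y.2 ⟨q, hq⟩)⟩
    rw [hbot, mem_bot] at hyU
    exact hy (Subtype.ext (Subtype.ext hyU))
  obtain ⟨c₀, hc₀U, hc₀1⟩ : ∃ x ∈ U, x ≠ (1 : G) := by
    by_contra! h
    exact hUne ((eq_bot_iff_forall _).2 h)
  by_cases hcyc : U ≤ zpowers c₀
  swap
  · obtain ⟨v, hvU, hv⟩ := SetLike.not_le_iff_exists.1 hcyc
    refine ⟨c₀, hUP hc₀U, v, hUP hvU, hUab _ hc₀U _ hvU, hpow _ (hUQ hc₀U), hpow _ (hUQ hvU),
      hc₀1, hv, fun e he he1 => ?_⟩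
    have heU : e ∈ U := pairSpan_le hc₀U hvU he
    exact halpha e (hUP heU) he1 (hUc e heU)
  -- `U` has order `r`
  have hcl : ∀ x ∈ Q', ∀ y ∈ Q', x * y * x⁻¹ * y⁻¹ ∈ U := by
    rintro _ ⟨x, hx, rfl⟩ _ ⟨y, hy, rfl⟩
    have hx' : P.subtype x ∈ Q' := ⟨x, hx, rfl⟩
    have hy' : P.subtype y ∈ Q' := ⟨y, hy, rfl⟩
    refine ⟨Q'.mul_mem (Q'.mul_mem (Q'.mul_mem hx' hy') (Q'.inv_mem hx')) (Q'.inv_mem hy'), ?_⟩
    refine mem_centralizer_iff.2 ?_
    rintro _ ⟨q, hq, rfl⟩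
    exact congrArg Subtype.val (hQcl x hx y hy q hq).eq.symm
  obtain ⟨f, hfQ, hfU, hfe⟩ := CfsgLib.HallEight.exists_eigen_mod (N := U) (B := U) hAcomm hAsq
    ((c.A_le_stab z).trans hQN) hUA hUQ le_rfl hcl (hoddle hQP) (fun hle => by
      obtain ⟨x, hx, hxa⟩ := hQnc
      exact hxa (hUc x (hle hx) a₀ ha₀))
  have hcf : Commute c₀ f := (mem_centralizer_iff.1 hc₀U.2 f hfQ).symm
  set E := pairSpan hcf with hE
  have hUE : U ≤ E := hcyc.trans (zpowers_le.2 (left_mem_pairSpan hcf))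
  have hAE : c.A z ≤ normalizer (E : Set G) := by
    intro s hs
    rw [mem_normalizer_iff_map_conj_eq]
    refine eq_of_le_of_card_ge ?_ (le_of_eq (card_map_of_injective
      (f := ((MulAut.conj s : G ≃* G) : G →* G)) (MulAut.conj s).injective).symm)
    rintro _ ⟨x, ⟨i, j, rfl⟩, rfl⟩
    show s * (c₀ ^ i * f ^ j) * s⁻¹ ∈ E
    rw [← conj_mul, ← conj_zpow, ← conj_zpow]
    refine mul_mem (zpow_mem (hUE ((mem_normalizer_iff.1 (hUA hs) c₀).1 hc₀U)) i) (zpow_mem ?_ j)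
    rcases hfe s hs with e | e
    · rw [show s * f * s⁻¹ = (s * f * s⁻¹ * f⁻¹) * f by group]
      exact mul_mem (hUE e) (right_mem_pairSpan hcf)
    · rw [show s * f * s⁻¹ = (s * f * s⁻¹ * f) * f⁻¹ by group]
      exact mul_mem (hUE e) (inv_mem (right_mem_pairSpan hcf))
  have hEQ : E ≤ Q' := pairSpan_le (hUQ hc₀U) hfQ
  obtain ⟨f₁, hf₁E, hf₁U, hf₁e⟩ := CfsgLib.HallEight.exists_eigen (B := U) hAcomm hAsq hAE
    (fun x hx y hy => pairSpan_comm hcf hx hy) (hoddle (hEQ.trans hQP))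
    (fun hle => hfU (hle (right_mem_pairSpan hcf)))
  have hf₁Q := hEQ hf₁E
  have hc1 : Commute c₀ f₁ := (mem_centralizer_iff.1 hc₀U.2 f₁ hf₁Q).symm
  refine ⟨c₀, hUP hc₀U, f₁, hQP hf₁Q, hc1, hpow _ (hUQ hc₀U), hpow _ hf₁Q, hc₀1,
    fun h => hf₁U (zpowers_le.2 hc₀U h), ?_⟩
  rintro e ⟨i, j, rfl⟩ he1
  set p := f₁ ^ j with hp
  have hpQ : p ∈ Q' := zpow_mem hf₁Q j
  by_cases hp1 : p = 1
  · rw [hp1, mul_one] at he1 ⊢
    exact halpha _ (hUP (zpow_mem hc₀U i)) he1 fun a ha => (hUc c₀ hc₀U a ha).zpow_right i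
  have hpe : CfsgLib.HallEight.IsEigen (c.A z) p := fun s hs => by
    rcases hf₁e s hs with e | e
    · left; rw [hp, ← conj_zpow, e]
    · right; rw [hp, ← conj_zpow, e, inv_zpow]
  have hpU : p ∉ U := fun h => by
    obtain ⟨k, hk⟩ := mem_zpowers_of_zpow (hpow f₁ hf₁Q) (zpow_mem (mem_zpowers f₁) j) hp1
    exact hf₁U (hk ▸ zpow_mem h k)
  obtain ⟨x, hxQ, hxp⟩ : ∃ x ∈ Q', ¬ Commute x p := by
    by_contra! h
    exact hpU ⟨hpQ, mem_centralizer_iff.2 fun y hy => (h y hy).eq⟩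
  set d := x * p * x⁻¹ * p⁻¹ with hd
  have hdU : d ∈ U := hcl x hxQ p hpQ
  have hd1 : d ≠ 1 := fun h => hxp (mul_inv_eq_iff_eq_mul.1 (mul_inv_eq_one.1 h))
  obtain ⟨k, hk⟩ := mem_powers_iff_mem_zpowers.2
    (zpow_mem (mem_zpowers_of_zpow (hpow c₀ (hUQ hc₀U)) (hcyc hdU) hd1) i)
  simp only at hk
  have hxk : ∀ k : ℕ, x ^ k * p * (x ^ k)⁻¹ = d ^ k * p := by
    intro k
    induction k with
    | zero => simp
    | succ k ih =>
      have h1 : x * d ^ k * x⁻¹ = d ^ k :=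
        mul_inv_eq_iff_eq_mul.2 (mem_centralizer_iff.1 (pow_mem hdU k).2 x hxQ)
      calc x ^ (k + 1) * p * (x ^ (k + 1))⁻¹ = x * (x ^ k * p * (x ^ k)⁻¹) * x⁻¹ := by
            rw [pow_succ']; group
        _ = (x * d ^ k * x⁻¹) * (x * p * x⁻¹ * p⁻¹) * p := by rw [ih]; group
        _ = d ^ (k + 1) * p := by rw [h1, ← hd, pow_succ]
  have hpC := c.centralizer_le_of_eigen (hPW (hQP hpQ)) hp1 hpe (halpha p (hQP hpQ) hp1)
  intro y hy
  have hy' := mem_centralizer_singleton_iff.1 hy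
  rw [← hk, ← hxk] at hy'
  have h1 : (x ^ k)⁻¹ * y * x ^ k ∈ MulAction.stabilizer G z := hpC
    (mem_centralizer_singleton_iff.2 (by
      calc (x ^ k)⁻¹ * y * x ^ k * p
          = (x ^ k)⁻¹ * (y * (x ^ k * p * (x ^ k)⁻¹)) * x ^ k := by group
        _ = (x ^ k)⁻¹ * ((x ^ k * p * (x ^ k)⁻¹) * y) * x ^ k := by rw [hy']
        _ = _ := by group))
  have hxz : x ^ k ∈ MulAction.stabilizer G z :=
    pow_mem (c.W_le_stab z (hPW (hQP hxQ))) k
  simpa [mul_assoc] using mul_mem (mul_mem hxz h1) (inv_mem hxz)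

/-- **The non-central case at a bad prime.** -/
theorem commute_of_not_good (hbad : ¬ c.Good r) (z : Ω)
    (hex : ∃ q, q.Prime ∧ q ≠ r ∧ c.Fp q z ≠ ⊥) :
    ∀ a ∈ c.A z, ∀ x ∈ c.Fp r z, Commute a x := by
  by_contra hne
  push Not at hne
  obtain ⟨a₀, ha₀, x₀, hx₀, hnc₀⟩ := hne
  set P := c.Fp r z with hPdef
  have hP : IsPGroup r P := c.isPGroup_Fp r z
  have hPW : P ≤ c.W z := c.Fp_le_W r z
  have hPN := c.stab_le_normalizer_Fp r z
  have hnc : ¬ ∀ a ∈ c.A z, ∀ w ∈ c.W z, Commute a w := fun h => hnc₀ (h a₀ ha₀ x₀ (hPW hx₀))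
  have hPne : P ≠ ⊥ := fun h => hnc₀ (by
    rw [h, mem_bot] at hx₀; rw [hx₀]; exact Commute.one_right _)
  have hr2 : r ≠ 2 := fun h => hPne (by rw [hPdef, h]; exact c.Fp_two z)
  obtain ⟨P0, -, hP0, hP0W, hP0max, -, hP0N⟩ := c.exists_bad_sylow hr2 hbad z
  have hPP0 : P ≤ P0 := by
    have h := hP0max (P0 ⊔ P) (hP0.to_sup_of_normal_right' hP
      ((hP0W.trans (c.W_le_stab z)).trans hPN)) (sup_le hP0W hPW) le_sup_left
    exact le_sup_right.trans h.le
  obtain ⟨g, hgN, hgz'⟩ := SetLike.not_le_iff_exists.1 hP0N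
  have hgz : g • z ≠ z := hgz'
  have hP0g : P0 ≤ MulAction.stabilizer G (g • z) := fun x hx => by
    have h : (g⁻¹ * x * g) • z = z :=
      c.W_le_stab z (hP0W ((mem_normalizer_iff''.1 hgN x).1 hx))
    show x • g • z = g • z
    rw [mul_smul, mul_smul, inv_smul_eq_iff] at h
    exact h
  set B := P ⊓ centralizer (P : Set G) with hBdef
  have hBne : B ≠ ⊥ := by
    intro hbot
    haveI : Nontrivial P := (nontrivial_iff_ne_bot _).2 hPne
    haveI := hP.center_nontrivial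
    obtain ⟨y, hy⟩ := exists_ne (1 : center P)
    have hyB : ((y : P) : G) ∈ B := ⟨(y : P).2, mem_centralizer_iff.2 fun q hq =>
      congrArg Subtype.val (mem_center_iff.1 y.2 ⟨q, hq⟩)⟩
    rw [hbot, mem_bot] at hyB
    exact hy (Subtype.ext (Subtype.ext hyB))
  have hBN : MulAction.stabilizer G z ≤ normalizer (B : Set G) :=
    hPN.trans (normalizer_le_normalizer_inf_centralizer P)
  have hB : IsPGroup r B := hP.to_le inf_le_left
  have halpha : ∀ e ∈ P, e ≠ 1 → (∀ a ∈ c.A z, Commute a e) →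
      centralizer ({e} : Set G) ≤ MulAction.stabilizer G z := by
    intro e heP he1 hea h hh
    by_contra hhz
    set Y := centralizer ({e} : Set G) with hYdef
    have hY : Y ≠ ⊤ := by
      intro htop
      have hec : e ∈ center G := mem_center_iff.2 fun g =>
        mem_centralizer_singleton_iff.1 (htop ▸ mem_top g : g ∈ Y)
      rcases IsSimpleGroup.eq_bot_or_eq_top_of_normal (center G) inferInstance with h1 | h1
      · exact he1 (mem_bot.1 (h1 ▸ hec))
      · exact hnc fun a _ w _ => (mem_center_iff.1 (h1 ▸ mem_top a : a ∈ center G) w).symm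
    have hA : c.A z ≤ Y := fun a ha => mem_centralizer_singleton_iff.2 (hea a ha).eq
    have hFY : ∀ q : ℕ, q.Prime → q ≠ r → c.Fp q z ≤ Y := fun q hq hqr y hy => by
      haveI := Fact.mk hq
      exact mem_centralizer_singleton_iff.2 (commute_of_mutual hqr (c.isPGroup_Fp q z) hP hy heP
        (hPN (c.Fp_le_stab q z hy)) (c.stab_le_normalizer_Fp q z (c.Fp_le_stab r z heP))).eq
    have hBY : B ≤ Y := fun b hb =>
      mem_centralizer_singleton_iff.2 (mem_centralizer_iff.1 hb.2 e heP).symm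
    refine c.false_of_pair (g := h) hhz hBne hB (inf_le_left.trans hPW) hBN hnc
      (fun b hb => c.inf_W_le_stab hY hA hh ⟨hPW hb.1, hBY hb⟩)
      (fun q hq hqr y hy => c.inf_W_le_stab hY hA hh ⟨c.Fp_le_W q z hy, hFY q hq hqr hy⟩)
      (fun q hq hqr y hy => c.inf_W_smul_le_stab hY hA hh ⟨c.Fp_le_W q _ hy, ?_⟩) hex
    rw [c.Fp_smul] at hy
    obtain ⟨x, hx, rfl⟩ := hy
    exact Y.mul_mem (Y.mul_mem hh (hFY q hq hqr hx)) (Y.inv_mem hh)
  obtain ⟨u, huP, v, hvP, huv, hur, hvr, hu1, hvu, hC⟩ :=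
    c.exists_plane hr2 hP hPW hPN ⟨a₀, ha₀, x₀, hx₀, hnc₀⟩ halpha
  set E := pairSpan huv with hE
  have hEP : E ≤ P := pairSpan_le huP hvP
  have hEP0 : E ≤ P0 := hEP.trans hPP0
  have hEcyc : ¬ IsCyclic E := pairSpan_not_isCyclic huv hur hvr hu1 hvu
  set E' := E.map (MulAut.conj g).toMonoidHom with hE'
  have hE'P0 : E' ≤ P0 := by
    rintro _ ⟨x, hx, rfl⟩
    exact (mem_normalizer_iff.1 hgN x).1 (hEP0 hx)
  haveI : IsMulCommutative E :=
    ⟨⟨fun x y => Subtype.ext (pairSpan_comm huv x.2 y.2)⟩⟩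
  haveI : IsMulCommutative E' := ⟨⟨fun x y => Subtype.ext (by
    obtain ⟨x', hx', hx''⟩ := x.2
    obtain ⟨y', hy', hy''⟩ := y.2
    show (x : G) * y = y * x
    rw [← hx'', ← hy'', ← map_mul, ← map_mul, pairSpan_comm huv hx' hy'])⟩⟩
  have hE'cyc : ¬ IsCyclic E' := fun h => hEcyc
    ((equivMapOfInjective E _ (MulAut.conj g).injective).isCyclic.2 h)
  refine c.false_of_pair hgz hBne hB (inf_le_left.trans hPW) hBN hnc
    ((inf_le_left.trans hPP0).trans hP0g) (fun q hq hqr => ?_) (fun q hq hqr => ?_) hex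
  · haveI := Fact.mk hq
    refine CfsgLib.Coprime.le_of_forall_inf_centralizer_le hE'cyc
      ((hE'P0.trans (hP0W.trans (c.W_le_stab z))).trans (c.stab_le_normalizer_Fp q z))
      (IsPGroup.coprime_card_of_ne r q hqr.symm E' (c.Fp q z) (hP0.to_le hE'P0)
        (c.isPGroup_Fp q z)) ?_
    rintro _ ⟨e, he, rfl⟩ he1
    rintro x ⟨-, hx⟩
    have hx' : x * (g * e * g⁻¹) = g * e * g⁻¹ * x := mem_centralizer_singleton_iff.1 hx
    have h1 : (g⁻¹ * x * g) • z = z := hC e he (fun h => he1 (by rw [h, map_one]))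
      (mem_centralizer_singleton_iff.2 (by
        calc g⁻¹ * x * g * e = g⁻¹ * (x * (g * e * g⁻¹)) * g := by group
          _ = g⁻¹ * (g * e * g⁻¹ * x) * g := by rw [hx']
          _ = _ := by group))
    show x • g • z = g • z
    rw [mul_smul, mul_smul, inv_smul_eq_iff] at h1
    exact h1
  · haveI := Fact.mk hq
    refine CfsgLib.Coprime.le_of_forall_inf_centralizer_le hEcyc
      ((hEP0.trans hP0g).trans (c.stab_le_normalizer_Fp q (g • z)))
      (IsPGroup.coprime_card_of_ne r q hqr.symm E (c.Fp q (g • z)) (hP0.to_le hEP0)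
        (c.isPGroup_Fp q _)) ?_
    exact fun e he he1 => inf_le_right.trans (hC e he he1)

end Ctx

end CfsgLib.AbelSolvCent
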