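import Cfsg.Agent.AbelSolvCent.Count
import Cfsg.Agent.AbelSolvCent.NonCentral
import Cfsg.Agent.AbelSolvCent.CentralFinal

/-!
# Abelian Sylow 2-subgroups and solvable involution centralizers

`central`: in a simple group `A` centralizes `W`.  `rankThreeClassified`: simple groups of 2-rank at
least three are `PSL₂(2ⁿ)`, by induction on the order.
-/

set_option autoImplicit false
set_option linter.style.haveILetI false
set_option linter.unusedSectionVars false

namespace CfsgLib.AbelSolvCent

open Subgroup CfsgLib.SEmbed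

universe u v

variable {G : Type u} [Group G] [Finite G] {Ω : Type v} [MulAction G Ω]

namespace Ctx

variable (c : Ctx G Ω) [IsSimpleGroup G]

/-- `A` centralizes `W`. -/
theorem central : c.Central := by
  intro z a ha w hw
  haveI : Group.IsSolvable ↥(c.W z) := (c.hyp z).oddPart_solvable
  by_cases hall : ∀ r : ℕ, r.Prime → ∀ b ∈ c.A z, ∀ x ∈ c.Fp r z, Commute b x
  · -- `A` centralizes `F(W)`, which contains its centralizer
    have hF : ∀ f : ↥(c.W z), f ∈ Cfsg.fittingSubgroup ↥(c.W z) → Commute a (f : G) := by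
      intro f hf
      have hle : Cfsg.fittingSubgroup ↥(c.W z) ≤
          (centralizer ({a} : Set G)).comap (c.W z).subtype := by
        rw [CfsgLib.Solvable.fittingSubgroup_eq_iSup]
        refine iSup_le fun q x hx => mem_centralizer_singleton_iff.2 ?_
        exact (hall q q.2 a ha _ (mem_map_of_mem _ hx)).eq.symm
      exact (mem_centralizer_singleton_iff.1 (hle hf)).symm
    have haN := c.stab_le_normalizer_W z (c.A_le_stab z ha)
    set d : ↥(c.W z) := ⟨w⁻¹ * (a * w * a⁻¹),
      mul_mem (inv_mem hw) ((mem_normalizer_iff.1 haN w).1 hw)⟩ with hd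
    haveI : (Cfsg.fittingSubgroup ↥(c.W z)).Normal := CfsgLib.Solvable.fittingSubgroup_normal
    have hdF : d ∈ Cfsg.fittingSubgroup ↥(c.W z) :=
      CfsgLib.Solvable.centralizer_fittingSubgroup_le (mem_centralizer_iff.2 fun f hf => by
        have h1 : Commute a (f : G) := hF f hf
        have h2 : Commute a (w * (f : G) * w⁻¹) :=
          hF _ ((inferInstance : (Cfsg.fittingSubgroup ↥(c.W z)).Normal).conj_mem f hf ⟨w, hw⟩)
        refine Subtype.ext ?_
        show (f : G) * (w⁻¹ * (a * w * a⁻¹)) = w⁻¹ * (a * w * a⁻¹) * (f : G)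
        calc (f : G) * (w⁻¹ * (a * w * a⁻¹))
            = w⁻¹ * ((w * (f : G) * w⁻¹) * a) * w * a⁻¹ := by group
          _ = w⁻¹ * (a * (w * (f : G) * w⁻¹)) * w * a⁻¹ := by rw [h2.eq]
          _ = w⁻¹ * a * w * ((f : G) * a⁻¹) := by group
          _ = w⁻¹ * a * w * (a⁻¹ * (f : G)) := by rw [h1.inv_left.eq]
          _ = _ := by group)
    have hda : Commute a (d : G) := hF d hdF
    by_cases ha1 : a = 1
    · rw [ha1]; exact Commute.one_left w
    have ha2 : a * a = 1 := CfsgLib.ZCGroup.mul_self_of_orderOf (c.A_mem ha ha1).1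
    have hd2 : (d : G) * (d : G) = 1 := by
      have h1 : a * w * a⁻¹ = w * (d : G) := by simp [hd]
      have h2 : a * (a * w * a⁻¹) * a⁻¹ = w * (d : G) * (d : G) := by
        calc a * (a * w * a⁻¹) * a⁻¹ = a * (w * (d : G)) * a⁻¹ := by rw [h1]
          _ = (a * w * a⁻¹) * (a * (d : G) * a⁻¹) := by group
          _ = _ := by rw [h1, hda.eq, mul_inv_cancel_right]
      have h3 : a * (a * w * a⁻¹) * a⁻¹ = w := by
        rw [show a * (a * w * a⁻¹) * a⁻¹ = a * a * w * (a * a)⁻¹ by group, ha2, one_mul, inv_one,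
          mul_one]
      rw [h3, mul_assoc] at h2
      exact left_eq_mul.1 h2
    have hd1 : (d : G) = 1 := by
      refine orderOf_eq_one_iff.1 (Nat.eq_one_of_dvd_coprimes (a := 2) ?_
        (orderOf_dvd_of_pow_eq_one (by rw [sq, hd2])) ((c.W z).orderOf_dvd_natCard d.2))
      exact Nat.coprime_two_left.2 (c.odd_W z)
    have h4 : w⁻¹ * (a * w * a⁻¹) = 1 := hd1
    rw [inv_mul_eq_one] at h4
    exact (mul_inv_eq_iff_eq_mul.1 h4.symm)
  · exfalso
    push Not at hall
    obtain ⟨r, hrp, b, hb, x, hx, hbx⟩ := hall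
    haveI := Fact.mk hrp
    have hne : c.Fp r z ≠ ⊥ := fun e => hbx (by
      rw [e] at hx
      rw [mem_bot.1 hx]; exact Commute.one_right b)
    have hr2 : r ≠ 2 := by
      rintro rfl
      refine hne ?_
      have h1 : Nat.card (c.Fp 2 z) = 1 := by
        obtain ⟨k, hk⟩ := IsPGroup.iff_card.1 (c.isPGroup_Fp 2 z)
        have hodd := (c.odd_W z).of_dvd_nat (card_dvd_of_le (c.Fp_le_W 2 z))
        rcases k with _ | k
        · rw [hk, pow_zero]
        · exact absurd hodd (Nat.not_odd_iff_even.2 (hk ▸ even_two.pow_of_ne_zero (by omega)))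
      exact eq_bot_of_card_eq _ h1
    have hgood : c.Good r := by
      by_contra hbad
      by_cases hex : ∃ q, q.Prime ∧ q ≠ r ∧ c.Fp q z ≠ ⊥
      · exact hbx (c.commute_of_not_good hbad z hex b hb x hx)
      · push Not at hex
        exact hbad (c.good_of_fitting hr2 fun q hq hqr =>
          (map_eq_bot_iff_of_injective _ (c.W z).subtype_injective).1 (hex q hq hqr))
    obtain ⟨y, hy⟩ := c.nontriv z
    have hPA : ¬ c.A z ≤ centralizer (c.Fp r z : Set G) := fun h =>
      hbx (mem_centralizer_iff.1 (h hb) x hx).symm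
    obtain ⟨v, hv, hvo, hvy⟩ := c.exists_order_fixing hy (c.isPGroup_Fp r z) (c.Fp_le_W r z)
      (c.stab_le_normalizer_Fp r z) fun h => hbx (h b hb x hx)
    refine hy (hgood.eq_of_fix hr2 (c.isPGroup_Fp r z) (c.Fp_le_W r z)
      (c.stab_le_normalizer_Fp r z) hPA hv ?_ ?_ hvy)
    · intro e
      rw [e, orderOf_one] at hvo
      exact hrp.ne_one hvo.symm
    · exact IsPGroup.of_card (n := 1) (by rw [Nat.card_zpowers, hvo, pow_one])

/-- `W` is semiregular off `z`. -/
theorem semiregular {z : Ω} {w : G} (hw : w ∈ c.W z) (hw1 : w ≠ 1) {y : Ω} (hy : w • y = y) :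
    y = z :=
  c.central.semiregular z w hw hw1 y hy

end Ctx

/-- The classification of the simple groups of rank at least three. -/
theorem rankThreeClassified (n : ℕ) : RankThreeClassified.{u} n := by
  induction n using Nat.strong_induction_on with
  | _ n ih =>
    intro H _ _ hHn hs hnc S hS
    haveI := hs
    haveI : Fact (Nat.Prime 2) := ⟨Nat.prime_two⟩
    have hns : ¬ Group.IsSolvable H := fun h => hnc
      ⟨⟨fun a b => (IsSimpleGroup.comm_iff_isSolvable.2 h) a b⟩⟩
    have hM : mid S ≠ ⊤ := fun e => hns (by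
      haveI : Group.IsSolvable (⊤ : Subgroup H) := e ▸ hS.isSolvable_mid
      exact Group.isSolvable_of_surjective
        (f := (Subgroup.topEquiv : (⊤ : Subgroup H) ≃* H).toMonoidHom) (MulEquiv.surjective _))
    have hsub : SubClassified H := by
      intro Y hY hYns
      obtain ⟨T⟩ : Nonempty (Sylow 2 Y) := inferInstance
      refine (classification_of_simple (ih _ ?_) T (abelian_sylow_subgroup S hS.ab Y T)
        (solvableCentralizers_subgroup hS.solv Y)).resolve_left hYns
      refine lt_of_lt_of_le (lt_of_le_of_ne (Nat.le_of_dvd Nat.card_pos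
        (card_subgroup_dvd_card Y)) fun e => hY (Subgroup.eq_top_of_card_eq Y e)) hHn
    let c := Ctx.ofHyp hS hM hsub
    refine (hS.psl2_of_semiregular hM fun w hw hw1 g hg => ?_).2
    set z : H ⧸ mid S := QuotientGroup.mk 1 with hz
    have hout : z.out ∈ mid S := by
      simpa using QuotientGroup.eq.1 (QuotientGroup.out_eq' z).symm
    have hwz : w ∈ c.W z := by
      show w ∈ oddPart (z.out • S)
      rw [oddPart_conj, show (oddPart S).map (MulAut.conj z.out).toMonoidHom = oddPart S from
        mem_normalizer_iff_map_conj_eq.1 (hS.mid_le_normalizer hout)]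
      exact hw
    have hfix : w • (QuotientGroup.mk g : H ⧸ mid S) = QuotientGroup.mk g := by
      show (QuotientGroup.mk (w * g) : H ⧸ mid S) = _
      rw [QuotientGroup.eq]
      simpa [mul_assoc] using inv_mem hg
    have h := c.semiregular hwz hw1 hfix
    simpa using QuotientGroup.eq.1 h.symm

end CfsgLib.AbelSolvCent
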