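import Cfsg.Agent.AbelSolvCent.Overgroup

/-!
# Normalizers of normal subgroups of a stabilizer

`Ctx.normalizer_eq_stab`: a nontrivial subgroup of `W z` normalized by the stabilizer of `z` has this
stabilizer as normalizer.  A larger normalizer would be strongly embedded, and an odd two-point
stabilizer transitive on its involutions would have a Sylow subgroup fixing exactly two points of the
orbit of `z` whose normalizer interchanges them.
-/

set_option autoImplicit false
set_option linter.style.haveILetI false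
set_option linter.unusedSectionVars false

namespace CfsgLib.AbelSolvCent

open Subgroup CfsgLib.SEmbed

universe u v

variable {G : Type u} [Group G] [Finite G]

/-- A Sylow subgroup of `K ⊓ H` for a conjugate: the conjugating element. -/
theorem exists_conj_of_card_eq {p : ℕ} [Fact p.Prime] {H P Q : Subgroup G} (hP : P ≤ H)
    (hQ : Q ≤ H) (hPc : Nat.card P = p ^ (Nat.card H).factorization p)
    (hQc : Nat.card Q = p ^ (Nat.card H).factorization p) :
    ∃ l ∈ H, Q.map (MulAut.conj l).toMonoidHom = P := by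
  let P' : Sylow p H := Sylow.ofCard (P.subgroupOf H)
    (by rw [Nat.card_congr (subgroupOfEquivOfLe hP).toEquiv, hPc])
  let Q' : Sylow p H := Sylow.ofCard (Q.subgroupOf H)
    (by rw [Nat.card_congr (subgroupOfEquivOfLe hQ).toEquiv, hQc])
  obtain ⟨l, hl⟩ := MulAction.exists_smul_eq H Q' P'
  refine ⟨l, l.2, ?_⟩
  refine eq_of_le_of_card_ge ?_ (by
    rw [card_map_of_injective (MulAut.conj (l : G)).injective, hPc, hQc])
  rintro _ ⟨x, hx, rfl⟩
  have h1 : l * ⟨x, hQ hx⟩ * l⁻¹ ∈ (P' : Subgroup H) := by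
    rw [← hl, Sylow.coe_subgroup_smul]
    exact ⟨⟨x, hQ hx⟩, mem_subgroupOf.2 hx, rfl⟩
  exact mem_subgroupOf.1 h1

namespace Ctx

variable {Ω : Type v} [MulAction G Ω] (c : Ctx G Ω)

theorem normalizer_eq_stab [IsSimpleGroup G] {z : Ω} {X : Subgroup G} (hX : X ≠ ⊥)
    (hXW : X ≤ c.W z) (hN : MulAction.stabilizer G z ≤ normalizer (X : Set G)) :
    normalizer (X : Set G) = MulAction.stabilizer G z := by
  classical
  refine le_antisymm ?_ hN
  by_contra hm
  haveI : Fact (Nat.Prime 2) := ⟨Nat.prime_two⟩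
  haveI := finite_points c.fix
  set Y := normalizer (X : Set G) with hYdef
  have hY : Y ≠ ⊤ := by
    intro htop
    haveI : X.Normal := normalizer_eq_top_iff.1 htop
    rcases IsSimpleGroup.eq_bot_or_eq_top_of_normal X inferInstance with h | h
    · exact hX h
    · obtain ⟨y, hy⟩ := c.nontriv z
      obtain ⟨g, hg⟩ := c.fix.transitive z y
      exact hy (hg ▸ (h ▸ hXW.trans (c.W_le_stab z) : (⊤ : Subgroup G) ≤ _) (mem_top g))
  set S := c.syl z with hSdef
  have hh : Hyp S := c.hyp z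
  have hA : c.A z ≤ Y := (c.A_le_stab z).trans hN
  have hover := c.over_A hY hA hm
  have hWY : c.W z ≤ Y := (c.W_le_stab z).trans hN
  have hWfix : ∀ x ∈ c.W z, ∀ g ∈ Y, x • g • z = g • z := fun x hx g hg =>
    c.inf_W_le_stab hY hA hg ⟨hx, hWY hx⟩
  have hmidY : mid S ≤ Y := (c.stab z).ge.trans hN
  -- the odd two-point stabilizer
  have hse : Cfsg.IsStronglyEmbedded Y :=
    CfsgLib.ZCGroup.isStronglyEmbedded_of_centralizer hY S hh.sylow_ne_bot
      ((sylow_le_mid S).trans hmidY)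
      (fun t ht ho => (hh.centralizer_le_mid
        (hh.mem_omegaS.2 ⟨ht, CfsgLib.ZCGroup.mul_self_of_orderOf ho⟩)
        (CfsgLib.ZCGroup.ne_one_of_orderOf ho)).trans hmidY)
      (le_sup_right.trans hmidY)
  haveI := nontrivial_cosets hse
  obtain ⟨x1, hx1⟩ := exists_ne ((1 : G) : G ⧸ Y)
  set K := pairStab G ((1 : G) : G ⧸ Y) x1 with hKdef
  have hKY : K ≤ Y := fun k hk => (smul_one_eq_iff Y k).1 (mem_pairStab.1 hk).1
  have hKodd : Odd (Nat.card K) := odd_pairStab (uniqueFix hse) hx1.symm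
  have hKtrans : ∀ s t : G, s ∈ Y → t ∈ Y → orderOf s = 2 → orderOf t = 2 →
      ∃ k ∈ K, k * s * k⁻¹ = t := fun s t hs ht hso hto =>
    exists_conj_fix (uniqueFix hse) hx1.symm
      ⟨hso, (smul_one_eq_iff Y s).2 hs⟩ ⟨hto, (smul_one_eq_iff Y t).2 ht⟩
  obtain ⟨⟨a, ha⟩, ha1⟩ : ∃ a : c.A z, a ≠ 1 := by
    haveI : Nontrivial (c.A z) := by
      rw [← Finite.one_lt_card_iff_nontrivial]
      have := c.eight_le_card_A z
      omega
    exact exists_ne 1
  have hao := c.A_mem ha fun e => ha1 (Subtype.ext e)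
  have hKorb : ∀ g ∈ Y, ∃ k ∈ K, k • z = g • z := by
    intro g hg
    obtain ⟨k, hk, hka⟩ := hKtrans a (g * a * g⁻¹) (hA ha)
      (mul_mem (mul_mem hg (hA ha)) (inv_mem hg)) hao.1
      ((CfsgLib.Small.orderOf_conj_eq g a).trans hao.1)
    refine ⟨k, hk, c.fix.unique (g * a * g⁻¹) ((CfsgLib.Small.orderOf_conj_eq g a).trans hao.1)
      _ _ ?_ ?_⟩
    · rw [← hka, smul_smul, inv_mul_cancel_right, mul_smul, hao.2]
    · rw [smul_smul, inv_mul_cancel_right, mul_smul, hao.2]
  -- the action on the image of `A`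
  haveI hn0 := hh.normal_oddPart
  haveI := hh.omegaBar_normal
  set Kz := K ⊓ MulAction.stabilizer G z with hKz
  have hKzmid : Kz ≤ mid S := inf_le_right.trans (c.stab z).le
  let ψ : Kz →* MulAut (omegaBar S) :=
    (MulAut.conjNormal.comp (toBar S)).comp (Subgroup.inclusion hKzmid)
  have hψ : ∀ (k : Kz) (v : omegaBar S), ((ψ k v : omegaBar S) : MidQuot S) =
      toBar S (Subgroup.inclusion hKzmid k) * v * (toBar S (Subgroup.inclusion hKzmid k))⁻¹ :=
    fun k v => MulAut.conjNormal_apply _ _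
  have htr : ∀ v w : omegaBar S, v ≠ 1 → w ≠ 1 → ∃ k : Kz, ψ k v = w := by
    intro v w hv hw
    obtain ⟨b, hb, hbv⟩ := v.2
    obtain ⟨d, hd, hdw⟩ := w.2
    have hne : ∀ (b : mid S) (v : omegaBar S), toBar S b = v → v ≠ 1 → (b : G) ≠ 1 :=
      fun b v hbv hv e => hv (Subtype.ext (by rw [← hbv, show b = 1 from Subtype.ext e, map_one]; rfl))
    have hbI := c.A_mem (mem_subgroupOf.1 hb) (hne b v hbv hv)
    have hdI := c.A_mem (mem_subgroupOf.1 hd) (hne d w hdw hw)
    obtain ⟨k, hk, hkb⟩ := hKtrans b d (hA (mem_subgroupOf.1 hb)) (hA (mem_subgroupOf.1 hd))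
      hbI.1 hdI.1
    have hkz : k • z = z := by
      refine c.fix.unique _ hdI.1 _ _ ?_ hdI.2
      rw [← hkb, smul_smul, inv_mul_cancel_right, mul_smul, hbI.2]
    refine ⟨⟨k, hk, hkz⟩, Subtype.ext ?_⟩
    rw [hψ, ← hbv, ← hdw, ← map_inv, ← map_mul, ← map_mul]
    exact congrArg (toBar S) (Subtype.ext hkb)
  obtain ⟨n, hn⟩ := IsPGroup.iff_card.1 (S.isPGroup'.to_le (omegaS_le S))
  have hn3 : 3 ≤ n := (Nat.pow_le_pow_iff_right (a := 2) one_lt_two).1 (hn ▸ hh.rank3)
  obtain ⟨p, hp⟩ := exists_goodPrime hn3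
  haveI : Fact p.Prime := ⟨hp.prime⟩
  have hXodd : Odd (Nat.card ψ.range) :=
    (hKodd.of_dvd_nat (card_dvd_of_le inf_le_left)).of_dvd_nat (Subgroup.card_range_dvd ψ)
  have hV : Nat.card (omegaBar S) = 2 ^ n := hh.card_omegaBar.trans hn
  have hfacts : Facts ψ.range.subtype n p := facts hn3 hp hXodd hh.omegaBar_exp hV _
    (Subgroup.subtype_injective _) fun v w hv hw => by
      obtain ⟨k, hk⟩ := htr v w hv hw
      exact ⟨⟨ψ k, k, rfl⟩, hk⟩
  have hpX : p ∣ Nat.card ψ.range := by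
    haveI : Nontrivial (omegaBar S) := by
      rw [← Finite.one_lt_card_iff_nontrivial, hV]
      exact Nat.one_lt_two_pow (by omega)
    obtain ⟨v, hv⟩ := exists_ne (1 : omegaBar S)
    have horb : MulAction.orbit ψ.range v = {w | w ≠ 1} := by
      ext w
      constructor
      · rintro ⟨g, rfl⟩ he
        exact hv ((g : MulAut _).injective (he.trans (map_one _).symm))
      · intro hw
        obtain ⟨k, hk⟩ := htr v w hv hw
        exact ⟨⟨ψ k, k, rfl⟩, hk⟩
    have h1 : Nat.card (MulAction.orbit ψ.range v) ∣ Nat.card ψ.range := by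
      rw [Nat.card_congr (MulAction.orbitEquivQuotientStabilizer ψ.range v),
        ← Subgroup.index_eq_card]
      exact index_dvd_card _
    haveI := Fintype.ofFinite (omegaBar S)
    have h2 : Nat.card {w : omegaBar S | w ≠ 1} = 2 ^ n - 1 := by
      rw [Nat.card_eq_fintype_card]
      simp only [Set.coe_ofPred, Fintype.card_subtype_compl, Fintype.card_subtype_eq]
      rw [← Nat.card_eq_fintype_card, hV]
    rw [horb, h2] at h1
    exact hp.dvd.trans h1
  obtain ⟨P⟩ : Nonempty (Sylow p Kz) := inferInstance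
  obtain ⟨k, hkP, hko⟩ : ∃ k ∈ (P : Subgroup Kz), orderOf (ψ.rangeRestrict k) = p := by
    obtain ⟨j, hj⟩ := exists_prime_orderOf_dvd_card' (G := ((P.mapSurjective
      (MonoidHom.rangeRestrict_surjective ψ) : Sylow p ψ.range) : Subgroup ψ.range)) p (by
        have h1 := Sylow.pow_dvd_card_of_pow_dvd_card
          (P.mapSurjective (MonoidHom.rangeRestrict_surjective ψ)) (n := 1) (by simpa using hpX)
        simpa using h1)
    obtain ⟨k, hk, hke⟩ := (Sylow.coe_mapSurjective (MonoidHom.rangeRestrict_surjective ψ) P).le j.2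
    exact ⟨k, hk, by rw [hke, Subgroup.orderOf_coe, hj]⟩
  set PG := (P : Subgroup Kz).map Kz.subtype with hPG
  have hPKz : PG ≤ Kz := map_subtype_le _
  have hPY : PG ≤ Y := hPKz.trans (inf_le_left.trans hKY)
  have hPc : Nat.card PG = p ^ (Nat.card Kz).factorization p := by
    rw [hPG, card_map_of_injective Kz.subtype_injective, P.card_eq_multiplicity]
  have hkPG : (k : G) ∈ PG := ⟨k, hkP, rfl⟩
  -- `P` fixes exactly two points of the orbit
  obtain ⟨w, hwz, ⟨g, hg, hgw⟩, hPw⟩ : ∃ w, w ≠ z ∧ (∃ g ∈ Y, g • z = w) ∧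
      ∀ x ∈ PG, x • w = w := by
    letI : MulAction PG (MulAction.orbit Y z) :=
      MulAction.compHom _ (Subgroup.inclusion hPY)
    have hcard := hover.card_orbit
    have hmod := (P.isPGroup'.map Kz.subtype).card_modEq_card_fixedPoints
      (MulAction.orbit Y z)
    by_contra hc
    push Not at hc
    have hone : MulAction.fixedPoints PG (MulAction.orbit Y z) =
        {⟨z, MulAction.mem_orbit_self z⟩} := by
      ext o
      constructor
      · intro ho
        refine Subtype.ext ?_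
        by_contra hne
        obtain ⟨g, hgo⟩ := o.2
        obtain ⟨x, hx, hxo⟩ := hc o.1 hne ⟨g, g.2, hgo⟩
        exact hxo (congrArg Subtype.val (ho ⟨x, hx⟩))
      · rintro rfl
        exact fun x => Subtype.ext (hPKz x.2).2
    rw [hone, Nat.card_eq_fintype_card (α := ({_} : Set _)), Set.card_singleton, hcard,
      hh.card_omegaBar.symm.trans hV] at hmod
    have h2 := (Nat.modEq_iff_dvd' (by omega)).1 hmod.symm
    rw [Nat.add_sub_cancel] at h2
    exact c_odd_prime hn3 hp ((Nat.prime_dvd_prime_iff_eq hp.prime Nat.prime_two).1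
      (hp.prime.dvd_of_dvd_pow h2))
  have huniq : ∀ g' ∈ Y, g' • z ≠ z → (∀ x ∈ PG, x • g' • z = g' • z) → g' • z = w := by
    intro g' hg' hg'z hfix
    obtain ⟨t, ht, htw⟩ := hover.exists_smul_eq hg hg' (by rwa [hgw]) hg'z
    rw [hgw] at htw
    by_cases ht1 : t = 1
    · rw [← htw, ht1, one_smul]
    exfalso
    have hkw : (k : G) • w = w := hPw _ hkPG
    set u : G := (k : G) * t * (k : G)⁻¹ with hu
    have huw : u • w = t • w := by
      rw [hu, mul_smul, mul_smul, inv_smul_eq_iff.2 hkw.symm, htw]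
      exact hfix _ hkPG
    set tm : mid S := ⟨t, omegaS_le_mid S ht⟩ with htm
    set km : mid S := Subgroup.inclusion hKzmid k with hkm
    have htbar : toBar S tm ∈ omegaBar S := mem_map_of_mem _ (mem_subgroupOf.2 ht)
    set v : omegaBar S := ⟨toBar S tm, htbar⟩ with hv
    have hv1 : v ≠ 1 := fun e => ht1 (congrArg Subtype.val (hh.toBar_injOn (a := tm) (b := 1) ht
      (one_mem _) (by rw [map_one]; exact congrArg Subtype.val e)))
    refine hv1 (hfacts.fpf (ψ.rangeRestrict k) hko v (Subtype.ext ?_))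
    show ((ψ k v : omegaBar S) : MidQuot S) = toBar S tm
    rw [hψ]
    show toBar S km * toBar S tm * (toBar S km)⁻¹ = toBar S tm
    by_contra hne
    have hmem : (toBar S tm)⁻¹ * (toBar S km * toBar S tm * (toBar S km)⁻¹) ∈ omegaBar S :=
      mul_mem (inv_mem htbar) ((inferInstance : (omegaBar S).Normal).conj_mem _ htbar _)
    obtain ⟨d, hd, hde⟩ := hmem
    have hdW : (d : G)⁻¹ * (t⁻¹ * u) ∈ oddPart S := by
      have h1 : toBar S d = toBar S (tm⁻¹ * (km * tm * km⁻¹)) := by
        rw [hde, map_mul, map_mul, map_mul, map_inv, map_inv]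
      exact toBar_eq_iff.1 h1
    have hd1 : (d : G) ≠ 1 := fun e => hne (by
      rw [show d = 1 from Subtype.ext e, map_one] at hde
      exact (inv_mul_eq_one.1 hde.symm).symm)
    have h1 : ((d : G)⁻¹ * (t⁻¹ * u)) • w = w := hgw ▸ hWfix _ hdW g hg
    have h2 : (d : G)⁻¹ • w = w := by
      have h3 : (t⁻¹ * u) • w = w := by rw [mul_smul, huw, inv_smul_smul]
      rwa [mul_smul, h3] at h1
    have hdI := c.A_mem (mem_subgroupOf.1 hd) hd1
    exact hwz (c.fix.unique _ hdI.1 _ _ (inv_smul_eq_iff.1 h2).symm hdI.2)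
  -- the normalizer interchanges them
  obtain ⟨g', hg', hg'w⟩ := hKorb g hg
  rw [hgw] at hg'w
  set Kw := K ⊓ MulAction.stabilizer G w with hKw
  have hKzw : Kz.map (MulAut.conj g').toMonoidHom = Kw := by
    ext x
    constructor
    · rintro ⟨y, ⟨hyK, hyz⟩, rfl⟩
      refine ⟨K.mul_mem (K.mul_mem hg' hyK) (K.inv_mem hg'), ?_⟩
      show (g' * y * g'⁻¹) • w = w
      rw [← hg'w, smul_smul, inv_mul_cancel_right, mul_smul, show y • z = z from hyz]
    · rintro ⟨hxK, hxw⟩
      refine ⟨g'⁻¹ * x * g', ⟨K.mul_mem (K.mul_mem (K.inv_mem hg') hxK) hg', ?_⟩, by simp [mul_assoc]⟩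
      show (g'⁻¹ * x * g') • z = z
      rw [mul_smul, mul_smul, hg'w, show x • w = w from hxw, ← hg'w, inv_smul_smul]
  have hPKw : PG ≤ Kw := fun x hx => ⟨(hPKz hx).1, hPw x hx⟩
  obtain ⟨l, hl, hlP⟩ := exists_conj_of_card_eq (p := p) hPKw
    (hKzw ▸ map_mono hPKz : PG.map (MulAut.conj g').toMonoidHom ≤ Kw)
    (by rw [hPc, ← hKzw, card_map_of_injective (MulAut.conj g').injective])
    (by rw [card_map_of_injective (MulAut.conj g').injective, hPc, ← hKzw,
      card_map_of_injective (MulAut.conj g').injective])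
  set m := l * g' with hm'
  have hmK : m ∈ K := K.mul_mem hl.1 hg'
  have hmz : m • z = w := by rw [hm', mul_smul, hg'w, show l • w = w from hl.2]
  have hmN : ∀ x ∈ PG, m⁻¹ * x * m ∈ PG := by
    intro x hx
    rw [← hlP] at hx
    obtain ⟨_, ⟨y, hy, rfl⟩, rfl⟩ := hx
    have : m⁻¹ * (l * (g' * y * g'⁻¹) * l⁻¹) * m = y := by rw [hm']; group
    exact this.symm ▸ hy
  have hmw : m • w = z := by
    by_contra hne
    have h1 : m • w = w := by
      have h2 : m • w = (m * g) • z := by rw [mul_smul m g z, hgw]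
      refine h2.trans (huniq (m * g) (mul_mem (hKY hmK) hg) (h2 ▸ hne) fun x hx => ?_)
      rw [← h2]
      have h3 := hPw _ (hmN x hx)
      rw [mul_smul, mul_smul, inv_smul_eq_iff] at h3
      exact h3
    exact hwz (smul_left_cancel m (h1.trans hmz.symm))
  have hodd := hKodd.of_dvd_nat (Subgroup.orderOf_dvd_natCard K hmK)
  obtain ⟨j, hj⟩ := hodd
  have hpow : ∀ i : ℕ, (m ^ 2) ^ i • z = z := by
    intro i
    induction i with
    | zero => simp
    | succ i ih => rw [pow_succ', mul_smul, ih, sq, mul_smul, hmz, hmw]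
  have h1 : (m * (m ^ 2) ^ j) • z = w := by rw [mul_smul, hpow, hmz]
  rw [← pow_mul, ← pow_succ', ← hj, pow_orderOf_eq_one, one_smul] at h1
  exact hwz h1.symm
where
  c_odd_prime {n p : ℕ} (hn : 3 ≤ n) (hp : GoodPrime n p) : p ≠ 2 := by
    intro e
    have h := hp.dvd
    rw [e, show n = n - 1 + 1 by omega, pow_succ'] at h
    have := Nat.one_le_two_pow (n := n - 1)
    omega

end Ctx

end CfsgLib.AbelSolvCent
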