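import Cfsg.Agent.SL2Classes.Basic
import Cfsg.Agent.SuzukiTheorem.LineCase

/-!
# Involution centralizers of `PSL₂(2ᵐ)` have exponent two
-/

set_option autoImplicit false
set_option linter.style.haveILetI false
set_option linter.unusedSectionVars false

namespace CfsgLib.AbelSolvCent

open Subgroup CfsgLib.SL2Tori
open scoped MatrixGroups

variable {F : Type} [Field F] [Fintype F] [CharP F 2]

theorem sl2_centralizer_invol_sq {g c : SL(2, F)} (hg : g * g = 1) (hg1 : g ≠ 1)
    (hc : c ∈ centralizer ({g} : Set SL(2, F))) : c * c = 1 := by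
  have h2 : (2 : F) = 0 := CharTwo.two_eq_zero
  have hgc : g ∉ center SL(2, F) := by
    rw [CfsgLib.SuzukiThm.center_SL2_eq_bot F, mem_bot]
    exact hg1
  have hns := CfsgLib.SL2Trace.nonScalar_of_not_mem_center hgc
  have hg' : g.1 * g.1 = 1 := congrArg Subtype.val hg
  have hdet : g.1 0 0 * g.1 1 1 - g.1 0 1 * g.1 1 0 = 1 := by
    rw [← Matrix.det_fin_two]; exact g.2
  have h00 := congrFun (congrFun hg' 0) 0
  rw [Matrix.mul_apply, Fin.sum_univ_two] at h00
  have htr : tr g = 0 := by
    have h11 := congrFun (congrFun hg' 1) 1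
    rw [Matrix.mul_apply, Fin.sum_univ_two] at h11
    simp only [Matrix.one_apply_eq] at h00 h11
    have : (tr g) * (tr g) = 0 := by
      rw [tr, Matrix.trace_fin_two]
      linear_combination h00 + h11 + 2 * hdet + 2 * h2
    exact mul_self_eq_zero.1 this
  obtain ⟨x, y, hxy⟩ := (mem_centralizer_iff hns c).1 hc
  have hd : x ^ 2 + y ^ 2 = 1 := by
    have h := det_combination g x y
    rw [← hxy, c.2, htr] at h
    rw [h]; ring
  refine Subtype.ext ?_
  rw [Matrix.SpecialLinearGroup.coe_mul, hxy, Matrix.SpecialLinearGroup.coe_one]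
  have hne : ((2 : F) * (x * y)) • g.1 = 0 := by rw [h2, zero_mul, zero_smul]
  calc (x • (1 : Matrix (Fin 2) (Fin 2) F) + y • g.1) * (x • 1 + y • g.1)
      = (x * x) • (1 : Matrix (Fin 2) (Fin 2) F) + ((2 : F) * (x * y)) • g.1
          + (y * y) • (g.1 * g.1) := by
        simp only [mul_add, add_mul, smul_mul_assoc, mul_smul_comm, one_mul, mul_one, smul_add, smul_smul]
        rw [two_mul, add_smul, mul_comm y x]
        abel
    _ = (x * x + y * y) • (1 : Matrix (Fin 2) (Fin 2) F) := by
        rw [hne, add_zero, hg', ← add_smul]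
    _ = 1 := by
        rw [show x * x + y * y = x ^ 2 + y ^ 2 by ring, hd, one_smul]

/-- In `PSL₂(2ᵐ)` the centralizer of an involution has exponent two. -/
theorem psl2_centralizer_invol_sq {u d : Matrix.ProjectiveSpecialLinearGroup (Fin 2) F}
    (hu : u * u = 1) (hu1 : u ≠ 1) (hd : d * u = u * d) : d * d = 1 := by
  have hker : (QuotientGroup.mk' (center SL(2, F))).ker = ⊥ := by
    rw [QuotientGroup.ker_mk', CfsgLib.SuzukiThm.center_SL2_eq_bot F]
  have hinj := (MonoidHom.ker_eq_bot_iff _).1 hker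
  obtain ⟨g, rfl⟩ := QuotientGroup.mk'_surjective _ u
  obtain ⟨c, rfl⟩ := QuotientGroup.mk'_surjective _ d
  rw [← map_mul] at hu ⊢
  rw [sl2_centralizer_invol_sq (hinj (hu.trans (map_one _).symm))
    (fun e => hu1 (by rw [e, map_one]))
    (mem_centralizer_singleton_iff.2 (hinj (by rw [map_mul, map_mul, hd]))), map_one]

end CfsgLib.AbelSolvCent
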