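import Cfsg.Agent.AbelSolvCent.Ctx
import Cfsg.Agent.AbelSolvCent.PSLElem
import Cfsg.Agent.SEmbed.Abelian
import Cfsg.Agent.GW.PSLKlein
import Cfsg.Agent.Linear.SL2Sylow

/-!
# A maximal elementary abelian 2-subgroup of `PSL₂(q)` as in the overgroup lemma

`elemCentralizers_of_psl`: for `q = 2ᵐ`, or for `q ≡ 3, 5 (mod 8)` if the involutions commuting with one
of `T` lie in `T`, the subgroup `T` is a Sylow 2-subgroup containing the centralizers of its
involutions.
-/

set_option autoImplicit false
set_option linter.style.haveILetI false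
set_option linter.unusedSectionVars false

namespace CfsgLib.AbelSolvCent

open Subgroup CfsgLib.SEmbed
open CfsgLib.Small

universe u v

/-- Centralizers of involutions in `PSL₂` are the Sylow 2-subgroup `T`. -/
theorem elemCentralizers_of_psl {L : Type*} [Group L] [Finite L] {F : Type} [Field F] [Fintype F]
    (hF : GoodField F) (e : L ≃* Matrix.ProjectiveSpecialLinearGroup (Fin 2) F) {T : Subgroup L}
    (hT : Cfsg.IsElementaryAbelian 2 T) (h4 : 4 ≤ Nat.card T)
    (hmax : ∀ s : L, orderOf s = 2 → (∀ t ∈ T, Commute s t) → s ∈ T)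
    (hsmall : 8 ≤ Nat.card T ∨ ∀ v ∈ T, ∀ s : L, v ≠ 1 → orderOf s = 2 → Commute s v → s ∈ T)
    (hnn : ∀ P : Sylow 2 L, (P : Subgroup L) = T → ¬ (P : Subgroup L).Normal) :
    ∃ P : Sylow 2 L, (P : Subgroup L) = T ∧ ElemCentralizers P := by
  haveI : Fact (Nat.Prime 2) := ⟨Nat.prime_two⟩
  haveI := hT.1
  have hTc : ∀ a ∈ T, ∀ b ∈ T, a * b = b * a := fun a ha b hb =>
    congrArg Subtype.val (mul_comm' (⟨a, ha⟩ : T) ⟨b, hb⟩)
  have hTp : IsPGroup 2 T := fun t => ⟨1, Subtype.ext (by simpa using hT.2 t t.2)⟩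
  obtain ⟨P, hTP⟩ := hTp.exists_le_sylow
  obtain ⟨t0, ht0, ht01⟩ : ∃ t ∈ T, t ≠ 1 := by
    by_contra hc
    push Not at hc
    have : T = ⊥ := (eq_bot_iff_forall _).2 hc
    rw [this, card_bot] at h4
    omega
  have hsurj : Function.Surjective e.toMonoidHom := e.surjective
  -- the centralizers of the involutions of `T` have exponent two
  have key : ∀ v ∈ T, v ≠ 1 → ∀ d : L, d * v = v * d → d * d = 1 := by
    intro v hv hv1 d hd
    have hv2 : v * v = 1 := by rw [← sq]; exact hT.2 v hv
    rcases hF with ⟨hq, -⟩ | ⟨m, hm, hcard⟩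
    swap
    · haveI : CharP F 2 := charP_of_card_eq_prime_pow (f := m) hcard
      refine e.injective ?_
      rw [map_mul, map_one]
      exact psl2_centralizer_invol_sq (by rw [← map_mul, hv2, map_one])
        (fun h => hv1 (e.injective (h.trans e.map_one.symm))) (by rw [← map_mul, hd, map_mul])
    have hodd : Odd (Fintype.card F) := by rw [Nat.odd_iff]; omega
    -- a Sylow subgroup is a four group
    have hkP := CfsgLib.Linear.isKleinFour_sylow_PSL_two hq
      (P.mapSurjective (f := e.toMonoidHom) hsurj)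
    have hP4 : Nat.card (P : Subgroup L) = 4 := by
      have h := hkP.card_four
      rwa [Sylow.coe_mapSurjective, card_map_of_injective (f := e.toMonoidHom) e.injective] at h
    have hTeq : T = (P : Subgroup L) := eq_of_le_of_card_ge hTP (hP4.le.trans h4)
    have hsm := hsmall.resolve_left (by rw [hTeq, hP4]; norm_num) v hv
    -- every element of `C(v)` permutes `T`
    have hperm : ∀ g : L, g * v = v * g → ∀ t ∈ T, g * t * g⁻¹ ∈ T := by
      intro g hg t ht
      by_cases ht1 : t = 1
      · rw [ht1, mul_one, mul_inv_cancel]; exact one_mem T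
      refine hsm _ hv1 ?_ ?_
      · rw [orderOf_conj_eq]
        exact CfsgLib.ZCGroup.orderOf_eq_two (by rw [← sq]; exact hT.2 t ht) ht1
      · have hg' : g * v * g⁻¹ = v := mul_inv_eq_iff_eq_mul.2 hg
        show g * t * g⁻¹ * v = v * (g * t * g⁻¹)
        calc g * t * g⁻¹ * v = g * t * g⁻¹ * (g * v * g⁻¹) := by rw [hg']
          _ = g * (t * v) * g⁻¹ := by group
          _ = g * (v * t) * g⁻¹ := by rw [hTc t ht v hv]
          _ = g * v * g⁻¹ * (g * t * g⁻¹) := by group
          _ = _ := by rw [hg']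
    obtain ⟨k, m, hm, hkm⟩ := Nat.exists_eq_two_pow_mul_odd (orderOf_pos d).ne'
    have hdv : ∀ i : ℕ, d ^ i * v = v * d ^ i := fun i => (show Commute d v from hd).pow_left i
    -- the part of odd order is trivial
    have h1 : d ^ 2 ^ k = 1 := by
      set x := d ^ 2 ^ k with hx
      have hxo : Odd (orderOf x) := by
        rw [hx, orderOf_pow, Nat.gcd_eq_right ⟨m, hkm⟩, hkm, Nat.mul_div_cancel_left _ (by positivity)]
        exact hm
      have hxv : x * v = v * x := hdv _
      obtain ⟨a, ha, ha1, hav⟩ : ∃ a ∈ T, a ≠ 1 ∧ a ≠ v := by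
        by_contra hc
        push Not at hc
        have hsub : (T : Set L) ⊆ {1, v} := fun t ht => by
          by_cases h : t = 1
          · exact Or.inl h
          · exact Or.inr (hc t ht h)
        have h5 := Set.ncard_le_ncard hsub (Set.toFinite _)
        rw [← Nat.card_coe_set_eq] at h5
        have h6 : ({1, v} : Set L).ncard ≤ 2 := (Set.ncard_insert_le _ _).trans (by simp)
        have : Nat.card T ≤ 2 := h5.trans h6
        omega
      -- `x ^ 2` fixes each of the three involutions
      have hfour : ∀ t ∈ T, t = 1 ∨ t = v ∨ t = a ∨ t = v * a := by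
        intro t ht
        by_contra hc
        push Not at hc
        have hsub : ({1, v, a, v * a, t} : Set L) ⊆ (T : Set L) := by
          rintro y (rfl | rfl | rfl | rfl | rfl)
          exacts [one_mem _, hv, ha, mul_mem hv ha, ht]
        have h5 := Set.ncard_le_ncard hsub (Set.toFinite _)
        rw [← Nat.card_coe_set_eq (T : Set L)] at h5
        have e1 : v * a ≠ 1 := fun e =>
          hav (mul_left_cancel (a := v) (e.trans hv2.symm))
        have e2 : v * a ≠ v := fun e => ha1 (mul_eq_left.1 e)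
        have e3 : v * a ≠ a := fun e => hv1 (mul_eq_right.1 e)
        rw [Set.ncard_insert_of_notMem (by simp [hv1.symm, ha1.symm, e1.symm, hc.1.symm]),
          Set.ncard_insert_of_notMem (by simp [hav.symm, e2.symm, hc.2.1.symm]),
          Set.ncard_insert_of_notMem (by simp [e3.symm, hc.2.2.1.symm]),
          Set.ncard_pair hc.2.2.2.symm] at h5
        change 5 ≤ Nat.card T at h5
        rw [hTeq, hP4] at h5
        omega
      have hx2 : x * x * a * (x * x)⁻¹ = a := by
        have hxa := hperm x hxv a ha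
        rcases hfour _ hxa with h | h | h | h
        · exact absurd (by simpa using h : a = 1) ha1
        · exfalso
          refine hav ?_
          calc a = x⁻¹ * (x * a * x⁻¹) * x := by group
            _ = x⁻¹ * (v * x) := by rw [h, mul_assoc]
            _ = v := by rw [← hxv, inv_mul_cancel_left]
        · rw [show x * x * a * (x * x)⁻¹ = x * (x * a * x⁻¹) * x⁻¹ by group, h, h]
        · rw [show x * x * a * (x * x)⁻¹ = x * (x * a * x⁻¹) * x⁻¹ by group, h,
            show x * (v * a) * x⁻¹ = x * v * x⁻¹ * (x * a * x⁻¹) by group, h,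
            mul_inv_eq_iff_eq_mul.2 hxv, ← mul_assoc, hv2, one_mul]
      have hxa : x * a = a * x := by
        obtain ⟨j, hj⟩ := hxo
        have hc : Commute (x * x) a := mul_inv_eq_iff_eq_mul.1 hx2
        have hx' : x = (x * x) ^ (j + 1) := by
          rw [← sq, ← pow_mul, show 2 * (j + 1) = orderOf x + 1 by omega, pow_succ,
            pow_orderOf_eq_one, one_mul]
        rw [hx']
        exact (hc.pow_left _).eq
      refine e.injective (Eq.trans ?_ e.map_one.symm)
      refine CfsgLib.GW.eq_one_of_commute_four_psl hodd (k := e x) (a := e v) (b := e a) ?_ ?_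
        (fun h => hav (e.injective h).symm) ?_ ?_ ?_ ?_
      · rw [e.orderOf_eq]; exact CfsgLib.ZCGroup.orderOf_eq_two hv2 hv1
      · rw [e.orderOf_eq]
        exact CfsgLib.ZCGroup.orderOf_eq_two (by rw [← sq]; exact hT.2 a ha) ha1
      · rw [← map_mul, ← map_mul, hTc v hv a ha]
      · rw [e.orderOf_eq]; exact hxo
      · rw [← map_mul, ← map_mul, hxv]
      · rw [← map_mul, ← map_mul, hxa]
    have hd2 : IsPGroup 2 (zpowers d) := IsPGroup.of_card_dvd_pow (n := k)
      (by rw [Nat.card_zpowers]; exact orderOf_dvd_of_pow_eq_one h1)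
    obtain ⟨R, hR⟩ := hd2.exists_le_sylow
    have hkR := CfsgLib.Linear.isKleinFour_sylow_PSL_two hq
      (R.mapSurjective (f := e.toMonoidHom) hsurj)
    have hdR : e d ∈ (R.mapSurjective (f := e.toMonoidHom) hsurj : Subgroup _) := by
      rw [Sylow.coe_mapSurjective]; exact ⟨d, hR (mem_zpowers d), rfl⟩
    haveI := hkR
    have h2 := IsKleinFour.mul_self (⟨e d, hdR⟩ : ↥(R.mapSurjective (f := e.toMonoidHom) hsurj :
      Subgroup _))
    exact e.injective (by rw [map_mul, map_one]; exact congrArg Subtype.val h2)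
  have hexp : ∀ v ∈ T, v ≠ 1 → ∀ a b : L, a * v = v * a → b * v = v * b → a * b = b * a := by
    intro v hv hv1 a b ha hb
    have hab := key v hv hv1 (a * b) ((show Commute a v from ha).mul_left hb).eq
    calc a * b = a * (a * b * (a * b)) * b := by rw [hab, mul_one]
      _ = (a * a) * (b * a) * (b * b) := by group
      _ = b * a := by rw [key v hv hv1 a ha, key v hv hv1 b hb, one_mul, mul_one]
  -- `T` is a Sylow subgroup
  haveI : Nontrivial (P : Subgroup L) :=
    ⟨⟨t0, hTP ht0⟩, 1, fun e => ht01 (congrArg Subtype.val e)⟩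
  obtain ⟨⟨z, hzc⟩, hz1⟩ := @exists_ne _ P.isPGroup'.center_nontrivial 1
  have hzT : ∀ t ∈ T, (z : L) * t = t * z := fun t ht =>
    (congrArg Subtype.val (mem_center_iff.1 hzc ⟨t, hTP ht⟩)).symm
  have hzmem : (z : L) ∈ T := by
    refine hmax _ (CfsgLib.ZCGroup.orderOf_eq_two (key t0 ht0 ht01 _ (hzT t0 ht0)) fun e => hz1 ?_)
      hzT
    exact Subtype.ext (Subtype.ext e)
  have hPT : (P : Subgroup L) = T := by
    refine le_antisymm (fun p hp => ?_) hTP
    by_cases hp1 : p = 1
    · rw [hp1]; exact one_mem T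
    have hzne : (z : L) ≠ 1 := fun e => hz1 (Subtype.ext (Subtype.ext e))
    have hpz : p * (z : L) = z * p := congrArg Subtype.val (mem_center_iff.1 hzc ⟨p, hp⟩)
    exact hmax p (CfsgLib.ZCGroup.orderOf_eq_two (key _ hzmem hzne p hpz) hp1) fun t ht =>
      hexp _ hzmem hzne p t hpz (hzT t ht).symm
  refine ⟨P, hPT, ⟨fun hcyc => ?_, hnn P hPT, fun t ht => ?_⟩⟩
  · haveI := hcyc
    obtain ⟨g, hg⟩ := IsCyclic.exists_ofOrder_eq_natCard (α := (P : Subgroup L))
    have h2 : orderOf g ∣ 2 := orderOf_dvd_of_pow_eq_one (Subtype.ext (hT.2 g (hPT ▸ g.2)))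
    rw [hg, hPT] at h2
    have := Nat.le_of_dvd two_pos h2
    omega
  · have hp2 : IsPGroup 2 (zpowers t) :=
      IsPGroup.of_card (n := 1) (by rw [Nat.card_zpowers, ht, pow_one])
    obtain ⟨R, hR⟩ := hp2.exists_le_sylow
    obtain ⟨g, hg⟩ := MulAction.exists_smul_eq L R P
    have hv : g * t * g⁻¹ ∈ T := by
      rw [← hPT, ← hg, Sylow.coe_subgroup_smul]
      exact ⟨t, hR (mem_zpowers t), rfl⟩
    have hv1 : g * t * g⁻¹ ≠ 1 := fun e => ne_one_of_orderOf_two ht (conj_eq_one_iff.1 e)
    have hc : ∀ d ∈ centralizer ({t} : Set L),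
        g * d * g⁻¹ * (g * t * g⁻¹) = g * t * g⁻¹ * (g * d * g⁻¹) := by
      intro d hd
      calc g * d * g⁻¹ * (g * t * g⁻¹) = g * (d * t) * g⁻¹ := by group
        _ = g * (t * d) * g⁻¹ := by rw [mem_centralizer_singleton_iff.1 hd]
        _ = _ := by group
    refine ⟨⟨⟨fun a b => Subtype.ext ?_⟩⟩, fun d hd => ?_⟩
    · have h := hexp _ hv hv1 _ _ (hc a a.2) (hc b b.2)
      refine (MulAut.conj g).injective ?_
      simp only [Subgroup.coe_mul, map_mul, MulAut.conj_apply]
      exact h
    · have h := key _ hv hv1 _ (hc d hd)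
      refine (MulAut.conj g).injective ?_
      rw [map_one, sq, map_mul, MulAut.conj_apply]
      exact h

end CfsgLib.AbelSolvCent
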