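import Cfsg.Agent.AbelSolvCent.Ctx
import Cfsg.Agent.AbelSolvCent.PSLSylow

/-!
# Proper subgroups moving a point

`Ctx.Over c z Y T`: the proper subgroup `Y` moves `z` and `T` is the group of its involutions at `z`.
Then the `Y`-orbit of `z` has `|T| + 1` points, `T` is regular on the others and `Y ∩ W z` fixes the
orbit pointwise.
-/

set_option autoImplicit false
set_option linter.style.haveILetI false
set_option linter.unusedSectionVars false

namespace CfsgLib.AbelSolvCent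

open Subgroup CfsgLib.SEmbed

universe u v

variable {G : Type u} [Group G] [Finite G] {Ω : Type v} [MulAction G Ω]

namespace Ctx

/-- A proper subgroup moving `z`, with its involutions at `z`. -/
structure Over (c : Ctx G Ω) (z : Ω) (Y T : Subgroup G) : Prop where
  ne_top : Y ≠ ⊤
  moves : ¬ Y ≤ MulAction.stabilizer G z
  le : T ≤ Y ⊓ MulAction.stabilizer G z
  elem : Cfsg.IsElementaryAbelian 2 T
  four : 4 ≤ Nat.card T
  max : ∀ s ∈ Y, orderOf s = 2 → (∀ t ∈ T, Commute s t) → s ∈ T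
  conjT : ∀ s ∈ Y, s ∈ invMap (G := G) z z → ∃ w ∈ Y ⊓ c.W z, w * s * w⁻¹ ∈ T
  small : 8 ≤ Nat.card T ∨ ∀ s ∈ Y, s ∈ invMap (G := G) z z → s ∈ T

end Ctx

/-- The image of a subgroup of `Y` in `Y / O(Y)`. -/
noncomputable def bar (Y T : Subgroup G) : Subgroup (Y ⧸ Cfsg.oddCore Y) :=
  (T.subgroupOf Y).map (QuotientGroup.mk' _)

/-- An element of order a power of two in the coset of a given element with square in `O`. -/
theorem exists_two_part {H : Type*} [Group H] [Finite H] (O : Subgroup H) [O.Normal]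
    (hO : Odd (Nat.card O)) {c : H} (hc : c * c ∈ O) :
    ∃ i : ℕ, (c ^ i) * (c ^ i) = 1 ∧
      QuotientGroup.mk' O (c ^ i) = QuotientGroup.mk' O c := by
  obtain ⟨k, m, hm, hkm⟩ := Nat.exists_eq_two_pow_mul_odd (orderOf_pos c).ne'
  have hf : QuotientGroup.mk' O (c * c) = 1 := (QuotientGroup.eq_one_iff _).2 hc
  refine ⟨m, ?_, ?_⟩
  · have h1 : c ^ m * c ^ m ∈ O := by
      rw [← pow_add, ← two_mul, pow_mul, sq]; exact pow_mem hc m
    refine orderOf_eq_one_iff.1 (Nat.eq_one_of_dvd_coprimes (a := 2 ^ k) (b := Nat.card O) ?_ ?_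
      (O.orderOf_dvd_natCard h1))
    · exact (Nat.coprime_two_left.2 hO).pow_left k
    · refine orderOf_dvd_of_pow_eq_one ?_
      rw [← pow_add, ← pow_mul, ← two_mul, show 2 * m * 2 ^ k = 2 ^ k * m * 2 by ring, ← hkm,
        pow_mul, pow_orderOf_eq_one, one_pow]
  · obtain ⟨j, hj⟩ := hm
    rw [hj, pow_succ, pow_mul, sq, map_mul, map_pow, hf, one_pow, one_mul]

namespace Ctx.Over

variable {c : Ctx G Ω} {z : Ω} {Y T : Subgroup G} (h : Over c z Y T)
include h

theorem le_Y : T ≤ Y := h.le.trans inf_le_left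

theorem le_stab : T ≤ MulAction.stabilizer G z := h.le.trans inf_le_right

theorem invol {t : G} (ht : t ∈ T) (ht1 : t ≠ 1) : t ∈ invMap (G := G) z z :=
  ⟨CfsgLib.ZCGroup.orderOf_eq_two (by rw [← sq]; exact h.elem.2 t ht) ht1, h.le_stab ht⟩

theorem comm {s t : G} (hs : s ∈ T) (ht : t ∈ T) : s * t = t * s :=
  haveI := h.elem.1
  congrArg Subtype.val (mul_comm' (⟨s, hs⟩ : T) ⟨t, ht⟩)

theorem exists_four : ∃ V : Subgroup G, IsFour V ∧ V ≤ T := by
  obtain ⟨s, hs, hs1⟩ : ∃ t ∈ T, t ≠ 1 := by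
    by_contra hc
    push Not at hc
    have h4 := h.four
    rw [(eq_bot_iff_forall _).2 hc, card_bot] at h4
    omega
  obtain ⟨t, ht, ht1, hts⟩ : ∃ t ∈ T, t ≠ 1 ∧ t ≠ s := by
    by_contra hc
    push Not at hc
    have hsub : (T : Set G) ⊆ {1, s} := fun t ht => by
      by_cases h1 : t = 1
      · exact Or.inl h1
      · exact Or.inr (hc t ht h1)
    have h5 := Set.ncard_le_ncard hsub (Set.toFinite _)
    rw [← Nat.card_coe_set_eq] at h5
    have h6 : ({1, s} : Set G).ncard ≤ 2 := (Set.ncard_insert_le _ _).trans (by simp)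
    have h4 := h.four
    have : Nat.card T ≤ 2 := h5.trans h6
    omega
  refine ⟨_, isFour_closure_pair (h.invol hs hs1).1 (h.invol ht ht1).1 hts.symm (h.comm hs ht),
    (closure_le _).2 ?_⟩
  rintro _ (rfl | rfl)
  exacts [hs, ht]

theorem exists_moves : ∃ g ∈ Y, g • z ≠ z := by
  by_contra hc
  push Not at hc
  exact h.moves hc

/-- The odd core of `Y` fixes the orbit. -/
theorem oddCore_smul {o : Y} (ho : o ∈ Cfsg.oddCore Y) {g : G} (hg : g ∈ Y) :
    (o : G) • g • z = g • z := by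
  obtain ⟨V, hV, hVT⟩ := h.exists_four
  set O := (Cfsg.oddCore Y).map Y.subtype with hOdef
  have hOodd : Odd (Nat.card O) := by
    rw [hOdef, card_map_of_injective Y.subtype_injective]
    exact CfsgLib.TwoGroups.odd_card_oddCore
  have hYO : Y ≤ normalizer (O : Set G) := by
    intro y hy
    rw [mem_normalizer_iff]
    intro x
    constructor
    · rintro ⟨x, hx, rfl⟩
      exact ⟨⟨y, hy⟩ * x * ⟨y, hy⟩⁻¹,
        (inferInstance : (Cfsg.oddCore Y).Normal).conj_mem x hx _, rfl⟩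
    · rintro ⟨x', hx', he⟩
      refine ⟨⟨y, hy⟩⁻¹ * x' * ⟨y, hy⟩, ?_, ?_⟩
      · have := (inferInstance : (Cfsg.oddCore Y).Normal).conj_mem x' hx' ⟨y, hy⟩⁻¹
        simpa using this
      · change (x' : G) = y * x * y⁻¹ at he
        show y⁻¹ * (x' : G) * y = x
        rw [he]; group
  have h1 : O ≤ MulAction.stabilizer G z := SEmbed.le_stabilizer_of_normal_odd c.fix hYO hOodd hV
    (hVT.trans h.le_stab) (hVT.trans h.le_Y)
  have h2 : g⁻¹ * (o : G) * g ∈ O := by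
    have h3 := (mem_normalizer_iff.1 (hYO (inv_mem hg)) (o : G)).1 ⟨o, ho, rfl⟩
    simpa using h3
  have h4 : (g⁻¹ * (o : G) * g) • z = z := h1 h2
  rw [mul_smul, mul_smul, inv_smul_eq_iff] at h4
  exact h4

theorem not_isSolvable : ¬ Group.IsSolvable Y := by
  intro hsolv
  haveI : Fact (Nat.Prime 2) := ⟨Nat.prime_two⟩
  have hTp : IsPGroup 2 (T.subgroupOf Y) := fun t => ⟨1, Subtype.ext (Subtype.ext (by
    simpa using h.elem.2 _ (mem_subgroupOf.1 t.2)))⟩
  obtain ⟨P, hP⟩ := hTp.exists_le_sylow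
  have hPab : IsMulCommutative (P : Subgroup Y) :=
    abelian_sylow_subgroup (c.syl z) (c.hyp z).ab Y P
  obtain ⟨V, hV, hVT⟩ := h.exists_four
  obtain ⟨t, htV, hto⟩ := hV.exists_invol
  have htT := hVT htV
  have htP : (⟨t, h.le_Y htT⟩ : Y) ∈ (P : Subgroup Y) := hP (mem_subgroupOf.2 htT)
  have hsup := normalizer_sup_pPrimeCore P hPab
  refine h.moves fun y hy => ?_
  have hy' : (⟨y, hy⟩ : Y) ∈ normalizer ((P : Subgroup Y) : Set Y) ⊔ Cfsg.oddCore Y :=
    hsup.symm ▸ mem_top _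
  obtain ⟨n, hn, o, ho, hno⟩ := mem_sup_of_normal_right.1 hy'
  have hnz : (n : G) • z = z := by
    have hnt : Commute ((n * ⟨t, h.le_Y htT⟩ * n⁻¹ : Y) : G) t :=
      congrArg Subtype.val (congrArg (Subtype.val (p := (· ∈ (P : Subgroup Y))))
        (mul_comm' (⟨_, (mem_normalizer_iff.1 hn _).1 htP⟩ : (P : Subgroup Y)) ⟨_, htP⟩))
    have h1 := commute_fix c.fix hto hnt (h.le_stab htT)
    have h2 : ((n * ⟨t, h.le_Y htT⟩ * n⁻¹ : Y) : G) • ((n : G) • z) = (n : G) • z := by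
      show ((n : G) * t * (n : G)⁻¹) • _ = _
      rw [smul_smul, inv_mul_cancel_right, mul_smul, h.le_stab htT]
    refine c.fix.unique _ ?_ _ _ h2 h1
    show orderOf ((n : G) * t * (n : G)⁻¹) = 2
    rw [CfsgLib.Small.orderOf_conj_eq, hto]
  have hy2 : y = (n : G) * o := congrArg Subtype.val hno.symm
  show y • z = z
  have h5 := h.oddCore_smul ho (one_mem Y)
  rw [one_smul] at h5
  rw [hy2, mul_smul, h5, hnz]

theorem bar_eq_one {t : G} (ht : t ∈ T)
    (h1 : QuotientGroup.mk' (Cfsg.oddCore Y) ⟨t, h.le_Y ht⟩ = 1) : t = 1 := by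
  by_contra hne
  have h2 := (QuotientGroup.eq_one_iff _).1 h1
  have hodd : Odd (Nat.card (Cfsg.oddCore Y)) := CfsgLib.TwoGroups.odd_card_oddCore
  have h3 := (Cfsg.oddCore Y).orderOf_dvd_natCard h2
  rw [← Subgroup.orderOf_coe] at h3
  rw [(h.invol ht hne).1] at h3
  exact Nat.not_even_iff_odd.2 hodd (even_iff_two_dvd.2 h3)

theorem card_bar : Nat.card (bar Y T) = Nat.card T := by
  refine (Nat.card_congr (Equiv.ofBijective
    (fun t : T => (⟨_, mem_map_of_mem _ (mem_subgroupOf.2 t.2 :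
      (⟨t, h.le_Y t.2⟩ : Y) ∈ T.subgroupOf Y)⟩ : bar Y T)) ⟨?_, ?_⟩)).symm
  · intro a b hab
    have h1 : QuotientGroup.mk' (Cfsg.oddCore Y) ⟨a, h.le_Y a.2⟩ =
        QuotientGroup.mk' (Cfsg.oddCore Y) ⟨b, h.le_Y b.2⟩ := congrArg Subtype.val hab
    have h2 : QuotientGroup.mk' (Cfsg.oddCore Y)
        ⟨(a : G)⁻¹ * b, h.le_Y (T.mul_mem (T.inv_mem a.2) b.2)⟩ = 1 := by
      rw [show (⟨(a : G)⁻¹ * b, h.le_Y (T.mul_mem (T.inv_mem a.2) b.2)⟩ : Y) =
        (⟨a, h.le_Y a.2⟩ : Y)⁻¹ * ⟨b, h.le_Y b.2⟩ from Subtype.ext rfl, map_mul, map_inv, h1,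
        inv_mul_cancel]
    exact Subtype.ext (inv_mul_eq_one.1 (h.bar_eq_one (T.mul_mem (T.inv_mem a.2) b.2) h2))
  · rintro ⟨_, t, ht, rfl⟩
    exact ⟨⟨t, mem_subgroupOf.1 ht⟩, rfl⟩

/-- The structure of `Y / O(Y)`. -/
theorem exists_normalizer :
    (∀ y : Y, (y : G) • z = z ↔
        QuotientGroup.mk' (Cfsg.oddCore Y) y ∈ normalizer (bar Y T : Set (Y ⧸ Cfsg.oddCore Y))) ∧
      (normalizer (bar Y T : Set (Y ⧸ Cfsg.oddCore Y))).index = Nat.card T + 1 := by
  haveI : Fact (Nat.Prime 2) := ⟨Nat.prime_two⟩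
  set O := Cfsg.oddCore Y with hO
  have hOodd : Odd (Nat.card O) := CfsgLib.TwoGroups.odd_card_oddCore
  set π := QuotientGroup.mk' O with hπ
  set Tb := bar Y T with hTb
  obtain ⟨F, _, _, hF, L, hLn, ⟨e⟩, hLc⟩ := c.sub Y h.ne_top h.not_isSolvable
  haveI := hLn
  -- all involutions of `Y` map into `L`
  obtain ⟨V, hV, hVT⟩ := h.exists_four
  obtain ⟨t, htV, hto⟩ := hV.exists_invol
  have htT := hVT htV
  obtain ⟨g, hg, hgz⟩ := h.exists_moves
  set K := (L.comap π).map Y.subtype with hK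
  have hKY : K ≤ Y := map_subtype_le _
  have hYK : Y ≤ normalizer (K : Set G) := by
    intro y hy
    rw [mem_normalizer_iff_map_conj_eq]
    refine eq_of_le_of_card_ge ?_ (le_of_eq (card_map_of_injective
      (f := ((MulAut.conj y : G ≃* G) : G →* G)) (MulAut.conj y).injective).symm)
    rintro _ ⟨_, ⟨x, hx, rfl⟩, rfl⟩
    exact ⟨⟨y, hy⟩ * x * ⟨y, hy⟩⁻¹,
      (inferInstance : (L.comap π).Normal).conj_mem x hx _, rfl⟩
  have hKeven : Even (Nat.card K) := by
    rw [hK, card_map_of_injective Y.subtype_injective]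
    by_contra ho
    have h1 : L.comap π ≤ O := CfsgLib.PLocal.le_pPrimeCore
      (Nat.coprime_two_right.2 (Nat.not_even_iff_odd.1 ho))
    have hL : L = ⊥ := by
      rw [← Subgroup.map_comap_eq_self_of_surjective (QuotientGroup.mk'_surjective O) L, ← hπ,
        eq_bot_iff, Subgroup.map_le_iff_le_comap, MonoidHom.comap_bot, hπ, QuotientGroup.ker_mk']
      exact h1
    have htop : (⊤ : Subgroup (Y ⧸ O)) = ⊥ := by
      rw [← hLc, hL]
      exact (top_unique fun x _ => mem_centralizer_iff.2 fun y hy => by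
        rw [mem_bot.1 hy, one_mul, mul_one]).symm
    have h2 : π ⟨t, h.le_Y htT⟩ = 1 := mem_bot.1 (htop ▸ mem_top _)
    exact Small.ne_one_of_orderOf_two hto (h.bar_eq_one htT h2)
  have hinvL : ∀ s : Y, orderOf (s : G) = 2 → π s ∈ L := by
    intro s hs
    obtain ⟨x, hx, hxs⟩ := SEmbed.invol_mem_of_normal c.fix hKY hYK (h.le_Y htT)
      (Y.mul_mem (Y.mul_mem hg (h.le_Y htT)) (Y.inv_mem hg)) hto
      ((CfsgLib.Small.orderOf_conj_eq g t).trans hto) (h.le_stab htT)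
      (show (g * t * g⁻¹) • (g • z) = g • z by
        rw [smul_smul, inv_mul_cancel_right, mul_smul, h.le_stab htT])
      (Ne.symm hgz) hKeven s.2 hs
    rw [← show x = s from Subtype.ext hxs]
    exact hx
  have hTL : Tb ≤ L := by
    rintro _ ⟨⟨s, hsY⟩, hs, rfl⟩
    by_cases hs1 : s = 1
    · subst hs1; exact (map_one π).symm ▸ one_mem L
    · exact hinvL _ (h.invol (mem_subgroupOf.1 hs) hs1).1
  -- the subgroup of `L`
  set TL := Tb.subgroupOf L with hTLdef
  have hcardTL : Nat.card TL = Nat.card T := by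
    rw [hTLdef, Nat.card_congr (subgroupOfEquivOfLe hTL).toEquiv, hTb, h.card_bar]
  have hmemTb : ∀ x ∈ Tb, ∃ s, ∃ hs : s ∈ T, π ⟨s, h.le_Y hs⟩ = x := by
    rintro _ ⟨⟨s, hsY⟩, hs, rfl⟩
    exact ⟨s, mem_subgroupOf.1 hs, rfl⟩
  have hinTb : ∀ (s : G) (hs : s ∈ T), π ⟨s, h.le_Y hs⟩ ∈ Tb := fun s hs =>
    mem_map_of_mem _ (mem_subgroupOf.2 hs)
  have helab : Cfsg.IsElementaryAbelian 2 TL := by
    refine ⟨⟨⟨fun a b => Subtype.ext (Subtype.ext ?_)⟩⟩, fun a ha => Subtype.ext ?_⟩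
    · obtain ⟨s, hs, hse⟩ := hmemTb _ (mem_subgroupOf.1 a.2)
      obtain ⟨r, hr, hre⟩ := hmemTb _ (mem_subgroupOf.1 b.2)
      show ((a : L) : Y ⧸ O) * ((b : L) : Y ⧸ O) = _ * _
      rw [← hse, ← hre, ← map_mul, ← map_mul]
      exact congrArg π (Subtype.ext (h.comm hs hr))
    · obtain ⟨s, hs, hse⟩ := hmemTb _ (mem_subgroupOf.1 ha)
      show ((a : L) : Y ⧸ O) ^ 2 = 1
      rw [← hse, ← map_pow, show (⟨s, h.le_Y hs⟩ : Y) ^ 2 = 1 from Subtype.ext (h.elem.2 s hs),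
        map_one]
  -- lifting centralizers
  have hlift : ∀ (R : Subgroup Y), IsPGroup 2 R → ∀ x : Y ⧸ O, x * x = 1 → x ≠ 1 →
      (∀ r ∈ R, x * π r = π r * x) →
      ∃ s : Y, orderOf (s : G) = 2 ∧ π s = x ∧ ∀ r ∈ R, Commute (s : G) r := by
    intro R hR x hx2 hx1 hxR
    have hx : x ∈ centralizer ((R.map π : Subgroup (Y ⧸ O)) : Set (Y ⧸ O)) :=
      mem_centralizer_iff.2 fun _ ⟨r, hr, he⟩ => he ▸ (hxR r hr).symm
    rw [CfsgLib.PLocal.centralizer_map_mk'_eq O (Nat.coprime_two_right.2 hOodd) hR] at hx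
    obtain ⟨d, hd, rfl⟩ := hx
    obtain ⟨i, hi, hi'⟩ := exists_two_part O hOodd (c := d)
      ((QuotientGroup.eq_one_iff _).1 (show π (d * d) = 1 by rw [map_mul]; exact hx2))
    refine ⟨d ^ i, ?_, hi', fun r hr => ?_⟩
    · rw [Subgroup.orderOf_coe]
      exact CfsgLib.ZCGroup.orderOf_eq_two hi fun e => hx1 (by rw [← hi', e, map_one])
    · have hcr : Commute d r := (mem_centralizer_iff.1 hd r hr).symm
      exact congrArg Subtype.val (hcr.pow_left i).eq
  have hmax : ∀ s : L, orderOf s = 2 → (∀ r ∈ TL, Commute s r) → s ∈ TL := by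
    intro s hs hsT
    have hTp : IsPGroup 2 (T.subgroupOf Y) := fun r => ⟨1, Subtype.ext (Subtype.ext (by
      simpa using h.elem.2 _ (mem_subgroupOf.1 r.2)))⟩
    obtain ⟨s', hs'o, hs'e, hs'c⟩ := hlift _ hTp (s : Y ⧸ O)
      (congrArg Subtype.val (CfsgLib.ZCGroup.mul_self_of_orderOf hs))
      (fun e => CfsgLib.ZCGroup.ne_one_of_orderOf hs (Subtype.ext e))
      (fun r hr => by
        have h1 : π r ∈ Tb := mem_map_of_mem _ hr
        exact congrArg Subtype.val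
          (hsT ⟨π r, hTL h1⟩ (mem_subgroupOf.2 h1)).eq)
    have h2 := h.max _ s'.2 hs'o fun r hr => hs'c ⟨r, h.le_Y hr⟩ (mem_subgroupOf.2 hr)
    exact mem_subgroupOf.2 (hs'e ▸ hinTb _ h2)
  have hsmall : 8 ≤ Nat.card TL ∨
      ∀ v ∈ TL, ∀ s : L, v ≠ 1 → orderOf s = 2 → Commute s v → s ∈ TL := by
    rw [hcardTL]
    refine h.small.imp id fun hsm v hv s hv1 hs hsv => ?_
    obtain ⟨r, hr, hre⟩ := hmemTb _ (mem_subgroupOf.1 hv)
    have hr1 : r ≠ 1 := fun e => hv1 (Subtype.ext (by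
      rw [← hre]; subst e; exact map_one π))
    have hrp : IsPGroup 2 (zpowers (⟨r, h.le_Y hr⟩ : Y)) := IsPGroup.of_card (n := 1) (by
      rw [Nat.card_zpowers, ← Subgroup.orderOf_coe, pow_one]; exact (h.invol hr hr1).1)
    obtain ⟨s', hs'o, hs'e, hs'c⟩ := hlift _ hrp (s : Y ⧸ O)
      (congrArg Subtype.val (CfsgLib.ZCGroup.mul_self_of_orderOf hs))
      (fun e => CfsgLib.ZCGroup.ne_one_of_orderOf hs (Subtype.ext e))
      (fun x hx => by
        obtain ⟨i, rfl⟩ := hx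
        show _ * π (_ ^ i) = π (_ ^ i) * _
        rw [map_zpow, hre]
        have hc2 : Commute (s : Y ⧸ O) (v : Y ⧸ O) := congrArg Subtype.val hsv.eq
        exact (hc2.zpow_right i).eq)
    have hfix := c.centralizer_le_stab (h.invol hr hr1)
      (mem_centralizer_singleton_iff.2 (hs'c _ (mem_zpowers _)).eq)
    exact mem_subgroupOf.2 (hs'e ▸ hinTb _ (hsm _ s'.2 ⟨hs'o, hfix⟩))
  -- the fixed point criterion, first half
  have hback : ∀ y : Y, π y ∈ normalizer (Tb : Set (Y ⧸ O)) → (y : G) • z = z := by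
    intro y hy
    have h1 := (mem_normalizer_iff.1 hy _).1 (hinTb t htT)
    obtain ⟨r, hr, hre⟩ := hmemTb _ h1
    rw [← map_inv, ← map_mul, ← map_mul] at hre
    have h2 : (y * ⟨t, h.le_Y htT⟩ * y⁻¹) * (⟨r, h.le_Y hr⟩ : Y)⁻¹ ∈ O := by
      refine (QuotientGroup.eq_one_iff _).1 ?_
      show π _ = 1
      rw [map_mul π (y * ⟨t, h.le_Y htT⟩ * y⁻¹), map_inv, hre, mul_inv_cancel]
    have h3 := h.oddCore_smul h2 (one_mem Y)
    rw [one_smul] at h3
    have h4 : ((y : G) * t * (y : G)⁻¹ * r⁻¹) • z = z := h3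
    rw [mul_smul, show r⁻¹ • z = z from inv_smul_eq_iff.2 (h.le_stab hr).symm] at h4
    exact c.fix.unique _ ((CfsgLib.Small.orderOf_conj_eq _ _).trans hto) _ _
      (show ((y : G) * t * (y : G)⁻¹) • ((y : G) • z) = (y : G) • z by
        rw [smul_smul, inv_mul_cancel_right, mul_smul, h.le_stab htT]) h4
  have hnn : ∀ P : Sylow 2 L, (P : Subgroup L) = TL → ¬ (P : Subgroup L).Normal := by
    intro P hP hPn
    refine hgz (hback ⟨g, hg⟩ ?_)
    -- the conjugate of `T` is another Sylow subgroup of `L`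
    rw [mem_normalizer_iff_map_conj_eq]
    refine eq_of_le_of_card_ge ?_ (by rw [card_map_of_injective (MulAut.conj _).injective])
    intro x hx
    obtain ⟨r, hr, hrx⟩ := hx
    have hxL : x ∈ L := hrx ▸ hLn.conj_mem r (hTL hr) _
    have hr2 : r * r = 1 := by
      obtain ⟨s, hs, rfl⟩ := hmemTb r hr
      rw [← map_mul, show (⟨s, h.le_Y hs⟩ : Y) * ⟨s, h.le_Y hs⟩ = 1 from
        Subtype.ext (by simpa [sq] using h.elem.2 s hs), map_one]
    by_cases hx1 : x = 1
    · rw [hx1]; exact one_mem _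
    have hxo : IsPGroup 2 (zpowers (⟨x, hxL⟩ : L)) := IsPGroup.of_card (n := 1) (by
      rw [Nat.card_zpowers, pow_one]
      refine CfsgLib.ZCGroup.orderOf_eq_two (Subtype.ext ?_) fun e => hx1 (congrArg Subtype.val e)
      show x * x = 1
      rw [← hrx]
      show MulAut.conj _ r * MulAut.conj _ r = 1
      rw [← map_mul, hr2, map_one])
    haveI := hPn
    have h5 := P.is_maximal' (IsPGroup.to_sup_of_normal_right' hxo P.isPGroup'
      (le_trans le_top (normalizer_eq_top (H := (P : Subgroup L))).ge)) le_sup_right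
    have h6 : (⟨x, hxL⟩ : L) ∈ (P : Subgroup L) := h5.le (mem_sup_left (mem_zpowers _))
    rw [hP] at h6
    exact mem_subgroupOf.1 h6
  obtain ⟨P, hPT, hE⟩ := elemCentralizers_of_psl hF e helab (by rw [hcardTL]; exact h.four) hmax
    hsmall hnn
  -- an element fixing `z` normalizes the image of `T`
  have hC : ∀ v ∈ Tb, v ≠ 1 → ∀ x ∈ L, x * v = v * x → x ∈ Tb := by
    intro v hv hv1 x hx hxv
    have hvP : (⟨v, hTL hv⟩ : L) ∈ (P : Subgroup L) := hPT ▸ (mem_subgroupOf.2 hv)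
    have hvo : orderOf (⟨v, hTL hv⟩ : L) = 2 :=
      CfsgLib.ZCGroup.orderOf_eq_two (by rw [← sq]; exact helab.2 _ (mem_subgroupOf.2 hv))
        fun e => hv1 (congrArg Subtype.val e)
    have h1 := (SEmbed.centralizer_eq hE hvP hvo).le
      (show (⟨x, hx⟩ : L) ∈ centralizer ({⟨v, hTL hv⟩} : Set L) from
        mem_centralizer_singleton_iff.2 (Subtype.ext hxv))
    rw [hPT] at h1
    exact mem_subgroupOf.1 h1
  have hcent : ∀ y : Y, ∀ r ∈ T, r ≠ 1 → Commute (y : G) r →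
      π y ∈ normalizer (Tb : Set (Y ⧸ O)) := by
    intro y r hr hr1 hyr
    rw [mem_normalizer_iff_map_conj_eq]
    refine eq_of_le_of_card_ge ?_ (by rw [card_map_of_injective (MulAut.conj _).injective])
    rintro _ ⟨x, hx, rfl⟩
    refine hC _ (hinTb r hr) (fun e => hr1 (h.bar_eq_one hr e)) _ (hLn.conj_mem x (hTL hx) _) ?_
    have h1 : Commute (π y) (π ⟨r, h.le_Y hr⟩) :=
      (show Commute y (⟨r, h.le_Y hr⟩ : Y) from Subtype.ext hyr.eq).map π
    have h2 : Commute x (π ⟨r, h.le_Y hr⟩) := by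
      obtain ⟨s, hs, rfl⟩ := hmemTb x hx
      exact (show Commute (⟨s, h.le_Y hs⟩ : Y) ⟨r, h.le_Y hr⟩ from
        Subtype.ext (h.comm hs hr)).map π
    exact ((h1.mul_left h2).mul_left h1.inv_left).eq
  have hfwd : ∀ y : Y, (y : G) • z = z → π y ∈ normalizer (Tb : Set (Y ⧸ O)) := by
    -- first `Y ∩ W z`
    have hW : ∀ y : Y, (y : G) ∈ c.W z → π y ∈ normalizer (Tb : Set (Y ⧸ O)) := by
      haveI := h.elem.1
      have hncyc : ¬ IsCyclic T := fun hcyc => by
        obtain ⟨r, hr⟩ := IsCyclic.exists_ofOrder_eq_natCard (α := T)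
        have h2 : orderOf r ∣ 2 := orderOf_dvd_of_pow_eq_one (Subtype.ext (h.elem.2 r r.2))
        rw [hr] at h2
        have := Nat.le_of_dvd two_pos h2
        have := h.four
        omega
      have hle : Y ⊓ c.W z ≤
          ((normalizer (Tb : Set (Y ⧸ O))).comap π).map Y.subtype := by
        refine CfsgLib.Coprime.le_of_forall_inf_centralizer_le hncyc ?_ ?_ fun r hr hr1 => ?_
        · exact fun r hr => inf_normalizer_le_normalizer_inf
            ⟨le_normalizer (h.le_Y hr), c.stab_le_normalizer_W z (h.le_stab hr)⟩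
        · exact CfsgLib.Transitivity.coprime_card_of_elab h.elem
            ((c.odd_W z).of_dvd_nat (card_dvd_of_le inf_le_right)).not_two_dvd_nat
        · rintro x ⟨⟨hxY, -⟩, hxr⟩
          exact ⟨⟨x, hxY⟩, hcent ⟨x, hxY⟩ r hr hr1 (mem_centralizer_singleton_iff.1 hxr), rfl⟩
      intro y hy
      obtain ⟨y', hy', he⟩ := hle ⟨y.2, hy⟩
      rw [← show y' = y from Subtype.ext he]
      exact hy'
    intro y hyz
    rw [mem_normalizer_iff_map_conj_eq]
    refine eq_of_le_of_card_ge ?_ (by rw [card_map_of_injective (MulAut.conj _).injective])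
    rintro _ ⟨x, hx, rfl⟩
    obtain ⟨s, hs, rfl⟩ := hmemTb x hx
    by_cases hs1 : s = 1
    · subst hs1
      rw [show (⟨1, h.le_Y hs⟩ : Y) = 1 from rfl, map_one, map_one]
      exact one_mem _
    obtain ⟨w, hw, hwT⟩ := h.conjT _ (Y.mul_mem (Y.mul_mem y.2 (h.le_Y hs)) (Y.inv_mem y.2))
      (SEmbed.conj_mem_invMap hyz (h.invol hs hs1))
    have hw' := mem_normalizer_iff.1 (hW ⟨w, hw.1⟩ hw.2)
    refine (hw' _).2 ?_
    have h1 := hinTb _ hwT
    show π ⟨w, hw.1⟩ * (π y * π ⟨s, h.le_Y hs⟩ * (π y)⁻¹) * (π ⟨w, hw.1⟩)⁻¹ ∈ Tb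
    rw [← map_inv, ← map_inv, ← map_mul, ← map_mul, ← map_mul, ← map_mul]
    convert h1 using 2; rfl
  refine ⟨fun y => ⟨hfwd y, hback y⟩, ?_⟩
  -- counting
  set N := normalizer (Tb : Set (Y ⧸ O)) with hN
  have hsub : (normalizer ((P : Subgroup L) : Set L)) = N.subgroupOf L := by
    rw [hPT, hTLdef, hN, Subgroup.subgroupOf_normalizer_eq hTL]
  have hpts : N.relIndex L = Nat.card T + 1 := by
    have h1 := SEmbed.card_points hE
    rw [show Nat.card (P : Subgroup L) = Nat.card T by rw [hPT]; exact hcardTL,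
      ← Subgroup.index_eq_card, hsub] at h1
    exact h1
  have hfrat : N ⊔ L = ⊤ := by
    rw [eq_top_iff]
    intro x _
    have hPL : ∀ r ∈ Tb, x * r * x⁻¹ ∈ L := fun r hr => hLn.conj_mem r (hTL hr) x
    let Tx : Subgroup L := (Tb.map (MulAut.conj x).toMonoidHom).subgroupOf L
    have hle : Tb.map (MulAut.conj x).toMonoidHom ≤ L := by
      rintro _ ⟨r, hr, rfl⟩; exact hPL r hr
    have hTx : IsPGroup 2 Tx := by
      refine IsPGroup.of_equiv ?_ (subgroupOfEquivOfLe hle).symm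
      refine IsPGroup.map ?_ _
      exact (P.isPGroup'.map L.subtype).of_equiv (MulEquiv.subgroupCongr (by
        rw [hPT, hTLdef, subgroupOf_map_subtype, inf_eq_left.2 hTL]))
    obtain ⟨Q, hQ⟩ := hTx.exists_le_sylow
    have hQ' : Tx = (Q : Subgroup L) := eq_of_le_of_card_ge hQ (by
      rw [Q.card_eq_multiplicity, ← P.card_eq_multiplicity, hPT, hcardTL,
        Nat.card_congr (subgroupOfEquivOfLe hle).toEquiv,
        card_map_of_injective (MulAut.conj x).injective, hTb, h.card_bar])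
    obtain ⟨l, hl⟩ := MulAction.exists_smul_eq L Q P
    have hlx : (l : Y ⧸ O) * x ∈ N := by
      rw [hN, mem_normalizer_iff_map_conj_eq]
      refine eq_of_le_of_card_ge ?_ (by rw [card_map_of_injective (MulAut.conj _).injective])
      rintro _ ⟨r, hr, rfl⟩
      have h1 : (⟨x * r * x⁻¹, hPL r hr⟩ : L) ∈ (Q : Subgroup L) :=
        hQ' ▸ mem_subgroupOf.2 ⟨r, hr, rfl⟩
      have h2 : l * ⟨x * r * x⁻¹, hPL r hr⟩ * l⁻¹ ∈ (P : Subgroup L) := by
        rw [← hl, Sylow.coe_subgroup_smul]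
        exact ⟨_, h1, rfl⟩
      rw [hPT] at h2
      have h3 : (l : Y ⧸ O) * (x * r * x⁻¹) * (l : Y ⧸ O)⁻¹ ∈ Tb := mem_subgroupOf.1 h2
      show (l : Y ⧸ O) * x * r * ((l : Y ⧸ O) * x)⁻¹ ∈ Tb
      rw [mul_inv_rev]
      simpa [mul_assoc] using h3
    have := mul_mem ((le_sup_right : L ≤ N ⊔ L) (inv_mem l.2))
      ((le_sup_left : N ≤ N ⊔ L) hlx)
    rwa [inv_mul_cancel_left] at this
  have h1 : L.relIndex N = L.index := by
    rw [← Subgroup.relIndex_sup_right, hfrat, relIndex_top_right]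
  have h2 := (L.subgroupOf N).card_mul_index
  have h3 := (N.subgroupOf L).card_mul_index
  change Nat.card (L.subgroupOf N) * L.relIndex N = _ at h2
  change Nat.card (N.subgroupOf L) * N.relIndex L = _ at h3
  have h4 : Nat.card (L.subgroupOf N) = Nat.card (N.subgroupOf L) :=
    Nat.card_congr
      { toFun := fun a => ⟨⟨(a.1 : Y ⧸ O), mem_subgroupOf.1 a.2⟩, mem_subgroupOf.2 a.1.2⟩
        invFun := fun a => ⟨⟨(a.1 : Y ⧸ O), mem_subgroupOf.1 a.2⟩, mem_subgroupOf.2 a.1.2⟩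
        left_inv := fun _ => rfl
        right_inv := fun _ => rfl }
  have h5 := L.card_mul_index
  have h6 := N.card_mul_index
  rw [← h2, ← h5, ← h3, h1, h4, hpts] at h6
  -- `(k * i) * N.index = k * (|T| + 1) * i`
  have hk : 0 < Nat.card (N.subgroupOf L) * L.index :=
    Nat.mul_pos Nat.card_pos (Nat.pos_of_ne_zero L.index_ne_zero_of_finite)
  refine Nat.eq_of_mul_eq_mul_left hk ?_
  rw [h6]; ring

/-- The orbit of `z` under `Y` has `|T| + 1` points. -/
theorem card_orbit : Nat.card (MulAction.orbit Y z) = Nat.card T + 1 := by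
  obtain ⟨hiff, hidx⟩ := h.exists_normalizer
  rw [Nat.card_congr (MulAction.orbitEquivQuotientStabilizer Y z), ← Subgroup.index_eq_card,
    show MulAction.stabilizer Y z = (normalizer (bar Y T : Set (Y ⧸ Cfsg.oddCore Y))).comap
      (QuotientGroup.mk' _) by
      ext y; exact hiff y,
    Subgroup.index_comap_of_surjective _ (QuotientGroup.mk'_surjective _), hidx]

/-- `T` is transitive on the other points of the orbit. -/
theorem exists_smul_eq {g g' : G} (hg : g ∈ Y) (hg' : g' ∈ Y) (hgz : g • z ≠ z)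
    (hg'z : g' • z ≠ z) : ∃ t ∈ T, t • g • z = g' • z := by
  haveI := finite_points c.fix
  have hfix : ∀ t ∈ T, t • g • z = g • z → t = 1 := fun t ht he => by
    by_contra h1
    exact hgz (c.fix.unique t (h.invol ht h1).1 _ _ he (h.invol ht h1).2)
  let f : Option T → MulAction.orbit Y z := fun o =>
    o.elim ⟨z, MulAction.mem_orbit_self z⟩
      fun t => ⟨(t : G) • g • z, ⟨⟨(t : G) * g, mul_mem (h.le_Y t.2) hg⟩, mul_smul _ _ _⟩⟩
  have hf : Function.Injective f := by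
    rintro (_ | s) (_ | t) he
    · rfl
    · exact absurd (smul_left_cancel (t : G) ((congrArg Subtype.val he).symm.trans
        (h.le_stab t.2).symm)) hgz
    · exact absurd (smul_left_cancel (s : G) ((congrArg Subtype.val he).trans
        (h.le_stab s.2).symm)) hgz
    · have he' : (s : G) • g • z = (t : G) • g • z := congrArg Subtype.val he
      refine congrArg some (Subtype.ext (inv_mul_eq_one.1 (hfix _ (T.mul_mem (T.inv_mem s.2) t.2) ?_)))
      rw [mul_smul, ← he', inv_smul_smul]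
  have hcard : Nat.card (Option T) = Nat.card (MulAction.orbit Y z) := by
    rw [h.card_orbit, Finite.card_option]
  obtain ⟨o, ho⟩ := ((Nat.bijective_iff_injective_and_card f).2 ⟨hf, hcard⟩).2
    ⟨g' • z, ⟨⟨g', hg'⟩, rfl⟩⟩
  rcases o with _ | t
  · exact absurd (congrArg Subtype.val ho).symm hg'z
  · exact ⟨t, t.2, congrArg Subtype.val ho⟩

/-- `Y ∩ W z` fixes the orbit pointwise. -/
theorem smul_eq_of_mem_W {x : G} (hxY : x ∈ Y) (hxW : x ∈ c.W z) {g : G} (hg : g ∈ Y) :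
    x • g • z = g • z := by
  obtain ⟨hiff, -⟩ := h.exists_normalizer
  have hxz : x • z = z := c.W_le_stab z hxW
  by_cases hgz : g • z = z
  · rw [hgz, hxz]
  set π := QuotientGroup.mk' (Cfsg.oddCore Y)
  -- `x` centralizes `T` modulo the odd core
  have hcomm : ∀ t (ht : t ∈ T), π ⟨x, hxY⟩ * π ⟨t, h.le_Y ht⟩ * (π ⟨x, hxY⟩)⁻¹ =
      π ⟨t, h.le_Y ht⟩ := by
    intro t ht
    obtain ⟨r, hr, hre⟩ := (mem_normalizer_iff.1 ((hiff ⟨x, hxY⟩).1 hxz) _).1
      (mem_map_of_mem π (mem_subgroupOf.2 ht : (⟨t, h.le_Y ht⟩ : Y) ∈ T.subgroupOf Y))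
    rw [← hre]
    set w : G := x * t * x⁻¹ * t⁻¹ with hw
    have hwW : w ∈ c.W z := by
      rw [hw, show x * t * x⁻¹ * t⁻¹ = x * (t * x⁻¹ * t⁻¹) by group]
      exact mul_mem hxW
        ((mem_normalizer_iff.1 (c.stab_le_normalizer_W z (h.le_stab ht)) _).1 (inv_mem hxW))
    have hwY : w ∈ Y := mul_mem (mul_mem (mul_mem hxY (h.le_Y ht)) (inv_mem hxY))
      (inv_mem (h.le_Y ht))
    have h1 : π ⟨w, hwY⟩ = π r * (π ⟨t, h.le_Y ht⟩)⁻¹ := by
      rw [hre, ← map_inv, ← map_mul, ← map_inv, ← map_mul, ← map_mul]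
      rfl
    have hrT : (r : G) ∈ T := mem_subgroupOf.1 hr
    have h2 : π r * (π ⟨t, h.le_Y ht⟩)⁻¹ =
        π ⟨(r : G) * t⁻¹, h.le_Y (mul_mem hrT (inv_mem ht))⟩ := by
      rw [← map_inv, ← map_mul]; rfl
    have h3 : ((r : G) * t⁻¹) = 1 := by
      refine h.bar_eq_one (mul_mem hrT (inv_mem ht)) ?_
      rw [← h2, ← h1]
      refine orderOf_eq_one_iff.1 (Nat.eq_one_of_dvd_coprimes (a := 2) ?_ ?_
        (orderOf_map_dvd π (⟨w, hwY⟩ : Y)))
      · exact Nat.coprime_two_left.2 ((c.odd_W z).of_dvd_nat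
          (by rw [← Subgroup.orderOf_coe]; exact Subgroup.orderOf_dvd_natCard _ hwW))
      · refine orderOf_dvd_of_pow_eq_one ?_
        rw [h1, h2, ← map_pow,
          show (⟨(r : G) * t⁻¹, h.le_Y (mul_mem hrT (inv_mem ht))⟩ : Y) ^ 2 = 1 from
            Subtype.ext (h.elem.2 _ (mul_mem hrT (inv_mem ht))), map_one]
    exact congrArg π (Subtype.ext (mul_inv_eq_one.1 h3))
  have hxgz : x • g • z ≠ z := fun e => hgz (smul_left_cancel x (e.trans hxz.symm))
  obtain ⟨s, hs, hsx⟩ := h.exists_smul_eq hg (mul_mem hxY hg) hgz (by rwa [mul_smul])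
  rw [mul_smul] at hsx
  have hmove : ∀ t (ht : t ∈ T), x • t • g • z = t • x • g • z := by
    intro t ht
    have h1 : (⟨x, hxY⟩ : Y) * ⟨t, h.le_Y ht⟩ *
        ((⟨t, h.le_Y ht⟩ : Y) * ⟨x, hxY⟩)⁻¹ ∈ Cfsg.oddCore Y := by
      refine (QuotientGroup.eq_one_iff _).1 ?_
      show π _ = 1
      have h0 := hcomm t ht
      rw [mul_inv_eq_iff_eq_mul] at h0
      rw [map_mul π, map_inv, map_mul, map_mul, h0, mul_inv_cancel]
    have h2 := h.oddCore_smul h1 (mul_mem (mul_mem (h.le_Y ht) hxY) hg)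
    change (x * t * (t * x)⁻¹) • ((t * x * g) • z) = (t * x * g) • z at h2
    rw [smul_smul, show x * t * (t * x)⁻¹ * (t * x * g) = x * t * g by group, mul_smul, mul_smul,
      mul_smul, mul_smul] at h2
    exact h2
  have hpow : ∀ k : ℕ, x ^ k • g • z = s ^ k • g • z := by
    intro k
    induction k with
    | zero => simp
    | succ k ih =>
      rw [pow_succ', mul_smul, ih, hmove _ (pow_mem hs k), ← hsx, ← mul_smul, ← pow_succ]
  have h1 := hpow (orderOf x)
  rw [pow_orderOf_eq_one, one_smul] at h1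
  obtain ⟨j, hj⟩ := ((c.odd_W z).of_dvd_nat (Subgroup.orderOf_dvd_natCard _ hxW) :
    Odd (orderOf x))
  rw [hj, pow_succ, pow_mul, h.elem.2 s hs, one_pow, one_mul] at h1
  rw [← hsx, ← h1]

end Ctx.Over

end CfsgLib.AbelSolvCent

namespace CfsgLib.AbelSolvCent

open Subgroup CfsgLib.SEmbed

universe u v

namespace Ctx

variable {G : Type u} [Group G] [Finite G] {Ω : Type v} [MulAction G Ω] (c : Ctx G Ω)
  {z : Ω} {g : G} {Y : Subgroup G}

theorem eight_le_card_A (z : Ω) : 8 ≤ Nat.card (c.A z) := (c.hyp z).rank3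

theorem over_A (hY : Y ≠ ⊤) (hA : c.A z ≤ Y) (hm : ¬ Y ≤ MulAction.stabilizer G z) :
    Over c z Y (c.A z) where
  ne_top := hY
  moves := hm
  le := le_inf hA (c.A_le_stab z)
  elem := (c.hyp z).elab
  four := le_trans (by norm_num) (c.eight_le_card_A z)
  max := fun s _ hs hcomm => by
    haveI : Nontrivial (c.A z) := by
      rw [← Finite.one_lt_card_iff_nontrivial]
      have := c.eight_le_card_A z
      omega
    obtain ⟨⟨a, ha⟩, ha1⟩ := exists_ne (1 : c.A z)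
    have hsz : s • z = z := c.centralizer_le_stab (c.A_mem ha fun e => ha1 (Subtype.ext e))
      (mem_centralizer_singleton_iff.2 (hcomm a ha).eq)
    obtain ⟨w, hw, hwA⟩ := c.exists_conj_A ⟨hs, hsz⟩
    set b := w * s * w⁻¹ with hb
    have hbs : b * s ∈ c.W z := by
      rw [show b * s = w * (s * w⁻¹ * s⁻¹) * (s * s) by rw [hb]; group,
        CfsgLib.Small.mul_self_of_orderOf_two hs, mul_one]
      exact mul_mem hw
        ((mem_normalizer_iff.1 (c.stab_le_normalizer_W z hsz) _).1 (inv_mem hw))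
    have h2 : (b * s) * (b * s) = 1 := by
      rw [mul_assoc, ← mul_assoc s, (hcomm b hwA).eq, ← mul_assoc, ← mul_assoc, ← sq b,
        (c.hyp z).elab.2 b hwA, one_mul, CfsgLib.Small.mul_self_of_orderOf_two hs]
    have h1 : b * s = 1 := orderOf_eq_one_iff.1 (Nat.eq_one_of_dvd_coprimes (a := 2)
      (Nat.coprime_two_left.2 (c.odd_W z)) (orderOf_dvd_of_pow_eq_one (by rw [sq, h2]))
      (Subgroup.orderOf_dvd_natCard _ hbs))
    rw [show s = b by rw [eq_inv_of_mul_eq_one_right h1, inv_eq_iff_mul_eq_one, ← sq,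
      (c.hyp z).elab.2 b hwA]]
    exact hwA
  conjT := fun s hsY hs => by
    obtain ⟨w, hw, hwA⟩ := c.exists_conj_A hs
    set b := w * s * w⁻¹ with hb
    have hb1 : b ≠ 1 := fun e =>
      CfsgLib.Small.ne_one_of_orderOf_two hs.1 (conj_eq_one_iff.1 e)
    have hsb : s * b ∈ c.W z := by
      rw [show s * b = (s * w * s⁻¹) * ((s * s) * w⁻¹) by rw [hb]; group,
        CfsgLib.Small.mul_self_of_orderOf_two hs.1, one_mul]
      exact mul_mem ((mem_normalizer_iff.1 (c.stab_le_normalizer_W z hs.2) _).1 hw) (inv_mem hw)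
    obtain ⟨k, hk⟩ := CfsgLib.Small.conj_pow_eq_of_odd hs.1 ((c.hyp z).orderOf_mem hwA hb1)
      ((c.odd_W z).of_dvd_nat (Subgroup.orderOf_dvd_natCard _ hsb))
    exact ⟨(s * b) ^ k, pow_mem (mem_inf.2 ⟨mul_mem hsY (hA hwA), hsb⟩) k, by rw [hk]; exact hwA⟩
  small := Or.inl (c.eight_le_card_A z)

theorem Central.over {c : Ctx G Ω} (hc : c.Central) (hY : Y ≠ ⊤)
    (hm : ¬ Y ≤ MulAction.stabilizer G z) (h4 : 4 ≤ Nat.card ↥(c.A z ⊓ Y)) :
    Over c z Y (c.A z ⊓ Y) where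
  ne_top := hY
  moves := hm
  le := le_inf inf_le_right (inf_le_left.trans (c.A_le_stab z))
  elem := ⟨⟨⟨fun a b => Subtype.ext (c.A_comm a.2.1 b.2.1).eq⟩⟩,
    fun a ha => (c.hyp z).elab.2 a ha.1⟩
  four := h4
  max := fun s hsY hs hcomm => by
    haveI : Nontrivial ↥(c.A z ⊓ Y) := by
      rw [← Finite.one_lt_card_iff_nontrivial]; omega
    obtain ⟨⟨a, ha⟩, ha1⟩ := exists_ne (1 : ↥(c.A z ⊓ Y))
    exact ⟨hc.mem_A ⟨hs, c.centralizer_le_stab (c.A_mem ha.1 fun e => ha1 (Subtype.ext e))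
      (mem_centralizer_singleton_iff.2 (hcomm a ha).eq)⟩, hsY⟩
  conjT := fun s hsY hs => ⟨1, one_mem _, by
    rw [one_mul, inv_one, mul_one]; exact ⟨hc.mem_A hs, hsY⟩⟩
  small := Or.inr fun s hsY hs => ⟨hc.mem_A hs, hsY⟩

/-- The orbit of a subgroup moving `z` in the central case. -/
theorem Central.card_orbit {c : Ctx G Ω} (hc : c.Central) (hY : Y ≠ ⊤)
    (hm : ¬ Y ≤ MulAction.stabilizer G z) (h4 : 4 ≤ Nat.card ↥(c.A z ⊓ Y)) :
    Nat.card (MulAction.orbit Y z) = Nat.card ↥(c.A z ⊓ Y) + 1 :=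
  (hc.over hY hm h4).card_orbit

theorem Central.exists_smul_eq {c : Ctx G Ω} (hc : c.Central) (hY : Y ≠ ⊤)
    (hm : ¬ Y ≤ MulAction.stabilizer G z) (h4 : 4 ≤ Nat.card ↥(c.A z ⊓ Y)) {g g' : G}
    (hg : g ∈ Y) (hg' : g' ∈ Y) (hgz : g • z ≠ z) (hg'z : g' • z ≠ z) :
    ∃ t ∈ c.A z ⊓ Y, t • g • z = g' • z :=
  (hc.over hY hm h4).exists_smul_eq hg hg' hgz hg'z

/-- `W z ∩ Y` fixes the orbit of `z`. -/
theorem inf_W_le_stab (hY : Y ≠ ⊤) (hA : c.A z ≤ Y) (hg : g ∈ Y) :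
    c.W z ⊓ Y ≤ MulAction.stabilizer G (g • z) := by
  intro x hx
  by_cases hm : Y ≤ MulAction.stabilizer G z
  · show x • g • z = g • z
    rw [show g • z = z from hm hg, show x • z = z from c.W_le_stab z hx.1]
  · exact (c.over_A hY hA hm).smul_eq_of_mem_W hx.2 hx.1 hg

theorem inf_W_smul_le_stab (hY : Y ≠ ⊤) (hA : c.A z ≤ Y) (hg : g ∈ Y) :
    c.W (g • z) ⊓ Y ≤ MulAction.stabilizer G z := by
  intro x hx
  have h1 : g⁻¹ * x * g ∈ c.W z ⊓ Y :=
    ⟨c.mem_W_smul.1 hx.1, Y.mul_mem (Y.mul_mem (Y.inv_mem hg) hx.2) hg⟩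
  have h2 : (g⁻¹ * x * g) • g⁻¹ • z = g⁻¹ • z := c.inf_W_le_stab hY hA (inv_mem hg) h1
  rw [smul_smul, mul_inv_cancel_right, mul_smul] at h2
  exact smul_left_cancel g⁻¹ h2

theorem Central.inf_W_le {c : Ctx G Ω} (hc : c.Central) (hY : Y ≠ ⊤) (hA : c.A z ≤ Y)
    (hg : g ∈ Y) : c.W z ⊓ Y ≤ c.W (g • z) := by
  intro x hx
  by_cases hgz : g • z = z
  · rw [hgz]; exact hx.1
  have horb : ∀ y ∈ Y, x • y • z = y • z := fun y hy => c.inf_W_le_stab hY hA hy hx
  have hcomm : ∀ t ∈ c.A (g • z), Commute x t := by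
    intro t ht
    by_cases ht1 : t = 1
    · rw [ht1]; exact Commute.one_right x
    have htI := c.A_mem ht ht1
    have ht' : g⁻¹ * t * g ∈ c.A z := hc.mem_A ⟨by
      rw [show g⁻¹ * t * g = g⁻¹ * t * g⁻¹⁻¹ by rw [inv_inv], CfsgLib.Small.orderOf_conj_eq]
      exact htI.1, by rw [mul_smul, mul_smul, htI.2, inv_smul_smul]⟩
    have htY : t ∈ Y := by
      have := mul_mem (mul_mem hg (hA ht')) (inv_mem hg)
      rwa [show g * (g⁻¹ * t * g) * g⁻¹ = t by group] at this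
    have hu : x * t * x⁻¹ * t⁻¹ ∈ c.A (g • z) := mul_mem (hc.mem_A
      (SEmbed.conj_mem_invMap (show x ∈ MulAction.stabilizer G (g • z) from horb g hg) htI))
      (inv_mem ht)
    have hfix : ∀ y ∈ Y, (x * t * x⁻¹ * t⁻¹) • y • z = y • z := by
      intro y hy
      have h1 : t⁻¹ • y • z = (t⁻¹ * y) • z := (mul_smul _ _ _).symm
      have h2 : x⁻¹ • (t⁻¹ * y) • z = (t⁻¹ * y) • z :=
        inv_smul_eq_iff.2 (horb _ (mul_mem (inv_mem htY) hy)).symm
      rw [mul_smul, mul_smul (x * t), mul_smul x, h1, h2, smul_smul t, mul_inv_cancel_left,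
        horb y hy]
    by_contra hne
    have hu1 : x * t * x⁻¹ * t⁻¹ ≠ 1 := fun e =>
      hne (mul_inv_eq_iff_eq_mul.1 (mul_inv_eq_one.1 e))
    have h1 := hfix 1 (one_mem Y)
    rw [one_smul] at h1
    exact hgz (c.fix.unique _ (c.A_mem hu hu1).1 _ _ (hfix g hg) h1)
  refine c.le_W (X := zpowers x) ?_ (fun t ht => ?_) (mem_zpowers x)
  · rw [Nat.card_zpowers]
    exact (c.odd_W z).of_dvd_nat (Subgroup.orderOf_dvd_natCard _ hx.1)
  · refine centralizer_le_normalizer _ (mem_centralizer_iff.2 ?_)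
    rintro _ ⟨i, rfl⟩
    exact ((hcomm t ht).zpow_left i).eq

include c in
/-- A four group at `z` normalizing `⟨e⟩` with an element inverting it. -/
theorem normalizer_zpowers_le {V : Subgroup G} (hV : IsFour V)
    (hVz : V ≤ MulAction.stabilizer G z) {e : G} (he : e ≠ 1) (ho : Odd (orderOf e))
    (hVN : V ≤ normalizer (zpowers e : Set G)) {a : G} (ha : a ∈ V)
    (hinv : a * e * a⁻¹ = e⁻¹) :
    normalizer (zpowers e : Set G) ≤ MulAction.stabilizer G z := by
  intro g hg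
  by_contra hgz
  set Y := normalizer (zpowers e : Set G) with hYdef
  set C := Y ⊓ centralizer ({e} : Set G) with hCdef
  have he2 : e * e ≠ 1 := fun h2 => he (orderOf_eq_one_iff.1 (Nat.eq_one_of_dvd_coprimes
    (a := 2) (Nat.coprime_two_left.2 ho) (orderOf_dvd_of_pow_eq_one (by rw [sq, h2])) dvd_rfl))
  have hexp : ∀ y ∈ Y, ∃ i : ℤ, y * e * y⁻¹ = e ^ i := fun y hy => by
    obtain ⟨i, hi⟩ := (mem_normalizer_iff.1 hy e).1 (mem_zpowers e)
    exact ⟨i, hi.symm⟩
  have hYC : Y ≤ normalizer (C : Set G) := by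
    intro y hy
    rw [mem_normalizer_iff_map_conj_eq]
    refine eq_of_le_of_card_ge ?_ (le_of_eq (card_map_of_injective
      (f := ((MulAut.conj y : G ≃* G) : G →* G)) (MulAut.conj y).injective).symm)
    rintro _ ⟨x, ⟨hxY, hxe⟩, rfl⟩
    refine ⟨Y.mul_mem (Y.mul_mem hy hxY) (Y.inv_mem hy), mem_centralizer_singleton_iff.2 ?_⟩
    obtain ⟨i, hi⟩ := hexp y⁻¹ (inv_mem hy)
    have hi' : e = y * e ^ i * y⁻¹ := by rw [← hi]; group
    have hx' : Commute x (e ^ i) :=
      (show Commute x e from mem_centralizer_singleton_iff.1 hxe).zpow_right i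
    show y * x * y⁻¹ * e = e * (y * x * y⁻¹)
    calc y * x * y⁻¹ * e = y * x * y⁻¹ * (y * e ^ i * y⁻¹) := by rw [← hi']
      _ = y * (x * e ^ i) * y⁻¹ := by group
      _ = y * (e ^ i * x) * y⁻¹ := by rw [hx'.eq]
      _ = y * e ^ i * y⁻¹ * (y * x * y⁻¹) := by group
      _ = _ := by rw [← hi']
  obtain ⟨t, htV, hto⟩ := hV.exists_invol
  have htY : t ∈ Y := hVN htV
  have htz : t • z = z := hVz htV
  set t' := g * t * g⁻¹ with ht'
  have ht'Y : t' ∈ Y := mul_mem (mul_mem hg htY) (inv_mem hg)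
  have ht'o : orderOf t' = 2 := (CfsgLib.Small.orderOf_conj_eq g t).trans hto
  have ht'z : t' • (g • z) = g • z := by rw [smul_smul, inv_mul_cancel_right, mul_smul, htz]
  have hgz' : z ≠ g • z := fun h => hgz h.symm
  rcases Nat.even_or_odd (Nat.card C) with hev | hod
  · have hmem := SEmbed.invol_mem_of_normal c.fix inf_le_left hYC htY ht'Y hto ht'o htz ht'z hgz'
      hev (hVN ha) (hV.orderOf_eq_two ha (fun h => he2 (by
        rw [h, one_mul, inv_one, mul_one] at hinv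
        exact mul_eq_one_iff_eq_inv.2 hinv)))
    refine he2 (mul_eq_one_iff_eq_inv.2 ?_)
    rw [← hinv, mul_inv_eq_iff_eq_mul.2 (mem_centralizer_singleton_iff.1 hmem.2)]
  · have hCz : C ≤ MulAction.stabilizer G z :=
      SEmbed.le_stabilizer_of_normal_odd c.fix hYC hod hV hVz hVN
    have hodd := SEmbed.odd_mul c.fix hto ht'o htz ht'z hgz'
    have hsq : (t * t') ^ 2 ∈ C := by
      refine ⟨pow_mem (mul_mem htY ht'Y) 2, mem_centralizer_singleton_iff.2 ?_⟩
      obtain ⟨i, hi⟩ := hexp t htY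
      obtain ⟨j, hj⟩ := hexp t' ht'Y
      have hti : ∀ k : ℤ, t * e ^ k * t⁻¹ = e ^ (i * k) := fun k => by
        rw [← conj_zpow, hi, ← zpow_mul]
      have htj : ∀ k : ℤ, t' * e ^ k * t'⁻¹ = e ^ (j * k) := fun k => by
        rw [← conj_zpow, hj, ← zpow_mul]
      have h2i : e ^ (i * i) = e := by
        rw [← hti, ← hi]
        calc t * (t * e * t⁻¹) * t⁻¹ = (t * t) * e * (t * t)⁻¹ := by group
          _ = e := by rw [CfsgLib.Small.mul_self_of_orderOf_two hto]; group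
      have h2j : e ^ (j * j) = e := by
        rw [← htj, ← hj]
        calc t' * (t' * e * t'⁻¹) * t'⁻¹ = (t' * t') * e * (t' * t')⁻¹ := by group
          _ = e := by rw [CfsgLib.Small.mul_self_of_orderOf_two ht'o]; group
      refine mul_inv_eq_iff_eq_mul.1 ?_
      calc (t * t') ^ 2 * e * ((t * t') ^ 2)⁻¹
          = t * (t' * (t * (t' * e * t'⁻¹) * t⁻¹) * t'⁻¹) * t⁻¹ := by rw [sq]; group
        _ = e ^ (i * (j * (i * j))) := by rw [hj, hti, htj, hti]
        _ = (e ^ (i * i)) ^ (j * j) := by rw [← zpow_mul]; ring_nf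
        _ = e := by rw [h2i, h2j]
    obtain ⟨k, hk⟩ := hodd
    have htt : t * t' ∈ C := by
      have h1 : ((t * t') ^ 2) ^ (k + 1) = t * t' := by
        rw [← pow_mul, show 2 * (k + 1) = orderOf (t * t') + 1 by omega, pow_succ,
          pow_orderOf_eq_one, one_mul]
      rw [← h1]
      exact pow_mem hsq _
    have h1 : (t * t') • z = z := hCz htt
    rw [mul_smul] at h1
    have h2 : t' • z = z := smul_left_cancel t (h1.trans htz.symm)
    exact hgz' (c.fix.unique t' ht'o _ _ h2 ht'z)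

end Ctx

end CfsgLib.AbelSolvCent
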