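import Cfsg.Agent.AbelSolvCent.Core
import Cfsg.Agent.ZCGroup.Embedded
import Cfsg.Agent.SolvSig.Theorem
import Cfsg.Agent.MinNonCA.Basic

/-!
# The subgroup `M = W N(S)`

`G` has an abelian Sylow 2-subgroup `S` of rank at least three and solvable involution
centralizers.  The cores `O(C(a))`, `a ∈ A = Ω₁(S)`, form a solvable signalizer functor; `W` is
its closure and `M = W N(S)`.  `M` is solvable, contains the centralizers of its involutions and
is strongly embedded if proper.
-/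

set_option autoImplicit false
set_option linter.style.haveILetI false
set_option linter.unusedSectionVars false

namespace CfsgLib.AbelSolvCent

open Subgroup CfsgLib.ZCGroup

variable {G : Type*} [Group G] [Finite G]

/-- The hypotheses. -/
structure Hyp (S : Sylow 2 G) : Prop where
  ab : IsMulCommutative (S : Subgroup G)
  solv : SolvableCentralizers G
  rank3 : 2 ^ 3 ≤ Nat.card (Cfsg.omegaOne 2 (S : Subgroup G))

/-- `Ω₁(S)`. -/
abbrev omegaS (S : Sylow 2 G) : Subgroup G := Cfsg.omegaOne 2 (S : Subgroup G)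

/-- The closure of the cores. -/
abbrev oddPart (S : Sylow 2 G) : Subgroup G := cl (omegaS S)

/-- `W N(S)`. -/
abbrev mid (S : Sylow 2 G) : Subgroup G := oddPart S ⊔ normalizer ((S : Subgroup G) : Set G)

variable {S : Sylow 2 G}

theorem omegaS_le (S : Sylow 2 G) : omegaS S ≤ (S : Subgroup G) :=
  CfsgLib.PLocal.omegaOne_le _ _

theorem Hyp.comm (h : Hyp S) {x y : G} (hx : x ∈ (S : Subgroup G)) (hy : y ∈ (S : Subgroup G)) :
    x * y = y * x :=
  haveI := h.ab
  congrArg Subtype.val (mul_comm' (⟨x, hx⟩ : (S : Subgroup G)) ⟨y, hy⟩)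

theorem Hyp.elab (h : Hyp S) : Cfsg.IsElementaryAbelian 2 (omegaS S) :=
  CfsgLib.PLocal.isElementaryAbelian_omegaOne h.ab

theorem Hyp.mem_omegaS (h : Hyp S) {x : G} :
    x ∈ omegaS S ↔ x ∈ (S : Subgroup G) ∧ x * x = 1 :=
  ⟨fun hx => ⟨omegaS_le S hx, by rw [← sq]; exact h.elab.2 x hx⟩,
    fun ⟨hx, h2⟩ => CfsgLib.PLocal.mem_omegaOne hx (by rw [sq, h2])⟩

theorem Hyp.orderOf_mem (h : Hyp S) {a : G} (ha : a ∈ omegaS S) (ha1 : a ≠ 1) : orderOf a = 2 :=
  orderOf_eq_two (h.mem_omegaS.1 ha).2 ha1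

theorem Hyp.sylow_le_centralizer (h : Hyp S) {a : G} (ha : a ∈ omegaS S) :
    (S : Subgroup G) ≤ centralizer ({a} : Set G) := fun _ hs =>
  mem_centralizer_singleton_iff.2 (h.comm hs (omegaS_le S ha))

theorem Hyp.omegaS_conj (h : Hyp S) {g x : G} (hg : g ∈ normalizer ((S : Subgroup G) : Set G))
    (hx : x ∈ omegaS S) : g * x * g⁻¹ ∈ omegaS S := by
  obtain ⟨hxS, hx2⟩ := h.mem_omegaS.1 hx
  refine h.mem_omegaS.2 ⟨(mem_normalizer_iff.1 hg x).1 hxS, ?_⟩
  rw [show g * x * g⁻¹ * (g * x * g⁻¹) = g * (x * x) * g⁻¹ by group, hx2]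
  group

theorem Hyp.map_omegaS (h : Hyp S) {g : G} (hg : g ∈ normalizer ((S : Subgroup G) : Set G)) :
    (omegaS S).map (MulAut.conj g).toMonoidHom = omegaS S := by
  refine eq_of_le_of_card_ge ?_ (by rw [card_map_of_injective (MulAut.conj g).injective])
  rintro _ ⟨x, hx, rfl⟩
  exact h.omegaS_conj hg hx

theorem Hyp.isSignalizer (h : Hyp S) :
    Cfsg.IsSolvableSignalizerFunctor 2 (omegaS S) (Cfsg.centralizerPPrimeCore 2) := by
  have hcomm : ∀ a ∈ omegaS S, ∀ b ∈ omegaS S, a * b = b * a := fun a ha b hb =>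
    h.comm (omegaS_le S ha) (omegaS_le S hb)
  refine ⟨⟨fun a _ _ => core_le_centralizer a, fun a _ _ => (core_odd a).not_two_dvd_nat,
    fun a ha _ b hb x hx => ?_, fun a ha ha1 b hb hb1 => ?_⟩, fun a ha ha1 => ?_⟩
  · exact (mem_normalizer_iff.1 (centralizer_le_normalizer_core a
      (mem_centralizer_singleton_iff.2 (hcomm b hb a ha))) x).1 hx
  · exact core_inf_le h.solv (h.orderOf_mem ha ha1) (h.orderOf_mem hb hb1) (hcomm a ha b hb)
  · haveI := h.solv a (h.orderOf_mem ha ha1)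
    exact Group.isSolvable_of_isSolvable_injective
      (inclusion_injective (core_le_centralizer a))

theorem Hyp.oddPart_solvable (h : Hyp S) : Group.IsSolvable (oddPart S) := by
  haveI : Fact (Nat.Prime 2) := ⟨Nat.prime_two⟩
  exact (CfsgLib.SolvSig.isSolvable_signalizerClosure h.elab h.rank3 h.isSignalizer).1

theorem Hyp.odd_oddPart (h : Hyp S) : Odd (Nat.card (oddPart S)) := by
  haveI : Fact (Nat.Prime 2) := ⟨Nat.prime_two⟩
  exact Nat.not_even_iff_odd.1 fun he =>
    (CfsgLib.SolvSig.isSolvable_signalizerClosure h.elab h.rank3 h.isSignalizer).2 he.two_dvd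

theorem Hyp.inf_centralizer (h : Hyp S) {a : G} (ha : a ∈ omegaS S) (ha1 : a ≠ 1) :
    oddPart S ⊓ centralizer ({a} : Set G) = core a := by
  haveI : Fact (Nat.Prime 2) := ⟨Nat.prime_two⟩
  exact CfsgLib.SolvSig.closure_inf_centralizer_eq h.elab h.rank3 h.isSignalizer ha ha1

theorem Hyp.normalizer_le (h : Hyp S) :
    normalizer ((S : Subgroup G) : Set G) ≤ normalizer (oddPart S : Set G) := fun g hg => by
  rw [mem_normalizer_iff_map_conj_eq]
  exact (closure_conj (omegaS S) g).symm.trans (congrArg cl (h.map_omegaS hg))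

theorem Hyp.sylow_le_normalizer (h : Hyp S) :
    (S : Subgroup G) ≤ normalizer (oddPart S : Set G) := le_normalizer.trans h.normalizer_le

theorem Hyp.mid_le_normalizer (h : Hyp S) : mid S ≤ normalizer (oddPart S : Set G) :=
  sup_le le_normalizer h.normalizer_le

theorem sylow_le_mid (S : Sylow 2 G) : (S : Subgroup G) ≤ mid S := le_normalizer.trans le_sup_right

theorem omegaS_le_mid (S : Sylow 2 G) : omegaS S ≤ mid S := (omegaS_le S).trans (sylow_le_mid S)

theorem Hyp.not_isCyclic (h : Hyp S) : ¬ IsCyclic (omegaS S) := by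
  haveI : Fact (Nat.Prime 2) := ⟨Nat.prime_two⟩
  exact CfsgLib.Transitivity.not_isCyclic_of_elab h.elab (le_trans (by norm_num) h.rank3)

/-- An odd subgroup normalized by `A` lies in `W`. -/
theorem Hyp.le_oddPart (h : Hyp S) {X : Subgroup G} (hX : Odd (Nat.card X))
    (hAX : omegaS S ≤ normalizer (X : Set G)) : X ≤ oddPart S := by
  haveI : Fact (Nat.Prime 2) := ⟨Nat.prime_two⟩
  haveI := h.elab.1
  refine CfsgLib.Coprime.le_of_forall_inf_centralizer_le h.not_isCyclic hAX ?_ fun a ha ha1 => ?_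
  · exact CfsgLib.Transitivity.coprime_card_of_elab h.elab hX.not_two_dvd_nat
  · have h1 : X ⊓ centralizer ({a} : Set G) ≤ core a := by
      refine le_pPrimeCore_map (h.solv a (h.orderOf_mem ha ha1)) (S : Subgroup G)
        (h.sylow_le_centralizer ha) h.ab (fun P hP hSP _ => S.is_maximal' hP hSP) S.isPGroup'
        inf_le_right (Odd.of_dvd_nat hX (card_dvd_of_le inf_le_left)) fun s hs hs2 => ?_
      have hsA := h.mem_omegaS.2 ⟨hs, hs2⟩
      exact inf_normalizer_le_normalizer_inf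
        ⟨hAX hsA, le_normalizer (h.sylow_le_centralizer ha hs)⟩
    exact h1.trans (h.inf_centralizer ha ha1 ▸ inf_le_left)

theorem Hyp.centralizer_le_mid (h : Hyp S) {a : G} (ha : a ∈ omegaS S) (ha1 : a ≠ 1) :
    centralizer ({a} : Set G) ≤ mid S := by
  haveI : Fact (Nat.Prime 2) := ⟨Nat.prime_two⟩
  set C := centralizer ({a} : Set G) with hC
  haveI := h.solv a (h.orderOf_mem ha ha1)
  have hSC : (S : Subgroup G) ≤ C := h.sylow_le_centralizer ha
  have hab : IsMulCommutative (S.subtype hSC : Subgroup C) :=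
    ⟨⟨fun x y => Subtype.ext (Subtype.ext (h.comm x.2 y.2))⟩⟩
  have ht := congrArg (Subgroup.map C.subtype) (normalizer_sup_pPrimeCore (S.subtype hSC) hab)
  rw [Subgroup.map_sup, ← MonoidHom.range_eq_map, Subgroup.range_subtype] at ht
  refine ht ▸ sup_le ?_ ((h.inf_centralizer ha ha1 ▸ inf_le_left : core a ≤ _).trans le_sup_left)
  rintro _ ⟨c, hc, rfl⟩
  refine mem_sup_right (mem_normalizer_iff.2 fun x => ⟨fun hx => ?_, fun hx => ?_⟩)
  · exact (mem_normalizer_iff.1 hc ⟨x, hSC hx⟩).1 hx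
  · have hxC : x ∈ C := by
      have := C.mul_mem (C.mul_mem (C.inv_mem c.2) (hSC hx)) c.2
      simpa [mul_assoc] using this
    exact (mem_normalizer_iff.1 hc ⟨x, hxC⟩).2 hx

theorem Hyp.isSolvable_mid (h : Hyp S) : Group.IsSolvable (mid S) := by
  haveI : Fact (Nat.Prime 2) := ⟨Nat.prime_two⟩
  haveI := h.oddPart_solvable
  suffices Group.IsSolvable (normalizer ((S : Subgroup G) : Set G)) by
    rw [mid, sup_comm]
    exact CfsgLib.MinNonCA.isSolvable_sup h.normalizer_le
  set N := normalizer ((S : Subgroup G) : Set G) with hN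
  haveI : ((S : Subgroup G).subgroupOf N).Normal := normal_in_normalizer
  haveI : Group.IsSolvable ((S : Subgroup G).subgroupOf N) :=
    Group.isSolvable_of_comm fun x y => Subtype.ext (Subtype.ext (h.comm x.2 y.2))
  haveI : Group.IsSolvable (N ⧸ (S : Subgroup G).subgroupOf N) := by
    have hodd : Odd (Nat.card (N ⧸ (S : Subgroup G).subgroupOf N)) := by
      rw [← Nat.not_even_iff_odd, even_iff_two_dvd]
      exact fun hd => (S.subtype le_normalizer).not_dvd_index (by
        rwa [Subgroup.index_eq_card, Sylow.coe_subtype])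
    exact @Group.isSolvable_of_surjective _ _ _ _
      (Subgroup.topEquiv.toMonoidHom) (MulEquiv.surjective _)
      (CfsgLib.MinNonCA.isSolvable_of_odd ⊤ (by rwa [Subgroup.card_top]))
  exact (Group.isSolvable_iff_subgroup_quotient ((S : Subgroup G).subgroupOf N)).2 ⟨‹_›, ‹_›⟩

theorem Hyp.sylow_ne_bot (h : Hyp S) : (S : Subgroup G) ≠ ⊥ := fun e => by
  have h3 := h.rank3
  have : omegaS S = ⊥ := le_bot_iff.1 ((omegaS_le S).trans e.le)
  change 2 ^ 3 ≤ Nat.card (omegaS S) at h3
  rw [this, card_bot] at h3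
  omega

theorem Hyp.stronglyEmbedded (h : Hyp S) (hM : mid S ≠ ⊤) :
    Cfsg.IsStronglyEmbedded (mid S) :=
  isStronglyEmbedded_of_centralizer hM S h.sylow_ne_bot (sylow_le_mid S)
    (fun t ht ho => h.centralizer_le_mid (h.mem_omegaS.2 ⟨ht, mul_self_of_orderOf ho⟩)
      (ne_one_of_orderOf ho)) le_sup_right

theorem Hyp.exists_conj_omegaS (h : Hyp S) {t : G} (ht : t ∈ mid S) (ho : orderOf t = 2) :
    ∃ m ∈ mid S, m * t * m⁻¹ ∈ omegaS S := by
  haveI : Fact (Nat.Prime 2) := ⟨Nat.prime_two⟩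
  obtain ⟨m, hm, hmS⟩ := exists_conj_mem_sylow (S.subtype (sylow_le_mid S))
    (isPGroup_zpowers_of_orderOf ho) (zpowers_le.mpr ht)
  obtain ⟨y, hy, hy'⟩ := hmS t (mem_zpowers t)
  have hy2 : m * t * m⁻¹ ∈ (S : Subgroup G) := hy' ▸ hy
  exact ⟨m, hm, h.mem_omegaS.2 ⟨hy2, mul_self_of_orderOf ((orderOf_conj m t).trans ho)⟩⟩

theorem Hyp.centralizer_invol_le (h : Hyp S) {t : G} (ht : t ∈ mid S) (ho : orderOf t = 2) :
    centralizer ({t} : Set G) ≤ mid S := by
  obtain ⟨m, hm, hmA⟩ := h.exists_conj_omegaS ht ho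
  intro c hc
  have h1 := h.centralizer_le_mid hmA (ne_one_of_orderOf ((orderOf_conj m t).trans ho))
    (conj_mem_centralizer (g := m) hc)
  have := (mid S).mul_mem ((mid S).mul_mem ((mid S).inv_mem hm) h1) hm
  simpa [mul_assoc] using this

/-- `W` is the odd core of `M`: it contains every odd subgroup normalized by `M`. -/
theorem Hyp.le_oddPart_of_normal (h : Hyp S) {X : Subgroup G} (hX : Odd (Nat.card X))
    (hMX : mid S ≤ normalizer (X : Set G)) : X ≤ oddPart S :=
  h.le_oddPart hX ((omegaS_le_mid S).trans hMX)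

theorem Hyp.mid_le_normalizer_sup (h : Hyp S) :
    mid S ≤ normalizer ((oddPart S ⊔ (S : Subgroup G) : Subgroup G) : Set G) := by
  refine sup_le (le_sup_left.trans le_normalizer) fun g hg => ?_
  rw [mem_normalizer_iff_map_conj_eq, Subgroup.map_sup,
    mem_normalizer_iff_map_conj_eq.1 (h.normalizer_le hg),
    mem_normalizer_iff_map_conj_eq.1 hg]

end CfsgLib.AbelSolvCent
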