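import Cfsg.Agent.AbelSolvCent.Maximal
import Cfsg.Agent.LocalEven.ZJLocallyFree
import Cfsg.Agent.PLocal.SL2Section
import Cfsg.Agent.PLocal.PStability
import Cfsg.Agent.PLocal.PSolvable
import Cfsg.Agent.PLocal.CommutatorFacts

/-!
# Sylow subgroups and Glauberman's factorization, for the semiregularity of `W`

Plumbing for `GoodPrime`: maximal `p`-subgroups, Frattini arguments inside a subgroup, conjugates of
`A` inside odd index subgroups, and the factorization `H = O_{r'}(H) N(Z(J(P)))` of a solvable group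
with abelian Sylow 2-subgroups.
-/

set_option autoImplicit false
set_option linter.style.haveILetI false
set_option linter.unusedSectionVars false

namespace CfsgLib.AbelSolvCent

open Subgroup CfsgLib.SEmbed

universe u v

variable {G : Type u} [Group G] [Finite G] {p : ℕ} [Fact p.Prime]

/-- A maximal `p`-subgroup of `D` as a Sylow subgroup. -/
theorem card_of_max {D R : Subgroup G} (hRD : R ≤ D) (hRp : IsPGroup p R)
    (hmax : ∀ P : Subgroup G, IsPGroup p P → R ≤ P → P ≤ D → P = R) :
    Nat.card R = p ^ (Nat.card D).factorization p := by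
  obtain ⟨P, hP⟩ := (hRp.of_equiv (subgroupOfEquivOfLe hRD).symm).exists_le_sylow
  have h1 : (P : Subgroup D).map D.subtype = R :=
    hmax _ (P.isPGroup'.map _) (fun x hx => ⟨⟨x, hRD hx⟩, hP hx, rfl⟩) (map_subtype_le _)
  rw [← h1, card_map_of_injective D.subtype_injective, P.card_eq_multiplicity]

theorem factorization_le_of_le {H K : Subgroup G} (h : H ≤ K) :
    (Nat.card H).factorization p ≤ (Nat.card K).factorization p :=
  (Nat.factorization_le_iff_dvd Nat.card_pos.ne' Nat.card_pos.ne').2 (card_dvd_of_le h) p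

theorem card_inf_of_max {E D R : Subgroup G} (hED : E ≤ D) (hDE : D ≤ normalizer (E : Set G))
    (hRD : R ≤ D) (hRp : IsPGroup p R)
    (hmax : ∀ P : Subgroup G, IsPGroup p P → R ≤ P → P ≤ D → P = R) :
    Nat.card ↥(R ⊓ E) = p ^ (Nat.card E).factorization p := by
  have hR := card_of_max hRD hRp hmax
  obtain ⟨k, hk⟩ := IsPGroup.iff_card.1 (hRp.to_le (inf_le_left : R ⊓ E ≤ R))
  have hpp := (Fact.out : p.Prime)
  have h1 := congrArg (fun n => n.factorization p)
    (CfsgLib.PLocal.card_sup_mul_card_inf (hRD.trans hDE))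
  rw [hR, hk] at h1
  rw [Nat.factorization_mul Nat.card_pos.ne' (pow_ne_zero _ hpp.ne_zero),
    Nat.factorization_mul (pow_ne_zero _ hpp.ne_zero) Nat.card_pos.ne', Finsupp.add_apply,
    Finsupp.add_apply, hpp.factorization_pow, hpp.factorization_pow, Finsupp.single_eq_same,
    Finsupp.single_eq_same] at h1
  have h2 := factorization_le_of_le (p := p) (sup_le hRD hED)
  have h3 := factorization_le_of_le (p := p) (inf_le_right : R ⊓ E ≤ E)
  simp only [hk, hpp.factorization_pow, Finsupp.single_eq_same] at h3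
  rw [hk]
  congr 1
  omega

/-- A maximal `p`-subgroup of `M` with normalizer in `M` is a Sylow subgroup. -/
theorem exists_sylow_of_max {M R : Subgroup G} (hRp : IsPGroup p R)
    (hmax : ∀ P : Subgroup G, IsPGroup p P → R ≤ P → P ≤ M → P = R)
    (hN : normalizer (R : Set G) ≤ M) : ∃ P : Sylow p G, (P : Subgroup G) = R := by
  obtain ⟨P, hP⟩ := hRp.exists_le_sylow
  refine ⟨P, le_antisymm ?_ hP⟩
  by_contra hle
  have hlt : R < (P : Subgroup G) := lt_of_le_of_ne hP fun e => hle e.ge
  have h1 := CfsgLib.ConjFunctor.lt_inf_normalizer P.2 hlt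
  have h2 : (P : Subgroup G) ⊓ normalizer (R : Set G) = R :=
    hmax _ (P.2.to_le inf_le_left) h1.le (inf_le_right.trans hN)
  exact h1.ne h2.symm

/-- Frattini argument inside a subgroup. -/
theorem exists_mul_normalizer {E R : Subgroup G} {d : G} (hd : d ∈ normalizer (E : Set G))
    (hRE : R ≤ E) (hc : Nat.card R = p ^ (Nat.card E).factorization p) :
    ∃ e ∈ E, e⁻¹ * d ∈ normalizer (R : Set G) := by
  have hle : R.map (MulAut.conj d).toMonoidHom ≤ E := by
    rintro _ ⟨x, hx, rfl⟩
    exact (mem_normalizer_iff.1 hd x).1 (hRE hx)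
  obtain ⟨l, hl, he⟩ := exists_conj_of_card_eq (p := p) hle hRE
    (by rw [card_map_of_injective (MulAut.conj d).injective, hc]) hc
  refine ⟨l, hl, ?_⟩
  have h2 : ((MulAut.conj l⁻¹).toMonoidHom).comp (MulAut.conj l).toMonoidHom = MonoidHom.id G :=
    MonoidHom.ext fun x => by simp [mul_assoc]
  rw [mem_normalizer_iff_map_conj_eq, show (MulAut.conj (l⁻¹ * d) : G →* G) =
    ((MulAut.conj l⁻¹).toMonoidHom).comp (MulAut.conj d).toMonoidHom from
      MonoidHom.ext fun x => by simp [mul_assoc], ← map_map]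
  rw [← he, map_map, h2, map_id]

/-- Conjugates of a Sylow subgroup inside a subgroup of the same 2-part. -/
theorem exists_conj_le {H A Q X : Subgroup G} (hA : A ≤ H) (hQH : Q ≤ H) (hQX : Q ≤ X)
    {k : ℕ} (hk : (Nat.card H).factorization p = k) (hAc : Nat.card A = p ^ k)
    (hQc : Nat.card Q = p ^ k) : ∃ l ∈ H, ∀ a ∈ A, l * a * l⁻¹ ∈ X := by
  subst hk
  obtain ⟨l, hl, he⟩ := exists_conj_of_card_eq hQH hA hQc hAc
  exact ⟨l, hl, fun a ha => hQX (he ▸ ⟨a, ha, rfl⟩)⟩

/-- **Glauberman's factorization** for a solvable group without section `SL(2, r)`. -/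
theorem zj_factor {H : Type*} [Group H] [Finite H] [Group.IsSolvable H] {r : ℕ} [Fact r.Prime]
    (hr : r ≠ 2) (hns : ¬ CfsgLib.PLocal.HasSL2Section r (⊤ : Subgroup H)) (P : Sylow r H) :
    Cfsg.pPrimeCore r H ⊔
      normalizer (Cfsg.centerThompsonAOf (P : Subgroup H) : Set H) = ⊤ := by
  set O := Cfsg.pPrimeCore r H with hO
  set π := QuotientGroup.mk' O with hπ
  have hcore := CfsgLib.PLocal.centralizer_pCore_le (p := r)
    (CfsgLib.PLocal.isPSolvable_quotient CfsgLib.PLocal.isPSolvable_of_isSolvable O)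
    (CfsgLib.PLocal.pPrimeCore_quotient_pPrimeCore_eq_bot r H)
  have hns' : ¬ CfsgLib.PLocal.HasSL2Section r (⊤ : Subgroup (H ⧸ O)) := fun h => hns
    (CfsgLib.PLocal.HasSL2Section.comap π (by
      rwa [Subgroup.map_top_of_surjective _ (QuotientGroup.mk'_surjective _)]))
  have hZbar := CfsgLib.PLocal.centerThompsonAOf_characteristic hr hcore
    (fun V hV hVp => @CfsgLib.PLocal.isPStableOn_of_no_section _ _ r _ _ hr hns' V hV hVp)
    (P.mapSurjective (QuotientGroup.mk'_surjective O))
  set Z := Cfsg.centerThompsonAOf (P : Subgroup H)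
  have hinj : Function.Injective (π.comp (P : Subgroup H).subtype) :=
    CfsgLib.PLocal.injective_comp_subtype_of_coprime P.isPGroup'
      (by rw [hπ, QuotientGroup.ker_mk']; exact CfsgLib.PLocal.coprime_card_pPrimeCore r H)
  have hmap : Z.map π = Cfsg.centerThompsonAOf ((P : Subgroup H).map π) := by
    rw [show Z = Cfsg.thompsonSubgroupAOf (P : Subgroup H) ⊓ centralizer
      (Cfsg.thompsonSubgroupAOf (P : Subgroup H) : Set H) from rfl,
      CfsgLib.PLocal.map_inf_centralizer_self_of_injOn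
        (CfsgLib.PLocal.thompsonSubgroupAOf_le _) hinj,
      CfsgLib.PLocal.map_thompsonSubgroupAOf_of_injOn hinj]
    rfl
  have hn : (Z.map π).Normal := by
    rw [hmap]; exact @Subgroup.normal_of_characteristic _ _ _ hZbar
  have hZp : IsPGroup r Z := P.isPGroup'.to_le (CfsgLib.PLocal.centerThompsonAOf_le _)
  have h1 := CfsgLib.PLocal.normalizer_map_mk'_eq O
    (CfsgLib.PLocal.coprime_card_pPrimeCore r H) hZp
  rw [← hπ, Subgroup.normalizer_eq_top_iff.mpr hn] at h1
  have h2 := congrArg (Subgroup.comap π) h1.symm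
  rw [Subgroup.comap_top, Subgroup.comap_map_eq, hπ, QuotientGroup.ker_mk'] at h2
  rw [sup_comm]; exact h2

namespace Ctx

variable {Ω : Type v} [MulAction G Ω] (c : Ctx G Ω)

include c in
theorem not_sl2Section (z : Ω) {r : ℕ} [Fact r.Prime] (hr : r ≠ 2) (H : Subgroup G) :
    ¬ CfsgLib.PLocal.HasSL2Section r H :=
  CfsgLib.PLocal.not_hasSL2Section_of_abelian_sylow_two hr fun T =>
    abelian_sylow_subgroup (c.syl z) (c.hyp z).ab H T

include c in
theorem free (z : Ω) {r : ℕ} [Fact r.Prime] (hr : r ≠ 2) (X : Subgroup G) :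
    CfsgLib.LocalEven.LocallyFree.Free r X := fun H _ f hf =>
  c.not_sl2Section z hr H ⟨H, le_rfl, f, hf⟩

include c in
/-- The factorization inside a solvable subgroup. -/
theorem le_core_sup (z : Ω) {r : ℕ} [Fact r.Prime] (hr : r ≠ 2) {H R : Subgroup G}
    [Group.IsSolvable H] (hRH : R ≤ H) (hRp : IsPGroup r R)
    (hmax : ∀ P : Subgroup G, IsPGroup r P → R ≤ P → P ≤ H → P = R) :
    H ≤ (Cfsg.pPrimeCore r H).map H.subtype ⊔
      (normalizer (Cfsg.centerThompsonAOf R : Set G) ⊓ H) := by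
  have hns : ¬ CfsgLib.PLocal.HasSL2Section r (⊤ : Subgroup H) := fun h =>
    c.not_sl2Section z hr _ h.map_subtype
  have hc : Nat.card (R.subgroupOf H) = r ^ (Nat.card H).factorization r := by
    rw [Nat.card_congr (subgroupOfEquivOfLe hRH).toEquiv, card_of_max hRH hRp hmax]
  let P : Sylow r H := Sylow.ofCard _ hc
  have hfac := zj_factor hr hns P
  have hPm : (P : Subgroup H).map H.subtype = R := by
    rw [show (P : Subgroup H) = R.subgroupOf H from rfl, subgroupOf_map_subtype, inf_eq_left.2 hRH]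
  have h1 := congrArg (Subgroup.map H.subtype) hfac
  rw [Subgroup.map_sup, ← MonoidHom.range_eq_map, range_subtype] at h1
  refine h1.ge.trans (sup_le_sup le_rfl ?_)
  rintro _ ⟨x, hx, rfl⟩
  refine ⟨?_, x.2⟩
  have h2 := (le_normalizer_map H.subtype) (mem_map_of_mem H.subtype hx)
  rwa [CfsgLib.PLocal.map_centerThompsonAOf H.subtype_injective, hPm] at h2

theorem odd_of_pow {r : ℕ} [Fact r.Prime] (hr : r ≠ 2) {X : Subgroup G} (hX : IsPGroup r X) :
    Odd (Nat.card X) := by
  obtain ⟨k, hk⟩ := IsPGroup.iff_card.1 hX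
  rw [hk]
  exact ((Fact.out : r.Prime).odd_of_ne_two hr).pow

/-- The subgroup `W z ⊔ A z` has 2-part `A z`. -/
theorem card_W_sup_A (z : Ω) :
    Nat.card ↥(c.W z ⊔ c.A z) = Nat.card (c.W z) * Nat.card (c.A z) :=
  CfsgLib.Coprime.card_sup_eq ((c.A_le_stab z).trans (c.stab_le_normalizer_W z))
    (CfsgLib.Coprime.inf_eq_bot_of_coprime
      (CfsgLib.Transitivity.coprime_card_of_elab (c.hyp z).elab
        (c.odd_W z).not_two_dvd_nat).symm)

/-- A conjugate of `A` normalizes the Sylow subgroup `T` of an odd normal subgroup of a two-point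
stabilizer, once an involution at `z` does. -/
theorem exists_conj_A_normalizer {r : ℕ} [Fact r.Prime] {z y : Ω} (hy : y ≠ z) {T : Subgroup G}
    (hTE : T ≤ c.W z ⊓ pairStab G z y)
    (hTc : Nat.card T = r ^ (Nat.card ↥(c.W z ⊓ pairStab G z y)).factorization r)
    {i : G} (hiT : i ∈ normalizer (T : Set G)) (hiz : i ∈ invMap (G := G) z z) :
    ∃ l ∈ MulAction.stabilizer G z, ∀ a ∈ c.A z, l * a * l⁻¹ ∈ normalizer (T : Set G) := by
  haveI : Fact (Nat.Prime 2) := ⟨Nat.prime_two⟩
  set D := pairStab G z y with hD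
  set E := c.W z ⊓ D with hE
  set K := c.W z ⊔ c.A z with hK
  set X := normalizer (T : Set G) ⊓ K with hX
  have hDM : D ≤ MulAction.stabilizer G z := inf_le_left
  have hDE : D ≤ normalizer (E : Set G) :=
    (le_inf (hDM.trans (c.stab_le_normalizer_W z)) le_normalizer).trans
      inf_normalizer_le_normalizer_inf
  have hA : c.A z ≤ c.W z ⊔ X := by
    intro a ha
    by_cases ha1 : a = 1
    · rw [ha1]; exact one_mem _
    obtain ⟨d, hd, hda⟩ := SEmbed.exists_conj_fix c.fix hy.symm hiz (c.A_mem ha ha1)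
    obtain ⟨e, he, hn⟩ := exists_mul_normalizer (hDE hd) hTE hTc
    have hs : e⁻¹ * a * e ∈ normalizer (T : Set G) := by
      rw [← hda, show e⁻¹ * (d * i * d⁻¹) * e = (e⁻¹ * d) * i * (e⁻¹ * d)⁻¹ by group]
      exact mul_mem (mul_mem hn hiT) (inv_mem hn)
    have hsK : e⁻¹ * a * e ∈ K :=
      mul_mem (mul_mem (mem_sup_left (inv_mem he.1)) (mem_sup_right ha)) (mem_sup_left he.1)
    rw [show a = e * (e⁻¹ * a * e) * e⁻¹ by group]
    exact mul_mem (mul_mem (mem_sup_left he.1) (mem_sup_right ⟨hs, hsK⟩))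
      (mem_sup_left (inv_mem he.1))
  have hKeq : X ⊔ c.W z = K :=
    le_antisymm (sup_le inf_le_right le_sup_left)
      (sup_le le_sup_right (hA.trans (sup_comm _ _).le))
  have hXW : X ≤ normalizer (c.W z : Set G) := inf_le_right.trans
    (sup_le le_normalizer ((c.A_le_stab z).trans (c.stab_le_normalizer_W z)))
  have h1 := CfsgLib.PLocal.card_sup_mul_card_inf hXW
  rw [hKeq, hK, c.card_W_sup_A] at h1
  obtain ⟨n, hn⟩ := IsPGroup.iff_card.1 ((c.syl z).isPGroup'.to_le (omegaS_le (c.syl z)))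
  have hWodd := c.odd_W z
  have hdvd : 2 ^ n ∣ Nat.card X := by
    refine ⟨Nat.card ↥(X ⊓ c.W z),
      Nat.eq_of_mul_eq_mul_right (Nat.card_pos (α := c.W z)) ?_⟩
    rw [← h1, ← hn]; ring
  obtain ⟨Q, hQ⟩ := Sylow.exists_subgroup_card_pow_prime 2 hdvd
  have hv : (Nat.card K).factorization 2 = n := by
    rw [hK, c.card_W_sup_A, hn, Nat.factorization_mul Nat.card_pos.ne' (by positivity),
      Finsupp.add_apply, Nat.prime_two.factorization_pow, Finsupp.single_eq_same,
      Nat.factorization_eq_zero_of_not_dvd hWodd.not_two_dvd_nat, zero_add]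
  obtain ⟨l, hl, hlA⟩ := exists_conj_le (H := K) (A := c.A z) (Q := Q.map X.subtype)
    (X := normalizer (T : Set G)) le_sup_right ((map_subtype_le _).trans inf_le_right)
    ((map_subtype_le _).trans inf_le_left) hv hn
    (by rw [card_map_of_injective X.subtype_injective, hQ])
  exact ⟨l, sup_le (c.W_le_stab z) (c.A_le_stab z) hl, hlA⟩

end Ctx

end CfsgLib.AbelSolvCent
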